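import Cfsg.Agent.Lib.MinimalNonCA.Chief

/-!
Sylow 2-subgroups above a non-central chief factor.
-/

set_option autoImplicit false

namespace CfsgLib.MinimalNonCA

open Subgroup
open scoped commutatorElement

universe u

variable {G : Type u} [Group G]

/-- A 2-element mapping onto a given element of order at most two. -/
theorem exists_two_lift [Finite G] {N : Subgroup G} [N.Normal] (q : G ⧸ N) (hq : q * q = 1) :
    ∃ w : G, (∃ n, orderOf w = 2 ^ n) ∧ QuotientGroup.mk' N w = q := by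
  obtain ⟨g, rfl⟩ := QuotientGroup.mk'_surjective N q
  obtain ⟨a, m, hm, he⟩ := Nat.exists_eq_two_pow_mul_odd (orderOf_pos g).ne'
  refine ⟨g ^ m, ⟨a, ?_⟩, ?_⟩
  · rw [orderOf_pow_of_dvd hm.pos.ne' (he ▸ dvd_mul_left m _), he,
      Nat.mul_div_cancel _ hm.pos]
  · obtain ⟨k, hk⟩ := hm
    rw [map_pow, hk, pow_succ, pow_mul, pow_two, hq, one_pow, one_mul]

/-- An abelian 2-group with at most one involution is cyclic. -/
theorem isCyclic_of_unique {P : Type*} [Group P] [Finite P] (hP : IsPGroup 2 P)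
    (hab : ∀ a b : P, Commute a b)
    (hu : ∀ a b : P, a * a = 1 → b * b = 1 → a ≠ 1 → b ≠ 1 → a = b) : IsCyclic P := by
  let sq : P →* P := MonoidHom.mk' (fun a => a * a) fun a b => by
    calc a * b * (a * b) = a * (b * a) * b := by group
      _ = a * (a * b) * b := by rw [(hab b a).eq]
      _ = a * a * (b * b) := by group
  by_cases hs : sq.range = ⊤
  · have hker : sq.ker = ⊥ := MonoidHom.ker_eq_bot_iff _ |>.2
      (Finite.injective_iff_surjective.2 (MonoidHom.range_eq_top.1 hs))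
    have : Subsingleton P := by
      by_contra hn
      rw [not_subsingleton_iff_nontrivial] at hn
      have : Fact (Nat.Prime 2) := ⟨Nat.prime_two⟩
      obtain ⟨n, hn0, hcard⟩ := hP.nontrivial_iff_card.1 hn
      obtain ⟨x, hx⟩ := exists_prime_orderOf_dvd_card' (G := P) 2 (hcard ▸ dvd_pow_self 2 hn0.ne')
      have h1 : x ∈ sq.ker := by
        show x * x = 1
        rw [← pow_two, ← hx, pow_orderOf_eq_one]
      rw [hker, mem_bot] at h1
      rw [h1, orderOf_one] at hx
      omega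
    infer_instance
  · obtain ⟨g, -, hg⟩ := SetLike.exists_of_lt (lt_top_iff_ne_top.2 hs)
    refine ⟨g, fun x => ?_⟩
    have step : ∀ x : P, ∃ i : ℕ, ∃ y : P, x = g ^ i * (y * y) := fun x => by
      by_cases hx : x ∈ sq.range
      · obtain ⟨y, hy⟩ := hx
        exact ⟨0, y, by rw [pow_zero, one_mul]; exact hy.symm⟩
      by_cases hgx : g⁻¹ * x ∈ sq.range
      · obtain ⟨y, hy⟩ := hgx
        exact ⟨1, y, by rw [pow_one]; rw [show y * y = g⁻¹ * x from hy, mul_inv_cancel_left]⟩
      exfalso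
      haveI : sq.range.Normal := ⟨fun n hn a => by
        rwa [(hab a n).eq, mul_inv_cancel_right]⟩
      have hle : sq.range.index ≤ 2 := by
        have hker : Nat.card sq.ker ≤ 2 := by
          by_contra h3
          obtain ⟨a, ha, ha1⟩ : ∃ a ∈ sq.ker, a ≠ 1 := by
            by_contra e
            push Not at e
            rw [(Subgroup.eq_bot_iff_forall _).2 e, card_bot] at h3
            omega
          have : Nat.card sq.ker ≤ Nat.card ({1, a} : Set P) := Nat.card_mono (Set.toFinite _)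
            fun b hb => by
              by_cases hb1 : b = 1
              · exact Or.inl hb1
              · exact Or.inr (hu b a hb ha hb1 ha1)
          rw [Nat.card_coe_set_eq] at this
          have := Set.ncard_insert_le (1 : P) {a}
          rw [Set.ncard_singleton] at this
          omega
        have h1 := sq.range.index_mul_card
        have h2 := sq.ker.card_mul_index
        rw [Subgroup.index_ker] at h2
        have h3 : 0 < Nat.card sq.range := Nat.card_pos
        exact Nat.le_of_mul_le_mul_right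
          (h1.le.trans (h2.ge.trans (Nat.mul_le_mul_right _ hker))) h3
      have h2 : sq.range.index = 2 := by
        have : sq.range.index ≠ 0 := index_ne_zero_of_finite
        have : sq.range.index ≠ 1 := fun e => hs (index_eq_one.1 e)
        omega
      exact hgx ((mul_mem_iff_of_index_two h2).2
        ⟨fun h => absurd ((inv_mem_iff).1 h) hg, fun h => absurd h hx⟩)
    have key : ∀ n : ℕ, ∃ i : ℕ, ∃ y : P, x = g ^ i * y ^ (2 ^ n) := by
      intro n
      induction n with
      | zero => exact ⟨0, x, by simp⟩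
      | succ n ih =>
        obtain ⟨i, y, hy⟩ := ih
        obtain ⟨j, z, hz⟩ := step y
        refine ⟨i + j * 2 ^ n, z, ?_⟩
        rw [hy, hz, (hab _ _).mul_pow, ← mul_assoc, ← pow_mul, ← pow_add, ← pow_two z, ← pow_mul,
          pow_succ' 2 n]
    obtain ⟨n, hn⟩ := hP.exists_card_eq
    obtain ⟨i, y, hy⟩ := key n
    rw [← hn, pow_card_eq_one', mul_one] at hy
    exact ⟨(i : ℤ), by simp only [zpow_natCast]; exact hy.symm⟩

namespace Chief

variable {X : Subgroup G} {r : ℕ} (h : Chief G X r)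
include h

theorem sylow_not_le [Finite G] (S : Sylow 2 G) : ¬ (S : Subgroup G) ≤ jKer X := fun hle => by
  have : Fact (Nat.Prime 2) := ⟨Nat.prime_two⟩
  exact S.not_dvd_index (h.two_dvd_index.trans (index_dvd_of_le hle))

/-- An involution of `G / J`, lifted to a 2-element. -/
theorem exists_involution [Finite G] :
    ∃ w : G, (∃ n, orderOf w = 2 ^ n) ∧ w ∉ jKer X ∧ w * w ∈ jKer X := by
  haveI := h.jKer_normal
  have : Fact (Nat.Prime 2) := ⟨Nat.prime_two⟩
  obtain ⟨q, hq⟩ := exists_prime_orderOf_dvd_card' (G := G ⧸ jKer X) 2 h.two_dvd_index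
  obtain ⟨w, hw, e⟩ := exists_two_lift q (by rw [← pow_two, ← hq, pow_orderOf_eq_one])
  refine ⟨w, hw, fun hj => ?_, ?_⟩
  · have : QuotientGroup.mk' (jKer X) w = 1 := (QuotientGroup.eq_one_iff w).2 hj
    rw [e] at this
    rw [this, orderOf_one] at hq
    omega
  · refine (QuotientGroup.eq_one_iff (w * w)).1 ?_
    show QuotientGroup.mk' (jKer X) (w * w) = 1
    rw [map_mul, e, ← pow_two, ← hq, pow_orderOf_eq_one]

/-- Above a non-abelian Sylow 2-subgroup: an element outside `J` with square centralising `X`,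
and every element is a product of two such or lies in `J`. -/
theorem sylow_shape [Finite G] (S : Sylow 2 G)
    (hS : ∃ a ∈ (S : Subgroup G), ∃ b ∈ (S : Subgroup G), ¬ Commute a b) :
    ∃ B : Set G, (∀ b ∈ B, b ∈ (S : Subgroup G) ∧ b * b ∈ centralizer (X : Set G)) ∧
      (∃ b ∈ B, b ∉ jKer X) ∧
      ∀ s ∈ (S : Subgroup G), s ∈ B ∨ ∃ b ∈ B, ∃ b' ∈ B, s = b * b' := by
  have : Fact (Nat.Prime 2) := ⟨Nat.prime_two⟩
  obtain ⟨H, hH, hJ, hSH⟩ := h.exists_pgroup S.isPGroup'
  obtain ⟨c₁, hc₁, c₂, hc₂, hne⟩ := hS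
  have hCA : IsCA (S : Subgroup G) := isCA_subgroup.2 (hH.mono hSH)
  obtain ⟨A, hAn, hA, -, -, hsq, -, -⟩ := two_group_shape S.isPGroup' hCA
    ⟨⟨c₁, hc₁⟩, ⟨c₂, hc₂⟩, fun e => hne (congrArg Subtype.val e)⟩
  have hcent : ∀ z : (S : Subgroup G), z ∈ center (S : Subgroup G) →
      (z : G) ∈ centralizer (X : Set G) := fun z hz => mem_cKer.2 fun x hx =>
    hH.central (hSH z.2) (hSH hc₁) (hSH hc₂)
      (congrArg Subtype.val (mem_center_iff.1 hz ⟨c₁, hc₁⟩)).symm
      (congrArg Subtype.val (mem_center_iff.1 hz ⟨c₂, hc₂⟩)).symm hne (hJ (h.le_jKer hx))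
  let B : Set G := {b | ∃ hb : b ∈ (S : Subgroup G), (⟨b, hb⟩ : (S : Subgroup G)) ∉ A}
  have hdec : ∀ s ∈ (S : Subgroup G), s ∈ B ∨ ∃ b ∈ B, ∃ b' ∈ B, s = b * b' := fun s hs => by
    by_cases hsA : (⟨s, hs⟩ : (S : Subgroup G)) ∈ A
    · obtain ⟨⟨b, hb⟩, -, hbA⟩ := SetLike.exists_of_lt (lt_top_iff_ne_top.2 hA)
      refine Or.inr ⟨b, ⟨hb, hbA⟩, b⁻¹ * s, ⟨mul_mem (inv_mem hb) hs, fun e => hbA ?_⟩,
        (mul_inv_cancel_left b s).symm⟩
      have e' : (⟨b, hb⟩ : (S : Subgroup G))⁻¹ * ⟨s, hs⟩ ∈ A := e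
      exact inv_mem_iff.1 ((A.mul_mem_cancel_right hsA).1 e')
    · exact Or.inl ⟨hs, hsA⟩
  refine ⟨B, fun b ⟨hb, hbA⟩ => ⟨hb, hcent _ (hsq _ hbA)⟩, ?_, hdec⟩
  by_contra hne'
  push Not at hne'
  refine h.sylow_not_le S fun s hs => ?_
  rcases hdec s hs with hb | ⟨b, hb, b', hb', rfl⟩
  · exact hne' s hb
  · exact mul_mem (hne' b hb) (hne' b' hb')

end Chief

end CfsgLib.MinimalNonCA
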