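import Cfsg.Agent.Lib.MinimalNonCA.CentralTools
import Cfsg.Agent.Lib.Transfer.NormalComplement
import Cfsg.Agent.S0215

/-!
Perfect groups with CA proper subgroups and central proper normal subgroups:
the centralisers of involutions of the simple quotient have normal 2-complements.
-/

set_option autoImplicit false

namespace CfsgLib.MinimalNonCA

open Subgroup
open scoped commutatorElement

universe u

variable {G : Type u} [Group G]

/-- Quasisimple with CA proper subgroups. -/
structure Quasi (G : Type u) [Group G] : Prop where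
  perfect : commutator G = ⊤
  nonsolv : ¬ Group.IsSolvable G
  central : ∀ N : Subgroup G, N.Normal → N ≠ ⊤ → N ≤ center G
  properCA : ProperCA G

namespace Quasi

variable (h : Quasi G)
include h

theorem center_ne_top : center G ≠ ⊤ := fun e =>
  h.nonsolv (Group.isSolvable_of_comm fun a b => (mem_center_iff.1 (e ▸ mem_top b) a))

theorem nontrivial_quotient : Nontrivial (G ⧸ center G) :=
  QuotientGroup.nontrivial_iff.2 h.center_ne_top

theorem simple : IsSimpleGroup (G ⧸ center G) := by
  haveI := h.nontrivial_quotient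
  refine ⟨fun N hN => ?_⟩
  by_cases e : N.comap (QuotientGroup.mk' (center G)) = ⊤
  · exact Or.inr (comap_injective (QuotientGroup.mk'_surjective _) (e.trans (comap_top _).symm))
  · refine Or.inl ((eq_bot_iff_forall _).2 fun q hq => ?_)
    obtain ⟨g, rfl⟩ := QuotientGroup.mk'_surjective (center G) q
    exact (QuotientGroup.eq_one_iff g).2 (h.central _ (hN.comap _) e hq)

theorem quotient_not_comm : ¬ IsMulCommutative (G ⧸ center G) := fun hc =>
  h.nonsolv (by
    have : Group.IsSolvable (G ⧸ center G) := Group.isSolvable_of_comm fun a b => mul_comm' a b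
    have : Group.IsSolvable (center G) := Group.isSolvable_of_comm fun a b => mul_comm' a b
    exact (Group.isSolvable_iff_subgroup_quotient (center G)).2 ⟨inferInstance, inferInstance⟩)

/-- A normal 2-subgroup is central. -/
theorem central_of_pGroup [Finite G] {E : Subgroup G} (hE : IsPGroup 2 E) (hn : E.Normal) :
    E ≤ center G := by
  refine h.central E hn fun e => h.nonsolv ?_
  have : Fact (Nat.Prime 2) := ⟨Nat.prime_two⟩
  subst e
  have := hE.isNilpotent
  exact Group.isSolvable_of_surjective (f := (⊤ : Subgroup G).subtype)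
    fun g => ⟨⟨g, mem_top g⟩, rfl⟩

theorem normalizer_ne_top [Finite G] {E : Subgroup G} (hE : IsPGroup 2 E) {y : G} (hyE : y ∈ E)
    (hy : y ∉ center G) : normalizer (E : Set G) ≠ ⊤ := fun e =>
  hy (h.central_of_pGroup hE (normalizer_eq_top_iff.1 e) hyE)

/-- Normalisers of 2-subgroups containing a 2-element central in a non-abelian Sylow subgroup
centralise it. -/
theorem normalizer_centralizes [Finite G] {y : G} (hy : y ∉ center G) (hy2 : ∃ n, orderOf y = 2 ^ n)
    (hP : ∀ P : Sylow 2 G, (P : Subgroup G) ≤ centralizer {y} →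
      ∃ a ∈ (P : Subgroup G), ∃ b ∈ (P : Subgroup G), ¬ Commute a b)
    (P₀ : Sylow 2 G) (hP₀ : (P₀ : Subgroup G) ≤ centralizer {y}) :
    ∀ E : Subgroup G, IsPGroup 2 E → y ∈ E → E ≤ centralizer {y} →
      ∀ n ∈ normalizer (E : Set G), Commute n y := by
  have : Fact (Nat.Prime 2) := ⟨Nat.prime_two⟩
  suffices H : ∀ k, ∀ E : Subgroup G, Nat.card G - Nat.card E = k → IsPGroup 2 E → y ∈ E →
      E ≤ centralizer {y} → ∀ n ∈ normalizer (E : Set G), Commute n y from fun E => H _ E rfl
  intro k
  induction k using Nat.strong_induction_on with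
  | _ k ih =>
    intro E hk hE hyE hEC n hn
    obtain ⟨Q₀, hQ₀⟩ := (hE.comap_of_injective (centralizer {y}).subtype
      (centralizer {y}).subtype_injective).exists_le_sylow
    set Q := (Q₀ : Subgroup (centralizer {y})).map (centralizer {y}).subtype with hQdef
    have hEQ : E ≤ Q := fun e he => ⟨⟨e, hEC he⟩, hQ₀ he, rfl⟩
    have hQC : Q ≤ centralizer {y} := map_subtype_le _
    have hQP : IsPGroup 2 Q := Q₀.isPGroup'.map _
    have hQcard : Nat.card Q = Nat.card (P₀ : Subgroup G) := by
      obtain ⟨R, hR⟩ := (P₀.isPGroup'.comap_of_injective (centralizer {y}).subtype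
        (centralizer {y}).subtype_injective).exists_le_sylow
      refine le_antisymm ?_ ?_
      · obtain ⟨P', hP'⟩ := hQP.exists_le_sylow
        exact (Nat.le_of_dvd Nat.card_pos (card_dvd_of_le hP')).trans_eq
          (Nat.card_congr (P'.equiv P₀).toEquiv)
      · have h1 : (P₀ : Subgroup G) ≤ (R : Subgroup (centralizer {y})).map (centralizer {y}).subtype :=
          fun x hx => ⟨⟨x, hP₀ hx⟩, hR hx, rfl⟩
        refine (Nat.le_of_dvd Nat.card_pos (card_dvd_of_le h1)).trans_eq ?_
        rw [hQdef, card_map_of_injective (centralizer {y}).subtype_injective,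
          card_map_of_injective (centralizer {y}).subtype_injective]
        exact Nat.card_congr (R.equiv Q₀).toEquiv
    obtain ⟨P, hQP'⟩ := hQP.exists_le_sylow
    have hPQ : Q = (P : Subgroup G) :=
      eq_of_le_of_card_ge hQP' ((Nat.card_congr (P.equiv P₀).toEquiv).trans hQcard.symm).le
    set H := normalizer (E : Set G) with hH
    have hHt := h.normalizer_ne_top hE hyE hy
    have hHCA := h.properCA H hHt
    have hyH : y ∈ H := le_normalizer hyE
    by_cases hEP : E = Q
    · obtain ⟨a, ha, b, hb, hne⟩ := hP P (hPQ ▸ hQC)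
      rw [← hPQ, ← hEP] at ha hb
      exact (hHCA.central hyH (le_normalizer ha) (le_normalizer hb)
        (mem_centralizer_singleton_iff.1 (hEC ha)).symm
        (mem_centralizer_singleton_iff.1 (hEC hb)).symm hne hn).symm
    by_contra hnc
    have hcomm : ∀ u ∈ H, ∀ v ∈ H, Commute y u → Commute y v → Commute u v :=
      fun u hu v hv => hHCA y hyH u hu v hv ⟨n, hn, fun e => hnc e.symm⟩
    let A : Subgroup G :=
      { carrier := {u | u ∈ H ∧ Commute y u ∧ ∃ j, u ^ 2 ^ j = 1}
        one_mem' := ⟨one_mem _, Commute.one_right _, 0, one_pow _⟩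
        mul_mem' := fun {a b} ⟨ha, ha', i, hai⟩ ⟨hb, hb', j, hbj⟩ =>
          ⟨mul_mem ha hb, ha'.mul_right hb', i + j, by
            rw [(hcomm a ha b hb ha' hb').mul_pow, pow_add, pow_mul, hai, one_pow, one_mul,
              mul_comm (2 ^ i), pow_mul, hbj, one_pow]⟩
        inv_mem' := fun {a} ⟨ha, ha', i, hai⟩ =>
          ⟨inv_mem ha, ha'.inv_right, i, by rw [inv_pow, hai, inv_one]⟩ }
    have hA2 : IsPGroup 2 A := isPGroup_iff_pow_pow_eq_one.2 fun ⟨u, hu⟩ => by
      obtain ⟨j, hj⟩ := hu.2.2
      exact ⟨j, Subtype.ext hj⟩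
    have hEA : E < A := by
      have hlt : E < Q := lt_of_le_of_ne hEQ hEP
      have hnil : Group.IsNilpotent Q := hQP.isNilpotent
      have hlt' : E.subgroupOf Q < ⊤ :=
        lt_top_iff_ne_top.2 fun e => hlt.not_ge (subgroupOf_eq_top.1 e)
      obtain ⟨⟨q, hqQ⟩, hq, hq1⟩ :=
        SetLike.exists_of_lt (normalizerCondition_of_isNilpotent _ hlt')
      have hmemA : ∀ {u}, u ∈ Q → u ∈ H → u ∈ A := fun {u} hu huH => ⟨huH,
        (mem_centralizer_singleton_iff.1 (hQC hu)).symm,
        (by obtain ⟨j, hj⟩ := hQP ⟨u, hu⟩; exact ⟨j, congrArg Subtype.val hj⟩)⟩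
      refine lt_of_le_of_ne (fun e he => hmemA (hEQ he) (le_normalizer he)) fun e => ?_
      refine hq1 (mem_subgroupOf.2 (e.ge (hmemA hqQ ?_)))
      refine mem_normalizer_iff.2 fun x => ?_
      constructor
      · intro hx
        exact (mem_normalizer_iff.1 hq ⟨x, hEQ hx⟩).1 hx
      · intro hx
        have hxQ : x ∈ Q := by
          have := mul_mem (mul_mem (inv_mem hqQ) (hEQ hx)) hqQ
          simpa [mul_assoc] using this
        exact (mem_normalizer_iff.1 hq ⟨x, hxQ⟩).2 hx
    have hnA : n ∈ normalizer (A : Set G) := mem_normalizer_fintype fun u ⟨hu, hu', j, hj⟩ => by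
      refine ⟨mul_mem (mul_mem hn hu) (inv_mem hn), ?_, j, by rw [conj_pow, hj, mul_one, mul_inv_cancel]⟩
      have hyn : n⁻¹ * y * n ∈ E := by
        simpa using (mem_normalizer_iff.1 (inv_mem hn) y).1 hyE
      have h1 : Commute (n⁻¹ * y * n) u := hcomm _ (le_normalizer hyn) u hu
        (mem_centralizer_singleton_iff.1 (hEC hyn)).symm hu'
      have := h1.map (MulAut.conj n).toMonoidHom
      simpa [mul_assoc] using this
    have hAC : A ≤ centralizer {y} := fun u hu =>
      mem_centralizer_singleton_iff.2 hu.2.1.symm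
    refine hnc (ih _ ?_ A rfl hA2 (hEA.le hyE) hAC n hnA)
    rw [← hk]
    have h1 : Nat.card E < Nat.card A :=
      lt_of_le_of_ne (Nat.le_of_dvd Nat.card_pos (card_dvd_of_le hEA.le))
        fun e => hEA.ne (eq_of_le_of_card_ge hEA.le e.ge)
    have h2 : Nat.card A ≤ Nat.card G := Nat.le_of_dvd Nat.card_pos (card_subgroup_dvd_card A)
    omega

end Quasi

end CfsgLib.MinimalNonCA
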