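import Cfsg.Agent.Lib.MinimalNonCA.Central
import Cfsg.Agent.Lib.MinimalNonCA.Quasi

/-!
Quasisimple normal subgroups of CA-groups.
-/

set_option autoImplicit false

namespace CfsgLib.MinimalNonCA

open Subgroup
open scoped commutatorElement

universe u

theorem Quasi.congr {A B : Type u} [Group A] [Group B] (h : Quasi A) (e : A ≃* B) : Quasi B where
  perfect := by
    have he : Function.Surjective e.toMonoidHom := e.surjective
    have := Subgroup.map_commutator (⊤ : Subgroup A) ⊤ e.toMonoidHom
    rw [map_top_of_surjective _ he, ← _root_.commutator_def, ← _root_.commutator_def, h.perfect,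
      map_top_of_surjective _ he] at this
    exact this.symm
  nonsolv := fun hs => h.nonsolv (Group.isSolvable_of_isSolvable_injective (f := e.toMonoidHom)
    e.injective)
  central := fun N hN hne b hb => by
    have h1 := h.central _ (hN.comap e.toMonoidHom) (fun e' => hne (comap_injective e.surjective
      (e'.trans (comap_top _).symm))) (x := e.symm b)
      (show e (e.symm b) ∈ N by rwa [MulEquiv.apply_symm_apply])
    refine mem_center_iff.2 fun c => ?_
    have := congrArg e (mem_center_iff.1 h1 (e.symm c))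
    simpa using this
  properCA := fun H hH => by
    have h1 := h.properCA (H.comap e.toMonoidHom) fun e' => hH (comap_injective e.surjective
      (e'.trans (comap_top _).symm))
    rintro x hx y hy z hz ⟨w, hw, hne⟩ hxy hxz
    have hm : ∀ {u}, u ∈ H → e.symm u ∈ H.comap e.toMonoidHom := fun {u} hu => by
      show e (e.symm u) ∈ H
      rwa [MulEquiv.apply_symm_apply]
    have := (h1 _ (hm hx) _ (hm hy) _ (hm hz) ⟨_, hm hw, fun c => hne (by
      simpa using c.map e.toMonoidHom)⟩ (hxy.map e.symm.toMonoidHom)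
      (hxz.map e.symm.toMonoidHom)).map e.toMonoidHom
    simpa using this

variable {K : Type u} [Group K] [Finite K]

/-- Two normal quasisimple subgroups of a CA-group coincide. -/
theorem quasi_unique (hCA : IsCA K) {D E : Subgroup K} (hD : D.Normal) (hE : E.Normal)
    (hqD : Quasi D) (hqE : Quasi E) : D = E := by
  haveI := hD
  haveI := hE
  have nonab : ∀ {A : Subgroup K}, Quasi A → ∃ a ∈ A, ∃ b ∈ A, ¬ Commute a b := by
    intro A hA
    by_contra hne
    push Not at hne
    exact hA.nonsolv (Group.isSolvable_of_comm fun a b => Subtype.ext (hne a a.2 b b.2))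
  have sub : ∀ {A B : Subgroup K}, Quasi A → Quasi B → A.Normal → A ≤ B → A = B := by
    intro A B hA hB hAn hle
    by_contra hne
    obtain ⟨a, ha, b, hb, hab⟩ := nonab hA
    have h1 := hB.central (A.subgroupOf B) (hAn.subgroupOf B)
      (fun e => hne (le_antisymm hle (subgroupOf_eq_top.1 e)))
      (x := (⟨a, hle ha⟩ : B)) ha
    exact hab (congrArg Subtype.val (mem_center_iff.1 h1 ⟨b, hle hb⟩)).symm
  by_contra hne
  have hDM : D ⊓ E ≠ D := fun e => hne (sub hqD hqE hD (inf_eq_left.1 e))
  have hMZ : ∀ m ∈ D ⊓ E, ∀ d ∈ D, Commute m d := fun m hm d hd => by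
    have h1 := hqD.central ((D ⊓ E).subgroupOf D) inferInstance
      (fun e => hDM (le_antisymm inf_le_left (subgroupOf_eq_top.1 e))) (x := (⟨m, hm.1⟩ : D)) hm
    exact (congrArg Subtype.val (mem_center_iff.1 h1 ⟨d, hd⟩)).symm
  have hDD : ⁅D, D⁆ = D := by
    rw [← map_subtype_commutator, hqD.perfect, ← MonoidHom.range_eq_map, range_subtype]
  have h1 : ⁅⁅D, E⁆, D⁆ = ⊥ := le_bot_iff.1 (commutator_le.2 fun m hm d hd => mem_bot.2
    (commutatorElement_eq_one_iff_commute.2 (hMZ m (commutator_le_inf D E hm) d hd)))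
  have h2 : ⁅⁅E, D⁆, D⁆ = ⊥ := by rwa [commutator_comm E D]
  have h3 := commutator_commutator_eq_bot_of_rotate h1 h2
  rw [hDD] at h3
  obtain ⟨d₁, hd₁, d₂, hd₂, hd⟩ := nonab hqD
  obtain ⟨a, ha, b, hb, hab⟩ := nonab hqE
  have hc : ∀ x ∈ D, Commute a x := fun x hx =>
    (commutatorElement_eq_one_iff_commute.1 (mem_bot.1 (h3.le (commutator_mem_commutator hx ha)))).symm
  exact hd (hCA a d₁ d₂ (not_center_iff.2 ⟨b, hab⟩) (hc d₁ hd₁) (hc d₂ hd₂))

/-- A non-solvable finite group with CA proper subgroups is quasisimple or has a proper normal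
non-solvable subgroup. -/
theorem quasi_or_normal (hE : EvenOrder.{u}) (hns : ¬ Group.IsSolvable K) (hP : ProperCA K) :
    Quasi K ∨ ∃ N : Subgroup K, N.Normal ∧ N ≠ ⊤ ∧ ¬ Group.IsSolvable N := by
  refine or_iff_not_imp_right.2 fun hne => ?_
  push Not at hne
  have hp : commutator K = ⊤ := by
    by_contra he
    haveI := hne (commutator K) inferInstance he
    have : Group.IsSolvable (K ⧸ commutator K) :=
      Group.isSolvable_of_comm fun a b => @mul_comm (Abelianization K) _ a b
    exact hns ((Group.isSolvable_iff_subgroup_quotient (commutator K)).2 ⟨inferInstance, inferInstance⟩)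
  exact ⟨hp, hns, proper_normal_central hE hns hp hP hne, hP⟩

theorem exists_quasi_normal (hE : EvenOrder.{u}) :
    ∀ n, ∀ (K : Type u) [Group K] [Finite K], Nat.card K = n → IsCA K → ¬ Group.IsSolvable K →
      ∃ D : Subgroup K, D.Normal ∧ Quasi D := by
  intro n
  induction n using Nat.strong_induction_on with
  | _ n ih =>
    intro K _ _ hn hCA hns
    rcases quasi_or_normal hE hns hCA.properCA with hq | ⟨N, hN, hNt, hNs⟩
    · exact ⟨⊤, inferInstance, hq.congr topEquiv.symm⟩
    haveI := hN
    have hlt : Nat.card N < n := hn ▸ lt_of_le_of_ne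
      (Nat.le_of_dvd Nat.card_pos (card_subgroup_dvd_card N)) fun e => hNt (eq_top_of_card_eq N e)
    have hCAN : IsCA N := hCA.of_injective N.subtype N.subtype_injective
    obtain ⟨D, hD, hqD⟩ := ih _ hlt N rfl hCAN hNs
    refine ⟨D.map N.subtype, ⟨fun x hx g => ?_⟩,
      hqD.congr (D.equivMapOfInjective N.subtype N.subtype_injective)⟩
    obtain ⟨d, hd, rfl⟩ := hx
    let φ : N ≃* N := MulAut.conjNormal g
    have hφ : D.map φ.toMonoidHom = D := quasi_unique hCAN (hD.map _ φ.surjective) hD
      (hqD.congr (D.equivMapOfInjective φ.toMonoidHom φ.injective)) hqD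
    exact ⟨φ d, hφ.le ⟨d, hd, rfl⟩, MulAut.conjNormal_apply g d⟩

/-- A non-solvable group with CA proper subgroups is quasisimple or has a proper normal
quasisimple subgroup. -/
theorem quasi_or_component (hE : EvenOrder.{u}) (hns : ¬ Group.IsSolvable K) (hP : ProperCA K) :
    Quasi K ∨ ∃ L : Subgroup K, L.Normal ∧ L ≠ ⊤ ∧ Quasi L := by
  rcases quasi_or_normal hE hns hP with hq | ⟨N, hN, hNt, hNs⟩
  · exact Or.inl hq
  haveI := hN
  have hCAN : IsCA N := isCA_subgroup.2 (hP N hNt)
  obtain ⟨D, hD, hqD⟩ := exists_quasi_normal hE _ N rfl hCAN hNs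
  refine Or.inr ⟨D.map N.subtype, ⟨fun x hx g => ?_⟩,
    fun e => hNt (top_le_iff.1 (e ▸ map_subtype_le D)),
    hqD.congr (D.equivMapOfInjective N.subtype N.subtype_injective)⟩
  obtain ⟨d, hd, rfl⟩ := hx
  let φ : N ≃* N := MulAut.conjNormal g
  have hφ : D.map φ.toMonoidHom = D := quasi_unique hCAN (hD.map _ φ.surjective) hD
    (hqD.congr (D.equivMapOfInjective φ.toMonoidHom φ.injective)) hqD
  exact ⟨φ d, hφ.le ⟨d, hd, rfl⟩, MulAut.conjNormal_apply g d⟩

end CfsgLib.MinimalNonCA
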