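import Cfsg.Agent.Lib.MinimalNonCA.List
import Cfsg.Agent.Lib.Schur.SLTwo
import Cfsg.Agent.Lib.SchurSmall18.UniversalCover
import Cfsg.Agent.Lib.SchurSmall18.TwoNine
import Cfsg.Agent.Lib.Laws.Embed
import Cfsg.Agent.Lib.Small.OrderSixty
import Cfsg.Agent.Lib.InvChar.EightSylowMultiplier
import Cfsg.Agent.Lib.PSL2.Involution

/-!
Quasisimple minimal groups are `PSL₂`, `SL₂` or a triple cover of `SL₂(9)`.
-/

set_option autoImplicit false

namespace CfsgLib.MinimalNonCA

open Subgroup CfsgLib.SchurCover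
open scoped commutatorElement MatrixGroups

universe u

/-- Lifting to a stem extension when the multiplier has no part at the primes of its kernel. -/
theorem exists_cover_hom' {S G : Type u} [Group S] [Group G] [Finite S]
    (hperf : Group.IsPerfect S) (π : S →* G) (hπ : Function.Surjective π)
    {Γ : Type u} [Group Γ] [Finite Γ] (σ : Γ →* G)
    (hσ : Cfsg.IsStemExtension σ)
    (hM : ∀ p : ℕ, p.Prime → p ∣ Nat.card σ.ker → CfsgLib.Schur.NoMultiplierAt p S) :
    ∃ η : S →* Γ, σ.comp η = π ∧ Function.Surjective η := by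
  set f := fibreFst π σ with hf
  have hfs : Function.Surjective f := fibreFst_surjective π hσ.1
  have hfc := ker_fibreFst_le_center π (X := Γ) hσ.2.1
  set D := commutator (fibre π σ) with hD
  have hDm : D.map f = ⊤ := by
    rw [hD, map_commutator_eq f hfs, (Group.isPerfect_def).1 hperf]
  have hdec : ∀ a, ∃ d ∈ D, d⁻¹ * a ∈ f.ker := fun a => by
    obtain ⟨d, hd, e⟩ := hDm.ge (mem_top (f a))
    exact ⟨d, hd, by rw [MonoidHom.mem_ker, map_mul, map_inv, e, inv_mul_cancel]⟩
  have hDperf : D ≤ ⁅D, D⁆ := by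
    conv_lhs => rw [hD, _root_.commutator_def]
    rw [commutator_le]
    intro a _ b _
    obtain ⟨d, hd, h1⟩ := hdec a
    obtain ⟨e, he, h2⟩ := hdec b
    rw [← mul_inv_cancel_left d a, ← mul_inv_cancel_left e b]
    have c1 : ∀ x, x * (d⁻¹ * a) = (d⁻¹ * a) * x := mem_center_iff.1 (hfc h1)
    have c2 : ∀ x, x * (e⁻¹ * b) = (e⁻¹ * b) * x := mem_center_iff.1 (hfc h2)
    have heq : ⁅d * (d⁻¹ * a), e * (e⁻¹ * b)⁆ = ⁅d, e⁆ := by
      set z := d⁻¹ * a
      set z' := e⁻¹ * b
      rw [commutatorElement_def, commutatorElement_def]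
      calc d * z * (e * z') * (d * z)⁻¹ * (e * z')⁻¹
          = d * (z * (e * z')) * z⁻¹ * d⁻¹ * z'⁻¹ * e⁻¹ := by group
        _ = d * ((e * z') * z) * z⁻¹ * d⁻¹ * z'⁻¹ * e⁻¹ := by rw [c1]
        _ = d * e * (z' * d⁻¹) * z'⁻¹ * e⁻¹ := by group
        _ = d * e * (d⁻¹ * z') * z'⁻¹ * e⁻¹ := by rw [c2]
        _ = d * e * d⁻¹ * e⁻¹ := by group
    rw [heq]
    exact commutator_mem_commutator hd he
  have hst : Cfsg.IsStemExtension (f.comp D.subtype) := by
    refine ⟨fun s => ?_, fun d hd => mem_center_iff.2 fun x => Subtype.ext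
      (mem_center_iff.1 (hfc (show f d.1 = 1 from hd)) x.1), fun d _ => ?_⟩
    · obtain ⟨d, hd, e⟩ := hDm.ge (mem_top s)
      exact ⟨⟨d, hd⟩, e⟩
    · have h := hDperf d.2
      rw [← map_subtype_commutator] at h
      obtain ⟨u, hu, e⟩ := h
      exact Subtype.ext e ▸ hu
  have hker : ∀ q ∈ f.ker, fibreSnd π σ q ∈ σ.ker := fun q hq => by
    rw [MonoidHom.mem_ker, ← fibre_rel, show fibreFst π σ q = 1 from hq, map_one]
  have hbot : f.ker ⊓ D = ⊥ := by
    by_contra hne
    obtain ⟨p, hp, hdvd⟩ := Nat.exists_prime_and_dvd (n := Nat.card ↥(f.ker ⊓ D))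
      fun e => hne (Subgroup.eq_bot_of_card_eq _ e)
    have : Fact p.Prime := ⟨hp⟩
    obtain ⟨⟨q, hqk, hqD⟩, hq⟩ := exists_prime_orderOf_dvd_card' (G := ↥(f.ker ⊓ D)) p hdvd
    rw [← Subgroup.orderOf_coe] at hq
    change orderOf q = p at hq
    have hq1 : q ≠ 1 := fun e => by rw [e, orderOf_one] at hq; exact hp.one_lt.ne hq
    have hsnd : orderOf (fibreSnd π σ q) = p := by
      refine orderOf_eq_prime (by rw [← map_pow, ← hq, pow_orderOf_eq_one, map_one]) fun e => hq1 ?_
      exact Subtype.ext (Prod.ext hqk e)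
    have hdk : p ∣ Nat.card σ.ker := hsnd ▸ orderOf_dvd_natCard σ.ker (hker q hqk)
    have := hM p hp hdk D (f.comp D.subtype) hst ⟨q, hqD⟩ hqk
      (Subtype.ext (by rw [SubmonoidClass.coe_pow, ← hq, pow_orderOf_eq_one]; rfl))
    exact hq1 (congrArg Subtype.val this)
  obtain ⟨s, hs⟩ := exists_section_of_perfect hperf f hfs hbot
  have hcomp : ∀ x, σ (fibreSnd π σ (s x)) = π x := fun x => by
    rw [← fibre_rel, show fibreFst π σ (s x) = x from DFunLike.congr_fun hs x]
  refine ⟨(fibreSnd π σ).comp s, MonoidHom.ext hcomp, ?_⟩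
  have hsplit : ∀ g : Γ, ∃ x : S, ((fibreSnd π σ).comp s x)⁻¹ * g ∈ center Γ := fun g => by
    obtain ⟨x, hx⟩ := hπ (σ g)
    refine ⟨x, hσ.2.1 ?_⟩
    rw [MonoidHom.mem_ker, map_mul, map_inv, MonoidHom.comp_apply, hcomp, hx, inv_mul_cancel]
  have hcomm : commutator Γ ≤ ((fibreSnd π σ).comp s).range := by
    rw [_root_.commutator_def, commutator_le]
    intro a _ b _
    obtain ⟨x, hx⟩ := hsplit a
    obtain ⟨y, hy⟩ := hsplit b
    refine ⟨⁅x, y⁆, ?_⟩
    rw [map_commutatorElement]
    exact (commutator_congr_central hx hy).symm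
  intro g
  obtain ⟨x, hx⟩ := hπ (σ g)
  have hk : ((fibreSnd π σ).comp s x)⁻¹ * g ∈ σ.ker := by
    rw [MonoidHom.mem_ker, map_mul, map_inv, MonoidHom.comp_apply, hcomp, hx, inv_mul_cancel]
  obtain ⟨w, hw⟩ := hcomm (hσ.2.2 hk)
  exact ⟨x * w, by rw [map_mul, hw, mul_inv_cancel_left]⟩

theorem ker_equiv {A B C : Type*} [Group A] [Group B] [Group C] (f : A →* B) (e : B ≃* C) :
    (e.toMonoidHom.comp f).ker = f.ker :=
  Subgroup.ext fun _ => map_eq_one_iff e e.injective

theorem slTwo_perfect {F : Type*} [Field F] [Fintype F] (h : 4 ≤ Fintype.card F) :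
    Group.IsPerfect (Matrix.SpecialLinearGroup (Fin 2) F) :=
  ⟨CfsgLib.Laws.sl_two_perfect h⟩

/-- In a CA setting a map from `SL₂` is injective or `PSL₂`. -/
theorem slTwo_quotient_cases {F : Type*} [Field F] [Fintype F] {G : Type*} [Group G]
    (η : Matrix.SpecialLinearGroup (Fin 2) F →* G) (hη : Function.Surjective η)
    (hc : η.ker ≤ center (Matrix.SpecialLinearGroup (Fin 2) F)) :
    Nonempty (G ≃* Matrix.ProjectiveSpecialLinearGroup (Fin 2) F) ∨
      (Odd (Fintype.card F) ∧ Nonempty (G ≃* Matrix.SpecialLinearGroup (Fin 2) F)) := by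
  by_cases hk : η.ker = center (Matrix.SpecialLinearGroup (Fin 2) F)
  · exact Or.inl ⟨((QuotientGroup.quotientMulEquivOfEq hk.symm).trans
      (QuotientGroup.quotientKerEquivOfSurjective η hη)).symm⟩
  have hlt : Nat.card η.ker < Nat.card (center (Matrix.SpecialLinearGroup (Fin 2) F)) :=
    lt_of_le_of_ne (Nat.le_of_dvd Nat.card_pos (card_dvd_of_le hc)) fun e =>
      hk (eq_of_le_of_card_ge hc e.ge)
  have hle : ∀ g ∈ center (Matrix.SpecialLinearGroup (Fin 2) F), g = 1 ∨ g.1 = -1 := fun g hg => by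
    obtain ⟨r, hr, e⟩ := Matrix.SpecialLinearGroup.mem_center_iff.1 hg
    rw [Fintype.card_fin] at hr
    rcases mul_self_eq_one_iff.1 (show r * r = 1 by rw [← pow_two]; exact hr) with h | h
    · left; apply Subtype.ext; rw [← e, h]; simp
    · right; rw [← e, h]; ext i j; fin_cases i <;> fin_cases j <;> simp
  have hodd : Odd (Fintype.card F) := by
    by_contra he
    rw [Nat.not_odd_iff_even] at he
    have h1 : ∀ g ∈ center (Matrix.SpecialLinearGroup (Fin 2) F), g = 1 := fun g hg => by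
      rcases hle g hg with e | e
      · exact e
      · apply Subtype.ext
        rw [e]
        have h2 : ringChar F = 2 := FiniteField.even_card_iff_char_two.2 (Nat.even_iff.1 he)
        have : CharP F 2 := ringChar.of_eq h2
        ext i j
        simp [CharTwo.neg_eq, Matrix.one_apply]
    have : center (Matrix.SpecialLinearGroup (Fin 2) F) = ⊥ := (Subgroup.eq_bot_iff_forall _).2 h1
    rw [this, card_bot] at hlt
    exact absurd hlt (not_lt.2 Nat.card_pos)
  refine Or.inr ⟨hodd, ?_⟩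
  have h2 : Nat.card (center (Matrix.SpecialLinearGroup (Fin 2) F)) = 2 :=
    CfsgLib.PSL2.card_center_sl (CfsgLib.PSL2.two_ne_zero_of_odd hodd)
  have hbot : η.ker = ⊥ := eq_bot_of_card_le _ (by omega)
  exact ⟨(MulEquiv.ofBijective η ⟨(MonoidHom.ker_eq_bot_iff η).1 hbot, hη⟩).symm⟩

variable {G : Type u} [Group G] [Finite G]

namespace Quasi

variable (h : Quasi G)
include h

/-- A non-abelian 2-subgroup of the quotient forces an involution in the centre. -/
theorem two_dvd_center {P : Subgroup (G ⧸ center G)} (hP : IsPGroup 2 P)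
    (hne : ∃ a ∈ P, ∃ b ∈ P, ¬ Commute a b) : 2 ∣ Nat.card (center G) := by
  have : Fact (Nat.Prime 2) := ⟨Nat.prime_two⟩
  obtain ⟨A, hA, ⟨b₁, hb₁, hb₁A⟩, -, -, -⟩ := h.two_group_data P hP hne
  obtain ⟨Q, hPQ⟩ := hP.exists_le_sylow
  obtain ⟨S₁⟩ := (inferInstance : Nonempty (Sylow 2 G))
  have hSne : ¬ ∀ a ∈ (S₁ : Subgroup G), ∀ b ∈ (S₁ : Subgroup G), Commute a b := by
    intro hab
    obtain ⟨a, ha, b, hb, hab'⟩ := hne
    let P' := S₁.mapSurjective (f := QuotientGroup.mk' (center G)) (QuotientGroup.mk'_surjective _)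
    have hc : ∀ x y : (P' : Subgroup (G ⧸ center G)), Commute x y := by
      rintro ⟨_, s, hs, rfl⟩ ⟨_, t, ht, rfl⟩
      exact Subtype.ext ((hab s hs t ht).map _).eq
    let e := P'.equiv Q
    have := (hc (e.symm ⟨a, hPQ ha⟩) (e.symm ⟨b, hPQ hb⟩)).map e.toMonoidHom
    simp only [MulEquiv.coe_toMonoidHom, MulEquiv.apply_symm_apply] at this
    exact hab' (congrArg Subtype.val this)
  have hnt : Nontrivial (S₁ : Subgroup G) := by
    by_contra hs
    rw [not_nontrivial_iff_subsingleton] at hs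
    exact hSne fun a ha b hb => by
      rw [show a = b from congrArg Subtype.val (Subsingleton.elim (⟨a, ha⟩ : (S₁ : Subgroup G)) ⟨b, hb⟩)]
  have := S₁.isPGroup'.center_nontrivial
  obtain ⟨n, hn0, hn⟩ := (S₁.isPGroup'.to_subgroup (center (S₁ : Subgroup G))).nontrivial_iff_card.1 this
  obtain ⟨⟨z, hz⟩, hz2⟩ := exists_prime_orderOf_dvd_card' (G := center (S₁ : Subgroup G)) 2
    (hn ▸ dvd_pow_self 2 hn0.ne')
  rw [← Subgroup.orderOf_coe, ← Subgroup.orderOf_coe] at hz2
  change orderOf (z : G) = 2 at hz2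
  by_cases hzZ : (z : G) ∈ center G
  · exact hz2 ▸ orderOf_dvd_natCard (center G) hzZ
  · have hz1 : (z : G) * (z : G) = 1 := by
      have := pow_orderOf_eq_one (z : G)
      rwa [hz2, pow_two] at this
    exact absurd (h.moving hzZ ⟨1, hz2⟩ (hz1 ▸ one_mem _) S₁ z.2 fun s hs =>
      mem_centralizer_singleton_iff.2 (congrArg Subtype.val (mem_center_iff.1 hz ⟨s, hs⟩))).1 hSne

theorem stem {T : Type*} [Group T] (e : (G ⧸ center G) ≃* T) :
    Cfsg.IsStemExtension (e.toMonoidHom.comp (QuotientGroup.mk' (center G))) := by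
  refine ⟨e.surjective.comp (QuotientGroup.mk'_surjective _), ?_, ?_⟩
  · rw [ker_equiv, QuotientGroup.ker_mk']
  · rw [h.perfect]; exact le_top

/-- The possible shapes of a quasisimple minimal group. -/
theorem shape (hO : Oracle.{u}) :
    (∃ (F : Type) (_ : Field F) (_ : Fintype F), 4 ≤ Fintype.card F ∧
        Nonempty (G ≃* Matrix.ProjectiveSpecialLinearGroup (Fin 2) F)) ∨
    (∃ (F : Type) (_ : Field F) (_ : Fintype F), 5 ≤ Fintype.card F ∧ Odd (Fintype.card F) ∧
      ∃ ρ : G →* Matrix.SpecialLinearGroup (Fin 2) F, Function.Surjective ρ ∧ ρ.ker ≤ center G ∧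
        (ρ.ker = ⊥ ∨ (Fintype.card F = 9 ∧ Nat.card ρ.ker = 3))) := by
  haveI := h.simple
  obtain ⟨F, iF, iF', hq, ⟨e⟩⟩ : ∃ (F : Type) (_ : Field F) (_ : Fintype F),
      (3 < Fintype.card F ∧ Fintype.card F ≠ 4) ∧
      Nonempty ((G ⧸ center G) ≃* Matrix.ProjectiveSpecialLinearGroup (Fin 2) F) := by
    obtain ⟨F, iF, iF', hq, ⟨e⟩⟩ := h.quotient_psl hO
    by_cases h4 : Fintype.card F = 4
    · have : Fact (Nat.Prime 5) := ⟨by norm_num⟩
      have h60 : Nat.card (G ⧸ center G) = 60 := by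
        rw [Nat.card_congr e.toEquiv]
        have := CfsgLib.PSL2.card_psl (F := F)
        rw [h4] at this
        simpa using this
      exact ⟨ZMod 5, inferInstance, inferInstance, by rw [ZMod.card]; norm_num,
        CfsgLib.Small.nonempty_mulEquiv_psl_five h60⟩
    · exact ⟨F, iF, iF', ⟨hq, h4⟩, ⟨e⟩⟩
  let toF : Matrix.SpecialLinearGroup (Fin 2) (ULift.{u} F) ≃* Matrix.SpecialLinearGroup (Fin 2) F :=
    MonoidHom.toMulEquiv
      (Matrix.SpecialLinearGroup.map (ULift.ringEquiv : ULift.{u} F ≃+* F).toRingHom)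
      (Matrix.SpecialLinearGroup.map (ULift.ringEquiv : ULift.{u} F ≃+* F).symm.toRingHom)
      (MonoidHom.ext fun g => Subtype.ext (Matrix.ext fun i j => by simp))
      (MonoidHom.ext fun g => Subtype.ext (Matrix.ext fun i j => by simp))
  have hcard : Fintype.card (ULift.{u} F) = Fintype.card F := Fintype.card_ulift F
  have hperf : Group.IsPerfect (Matrix.SpecialLinearGroup (Fin 2) (ULift.{u} F)) :=
    slTwo_perfect (by omega)
  let ξ : Matrix.SpecialLinearGroup (Fin 2) (ULift.{u} F) →* G ⧸ center G :=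
    e.symm.toMonoidHom.comp ((QuotientGroup.mk' _).comp toF.toMonoidHom)
  have hξ : Function.Surjective ξ :=
    e.symm.surjective.comp ((QuotientGroup.mk'_surjective _).comp toF.surjective)
  have hξk : ∀ {x}, ξ x = 1 ↔ toF x ∈ center (Matrix.SpecialLinearGroup (Fin 2) F) := fun {x} =>
    (map_eq_one_iff _ e.symm.injective).trans (QuotientGroup.eq_one_iff _)
  have fin : ∀ {Γ : Type u} [Group Γ] [Finite Γ] (σ : Γ →* G ⧸ center G)
      (η : Matrix.SpecialLinearGroup (Fin 2) (ULift.{u} F) →* Γ), σ.comp η = ξ →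
      Function.Surjective η →
      Nonempty (Γ ≃* Matrix.ProjectiveSpecialLinearGroup (Fin 2) F) ∨
        (Odd (Fintype.card F) ∧ Nonempty (Γ ≃* Matrix.SpecialLinearGroup (Fin 2) F)) :=
    fun σ η hη hs => slTwo_quotient_cases (η.comp toF.symm.toMonoidHom)
      (hs.comp toF.symm.surjective) fun x hx => by
        have h1 : ξ (toF.symm x) = 1 := by
          rw [← hη, MonoidHom.comp_apply, show η (toF.symm x) = 1 from hx, map_one]
        simpa using hξk.1 h1
  by_cases h9 : Fintype.card F = 9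
  swap
  · obtain ⟨η, hη, hs⟩ := CfsgLib.SchurSmall18.exists_cover_hom hperf
      (CfsgLib.Schur.hasCyclicSchurMultiplier_slTwo (by omega) (by omega)) ξ hξ
      (QuotientGroup.mk' (center G)) (h.stem (MulEquiv.refl _))
    rcases fin _ η hη hs with hp | ⟨hodd, ⟨f⟩⟩
    · exact Or.inl ⟨F, iF, iF', by omega, hp⟩
    · refine Or.inr ⟨F, iF, iF', ?_, hodd, f.toMonoidHom, f.surjective, ?_, Or.inl ?_⟩
      · obtain ⟨k, hk⟩ := hodd; omega
      · rw [(MonoidHom.ker_eq_bot_iff _).2 f.injective]; exact bot_le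
      · exact (MonoidHom.ker_eq_bot_iff _).2 f.injective
  · have : Fact (Nat.Prime 2) := ⟨Nat.prime_two⟩
    let O : Subgroup G :=
      { carrier := {z | z ∈ center G ∧ Odd (orderOf z)}
        one_mem' := ⟨one_mem _, by simp⟩
        mul_mem' := fun {a b} ha hb => ⟨mul_mem ha.1 hb.1,
          (ha.2.mul hb.2).of_dvd_nat (Commute.orderOf_mul_dvd_mul_orderOf (mem_center_iff.1 ha.1 b).symm)⟩
        inv_mem' := fun {a} ha => ⟨inv_mem ha.1, by rw [orderOf_inv]; exact ha.2⟩ }
    have hOn : O.Normal := ⟨fun z hz g => by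
      rw [mem_center_iff.1 hz.1 g, mul_inv_cancel_right]; exact hz⟩
    have hOle : O ≤ center G := fun z hz => hz.1
    let σ : G ⧸ O →* G ⧸ center G :=
      QuotientGroup.map O (center G) (MonoidHom.id G) fun z hz => hz.1
    have hσs : Function.Surjective σ := fun q => by
      obtain ⟨g, rfl⟩ := QuotientGroup.mk'_surjective (center G) q
      exact ⟨QuotientGroup.mk' O g, rfl⟩
    have hσk : ∀ q, q ∈ σ.ker → ∃ z ∈ center G, QuotientGroup.mk' O z = q := fun q hq => by
      obtain ⟨g, rfl⟩ := QuotientGroup.mk'_surjective O q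
      exact ⟨g, (QuotientGroup.eq_one_iff g).1 hq, rfl⟩
    have hσst : Cfsg.IsStemExtension σ := by
      refine ⟨hσs, fun q hq => ?_, by rw [perfect_quotient h.perfect O]; exact le_top⟩
      obtain ⟨z, hz, rfl⟩ := hσk q hq
      refine mem_center_iff.2 fun r => ?_
      obtain ⟨g, rfl⟩ := QuotientGroup.mk'_surjective O r
      rw [← map_mul, ← map_mul, mem_center_iff.1 hz g]
    have hker2 : IsPGroup 2 σ.ker := isPGroup_iff_pow_pow_eq_one.2 fun ⟨q, hq⟩ => by
      obtain ⟨z, hz, rfl⟩ := hσk q hq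
      obtain ⟨a, m, hm, he⟩ := Nat.exists_eq_two_pow_mul_odd (orderOf_pos z).ne'
      refine ⟨a, Subtype.ext ?_⟩
      show QuotientGroup.mk' O z ^ 2 ^ a = 1
      rw [← map_pow]
      refine (QuotientGroup.eq_one_iff _).2 ⟨pow_mem hz _, ?_⟩
      rw [orderOf_pow_of_dvd (by positivity) (he ▸ dvd_mul_right _ _), he,
        Nat.mul_div_cancel_left _ (by positivity)]
      exact hm
    obtain ⟨η, hη, hs⟩ := exists_cover_hom' hperf ξ hξ σ hσst fun p hp hd => by
      obtain ⟨n, hn⟩ := hker2.exists_card_eq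
      rw [hn] at hd
      have := (Nat.prime_dvd_prime_iff_eq hp Nat.prime_two).1 (hp.dvd_of_dvd_pow hd)
      subst this
      exact CfsgLib.SchurSmall18.noMultiplierAt_slTwo_nine (by omega) 2 hp (by norm_num)
    rcases fin σ η hη hs with ⟨⟨f⟩⟩ | ⟨hodd, ⟨f⟩⟩
    · exfalso
      -- a dihedral Sylow subgroup of `PSL₂(9)` needs a central involution
      obtain ⟨S⟩ := (inferInstance : Nonempty (Sylow 2 (G ⧸ center G)))
      have hne : ∃ a ∈ (S : Subgroup (G ⧸ center G)), ∃ b ∈ (S : Subgroup (G ⧸ center G)),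
          ¬ Commute a b := by
        by_contra hab
        push Not at hab
        let P' := S.mapSurjective (f := e.toMonoidHom) e.surjective
        have hab' : ∀ a b : (P' : Subgroup (Matrix.ProjectiveSpecialLinearGroup (Fin 2) F)),
            a * b = b * a := by
          rintro ⟨_, s, hs, rfl⟩ ⟨_, t, ht, rfl⟩
          exact Subtype.ext ((hab s hs t ht).map e.toMonoidHom).eq
        have h4 := (CfsgLib.InvChar.EightSylow.klein_psl_sylow
          (F := F) (by rw [h9]; decide) P' ⟨⟨hab'⟩⟩)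
        have hd : 8 ∣ Nat.card (P' : Subgroup (Matrix.ProjectiveSpecialLinearGroup (Fin 2) F)) := by
          refine P'.pow_dvd_card_of_pow_dvd_card (n := 3) ?_
          have := CfsgLib.PSL2.card_psl (F := F)
          rw [h9] at this
          norm_num at this ⊢
          omega
        have h4' := h4.card_four
        omega
      have h2 := h.two_dvd_center S.isPGroup' hne
      have hσker : σ.ker = ⊥ := by
        have hinj : Nat.card (G ⧸ O) = Nat.card (G ⧸ center G) := by
          rw [Nat.card_congr f.toEquiv, Nat.card_congr e.toEquiv]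
        exact (MonoidHom.ker_eq_bot_iff σ).2 (Nat.bijective_iff_surjective_and_card σ |>.2 ⟨hσs, hinj⟩).1
      obtain ⟨z, hz⟩ := exists_prime_orderOf_dvd_card' (G := center G) 2 h2
      have hzk : QuotientGroup.mk' O (z : G) ∈ σ.ker := (QuotientGroup.eq_one_iff _).2 z.2
      rw [hσker, mem_bot] at hzk
      have hzo := ((QuotientGroup.eq_one_iff (N := O) _).1 hzk).2
      rw [Subgroup.orderOf_coe, hz] at hzo
      exact absurd hzo (by decide)
    · refine Or.inr ⟨F, iF, iF', by omega, hodd, f.toMonoidHom.comp (QuotientGroup.mk' O),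
        f.surjective.comp (QuotientGroup.mk'_surjective O), ?_, ?_⟩
      · rw [ker_equiv, QuotientGroup.ker_mk']; exact hOle
      rw [ker_equiv, QuotientGroup.ker_mk']
      by_cases hO1 : O = ⊥
      · exact Or.inl hO1
      refine Or.inr ⟨h9, ?_⟩
      let toS : G →* Matrix.SpecialLinearGroup (Fin 2) (ULift.{u} F) :=
        toF.symm.toMonoidHom.comp (f.toMonoidHom.comp (QuotientGroup.mk' O))
      have hker : toS.ker = O := by
        rw [ker_equiv, ker_equiv, QuotientGroup.ker_mk']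
      have hst : Cfsg.IsStemExtension toS := ⟨toF.symm.surjective.comp
        (f.surjective.comp (QuotientGroup.mk'_surjective O)), hker.le.trans hOle,
        by rw [h.perfect]; exact le_top⟩
      obtain ⟨π3, hπ3⟩ := (CfsgLib.SchurSmall18.multiplier_slTwo_nine
        (F := ULift.{u} F) (by omega)).2 G toS hst
      have hd : Nat.card O ∣ 3 := by
        have := Subgroup.card_dvd_of_surjective π3 hπ3
        rwa [Nat.card_congr (MulEquiv.subgroupCongr hker).toEquiv,
          Nat.card_eq_fintype_card (α := Multiplicative (ZMod 3)), Fintype.card_multiplicative,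
          ZMod.card] at this
      rcases (Nat.dvd_prime Nat.prime_three).1 hd with e1 | e1
      · exact absurd (Subgroup.eq_bot_of_card_eq _ e1) hO1
      · exact e1

end Quasi

end CfsgLib.MinimalNonCA
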