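import Cfsg.Agent.Lib.MinimalNonCA.SLTwo
import Cfsg.Agent.Lib.PSL2.Dickson
import Cfsg.Agent.Lib.PSL2.MinimalSimple
import Cfsg.Agent.Lib.PSL2.Involution
import Mathlib.GroupTheory.SpecificGroups.Alternating

/-!
Centralisers in `PSL₂(q)`: when it, or all its proper subgroups, are CA-groups.
-/

set_option autoImplicit false
set_option linter.unusedSectionVars false

namespace CfsgLib.MinimalNonCA

open Subgroup Matrix
open scoped MatrixGroups

variable {F : Type*} [Field F]

local notation "PSL" => ProjectiveSpecialLinearGroup (Fin 2) F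
local notation "SL" => SpecialLinearGroup (Fin 2) F
local notation "qπ" => QuotientGroup.mk' (center (SpecialLinearGroup (Fin 2) F))

theorem center_sl_cases {z : SL} (hz : z ∈ center SL) : z.1 = 1 ∨ z.1 = -1 := by
  obtain ⟨r, hr, e⟩ := Matrix.SpecialLinearGroup.mem_center_iff.1 hz
  rw [Fintype.card_fin] at hr
  rcases mul_self_eq_one_iff.1 (show r * r = 1 by rw [← pow_two]; exact hr) with h | h
  · exact Or.inl (by rw [← e, h]; ext i j; fin_cases i <;> fin_cases j <;> simp)
  · exact Or.inr (by rw [← e, h]; ext i j; fin_cases i <;> fin_cases j <;> simp)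

/-- Commuting in `PSL₂` means commuting up to sign. -/
theorem psl_commute {a b : SL} (h : Commute (qπ a) (qπ b)) :
    a.1 * b.1 = b.1 * a.1 ∨ a.1 * b.1 = -(b.1 * a.1) := by
  have he : qπ ((b * a)⁻¹ * (a * b)) = 1 := by
    rw [map_mul, map_inv, map_mul, map_mul, h.eq, inv_mul_cancel]
  have hz := (QuotientGroup.eq_one_iff _).1 he
  have e : (a * b : SL).1 = (b * a : SL).1 * ((b * a)⁻¹ * (a * b) : SL).1 :=
    (congrArg Subtype.val (mul_inv_cancel_left (b * a) (a * b))).symm
  change a.1 * b.1 = b.1 * a.1 * ((b * a)⁻¹ * (a * b) : SL).1 at e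
  rcases center_sl_cases hz with h1 | h1
  · left
    rw [h1, mul_one] at e
    exact e
  · right
    rw [h1, mul_neg, mul_one] at e
    exact e

theorem commute_of_mat {a b : SL} (h : a.1 * b.1 = b.1 * a.1) : Commute (qπ a) (qπ b) :=
  (show Commute a b from Subtype.ext h).map qπ

/-- Elements other than involutions have abelian centralisers. -/
theorem psl_centralizer_comm {x y z : PSL} (hx : x ≠ 1) (hx2 : x * x ≠ 1) (hy : Commute x y)
    (hz : Commute x z) : Commute y z := by
  obtain ⟨a, rfl⟩ := QuotientGroup.mk'_surjective (center SL) x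
  obtain ⟨b, rfl⟩ := QuotientGroup.mk'_surjective (center SL) y
  obtain ⟨c, rfl⟩ := QuotientGroup.mk'_surjective (center SL) z
  have ha : a ∉ center SL := fun e => hx ((QuotientGroup.eq_one_iff a).2 e)
  have key : ∀ d : SL, Commute (qπ a) (qπ d) → a.1 * d.1 = d.1 * a.1 := by
    intro d hd
    rcases psl_commute hd with e | e
    · exact e
    -- a trace-zero element squares to `-1`
    have htr : a.1 0 0 + a.1 1 1 = 0 ∨ (2 : F) = 0 := by
      have h0 := congrArg Matrix.trace e
      rw [Matrix.trace_neg, Matrix.trace_mul_comm d.1 a.1] at h0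
      have hT : Matrix.trace (a.1 * d.1) + Matrix.trace (a.1 * d.1) = 0 := by
        nth_rewrite 1 [h0]
        exact neg_add_cancel _
      have h1 : d.1.adjugate * a.1 * d.1 = d.1.adjugate * (a.1 * d.1) := Matrix.mul_assoc _ _ _
      rw [e, Matrix.mul_neg, ← Matrix.mul_assoc, Matrix.adjugate_mul, d.2, one_smul,
        Matrix.one_mul] at h1
      have h2 := congrArg Matrix.trace h1
      rw [Matrix.trace_neg, Matrix.trace_mul_comm, ← Matrix.mul_assoc, Matrix.mul_adjugate, d.2,
        one_smul, Matrix.one_mul, Matrix.trace_fin_two] at h2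
      rcases mul_eq_zero.1 (show (2 : F) * (a.1 0 0 + a.1 1 1) = 0 by linear_combination h2) with
        h | h
      · exact Or.inr h
      · exact Or.inl h
    rcases htr with htr | h2
    · refine absurd ?_ hx2
      rw [← map_mul]
      refine (QuotientGroup.eq_one_iff (a * a)).2 (mem_center_iff.2 fun g => Subtype.ext ?_)
      have hdet : a.1 0 0 * a.1 1 1 - a.1 0 1 * a.1 1 0 = 1 := by
        rw [← Matrix.det_fin_two]; exact a.2
      have hneg : (a * a : SL).1 = -1 := by
        show a.1 * a.1 = -1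
        ext i j
        fin_cases i <;> fin_cases j <;>
          simp only [Matrix.mul_apply, Fin.sum_univ_two, Fin.zero_eta, Fin.mk_one, Fin.isValue,
            Matrix.neg_apply, Matrix.one_apply_eq, ne_eq, zero_ne_one, one_ne_zero, not_false_eq_true,
            Matrix.one_apply_ne, neg_zero]
        · linear_combination (a.1 0 0) * htr - hdet
        · linear_combination (a.1 0 1) * htr
        · linear_combination (a.1 1 0) * htr
        · linear_combination (a.1 1 1) * htr - hdet
      show g.1 * (a * a : SL).1 = (a * a : SL).1 * g.1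
      rw [hneg, Matrix.mul_neg, Matrix.neg_mul, Matrix.mul_one, Matrix.one_mul]
    · have : ∀ M : Matrix (Fin 2) (Fin 2) F, -M = M := fun M => by
        ext i j
        simp only [Matrix.neg_apply]
        linear_combination -(M i j) * h2
      rw [e, this]
  exact commute_of_mat (comm_of_comm_nonscalar (nonscalar_of_not_center ha) (key b hy) (key c hz))

/-- Upper triangular elements form a CA-group in odd characteristic. -/
theorem psl_triangular_comm (h2 : (2 : F) ≠ 0) {a b c : SL} (ha : qπ a ≠ 1) (ha0 : a.1 1 0 = 0)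
    (hb0 : b.1 1 0 = 0) (hc0 : c.1 1 0 = 0) (hb : Commute (qπ a) (qπ b))
    (hc : Commute (qπ a) (qπ c)) : Commute (qπ b) (qπ c) := by
  have ha' : a ∉ center SL := fun e => ha ((QuotientGroup.eq_one_iff a).2 e)
  have diag : ∀ d : SL, d.1 1 0 = 0 → d.1 0 0 ≠ 0 := fun d hd e => by
    have := d.2
    rw [Matrix.det_fin_two, hd, e] at this
    simp at this
  have key : ∀ d : SL, d.1 1 0 = 0 → Commute (qπ a) (qπ d) → a.1 * d.1 = d.1 * a.1 := by
    intro d hd0 hd
    rcases psl_commute hd with e | e
    · exact e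
    have e00 := congrFun (congrFun e 0) 0
    simp only [Matrix.mul_apply, Fin.sum_univ_two, Matrix.neg_apply, ha0, hd0, mul_zero,
      add_zero] at e00
    exact absurd (mul_eq_zero.1 (show (2 : F) * (a.1 0 0 * d.1 0 0) = 0 by linear_combination e00))
      (not_or.2 ⟨h2, mul_ne_zero (diag a ha0) (diag d hd0)⟩)
  exact commute_of_mat (comm_of_comm_nonscalar (nonscalar_of_not_center ha') (key b hb0 hb)
    (key c hc0 hc))

variable [Fintype F]

theorem psl_not_isCA (hodd : Odd (Fintype.card F)) (h7 : 7 ≤ Fintype.card F) : ¬ IsCA PSL := by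
  intro hCA
  classical
  have h2 := CfsgLib.PSL2.two_ne_zero_of_odd hodd
  obtain ⟨v, hv⟩ : ∃ v : F, v ∉ ({0, 1, -1} : Finset F) ∪
      Finset.univ.filter fun v : F => v ^ 2 = -1 := by
    refine (Finset.exists_mem_notMem_of_card_lt_card (t := Finset.univ) ?_).imp fun x hx => hx.2
    have hle : (Finset.univ.filter fun v : F => v ^ 2 = -1).card ≤ 2 := by
      refine (Finset.card_le_card (fun x hx => ?_)).trans
        ((Multiset.toFinset_card_le _).trans (Polynomial.card_nthRoots 2 (-1 : F)))
      rw [Multiset.mem_toFinset, Polynomial.mem_nthRoots (by norm_num)]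
      exact (Finset.mem_filter.1 hx).2
    refine lt_of_le_of_lt (Finset.card_union_le _ _) ?_
    have := Finset.card_le_three (a := (0 : F)) (b := 1) (c := -1)
    rw [Finset.card_univ]
    omega
  simp only [Finset.mem_union, Finset.mem_insert, Finset.mem_singleton, Finset.mem_filter,
    Finset.mem_univ, true_and, not_or] at hv
  obtain ⟨⟨hv0, hv1, hv1'⟩, hv2⟩ := hv
  have hden : 1 + v ^ 2 ≠ 0 := fun e => hv2 (by linear_combination e)
  set A := (1 - v ^ 2) / (1 + v ^ 2) with hA
  set B := 2 * v / (1 + v ^ 2) with hB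
  have hAB : A * A + B * B = 1 := by
    rw [hA, hB]; field_simp; ring
  have hA0 : A ≠ 0 := div_ne_zero (fun e => by
    rcases mul_eq_zero.1 (show (1 - v) * (1 + v) = 0 by linear_combination e) with e | e
    · exact hv1 (sub_eq_zero.1 e).symm
    · exact hv1' (eq_neg_of_add_eq_zero_right e)) hden
  have hB0 : B ≠ 0 := div_ne_zero (mul_ne_zero h2 hv0) hden
  obtain ⟨c, d, hcd⟩ : ∃ c d : F, c ^ 2 + d ^ 2 = -1 := by
    obtain ⟨p, hp⟩ := CharP.exists F
    have : Fact p.Prime := ⟨CharP.char_is_prime F p⟩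
    obtain ⟨a, b, hab⟩ := CharP.sq_add_sq F p (-1)
    exact ⟨(a : F), (b : F), by simpa using hab⟩
  let T : SL := ⟨!![0, 1; -1, 0], by simp [Matrix.det_fin_two]⟩
  let R : SL := ⟨!![A, B; -B, A], by rw [Matrix.det_fin_two_of]; linear_combination hAB⟩
  let S : SL := ⟨!![c, d; d, -c], by rw [Matrix.det_fin_two_of]; linear_combination -hcd⟩
  have hT : qπ T ∉ center PSL := fun e => by
    let U : SL := ⟨!![1, 1; 0, 1], by simp [Matrix.det_fin_two]⟩
    have hc := (mem_center_iff.1 e (qπ U)).symm
    rcases psl_commute (a := T) (b := U) hc with h | h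
    · have := congrFun (congrFun h 0) 0
      simp [T, U, Matrix.mul_apply, Fin.sum_univ_two] at this
    · have h' := congrFun (congrFun h 0) 1
      simp [T, U, Matrix.mul_apply, Fin.sum_univ_two] at h'
      exact h2 (by linear_combination h')
  have hTR : Commute (qπ T) (qπ R) := commute_of_mat (by
    ext i j; fin_cases i <;> fin_cases j <;> simp [T, R, Matrix.mul_apply, Fin.sum_univ_two])
  have hTS : Commute (qπ T) (qπ S) := by
    have e : T * S = S * T * (-1) := Subtype.ext (by
      show T.1 * S.1 = S.1 * T.1 * (-1 : SL).1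
      ext i j
      fin_cases i <;> fin_cases j <;>
        simp [T, S, Matrix.mul_apply, Fin.sum_univ_two])
    have hz : qπ (-1 : SL) = 1 := (QuotientGroup.eq_one_iff (-1 : SL)).2 (mem_center_iff.2 fun g =>
      Subtype.ext (show g.1 * (-1 : SL).1 = (-1 : SL).1 * g.1 by simp))
    have := congrArg qπ e
    rw [map_mul, map_mul, map_mul, hz, mul_one] at this
    exact this
  rcases psl_commute (hCA _ _ _ hT hTR hTS) with h | h
  · have h00 := congrFun (congrFun h 0) 0
    have h01 := congrFun (congrFun h 0) 1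
    simp [R, S, Matrix.mul_apply, Fin.sum_univ_two] at h00 h01
    have hd : d = 0 := (mul_eq_zero.1 (show (2 * B) * d = 0 by linear_combination h00)).resolve_left
      (mul_ne_zero h2 hB0)
    have hc : c = 0 := (mul_eq_zero.1 (show (2 * B) * c = 0 by linear_combination -h01)).resolve_left
      (mul_ne_zero h2 hB0)
    rw [hc, hd] at hcd
    simp at hcd
  · have h00 := congrFun (congrFun h 0) 0
    have h01 := congrFun (congrFun h 0) 1
    simp [R, S, Matrix.mul_apply, Fin.sum_univ_two] at h00 h01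
    have hc : c = 0 := (mul_eq_zero.1 (show (2 * A) * c = 0 by linear_combination h00)).resolve_left
      (mul_ne_zero h2 hA0)
    have hd : d = 0 := (mul_eq_zero.1 (show (2 * A) * d = 0 by linear_combination h01)).resolve_left
      (mul_ne_zero h2 hA0)
    rw [hc, hd] at hcd
    simp at hcd

set_option maxRecDepth 100000 in
theorem alt_five_involution : ∀ t : Equiv.Perm (Fin 5), (∀ x, t (t x) = x) → (∃ x, t x ≠ x) →
    Equiv.Perm.sign t = 1 → ∀ y : Equiv.Perm (Fin 5), (∀ x, t (y x) = y (t x)) →
      (∃ x, y (y x) ≠ x) → Equiv.Perm.sign y ≠ 1 := by decide +kernel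

set_option maxRecDepth 100000 in
theorem alt_four_involution : ∀ t : Equiv.Perm (Fin 4), (∀ x, t (t x) = x) → (∃ x, t x ≠ x) →
    Equiv.Perm.sign t = 1 → ∀ y : Equiv.Perm (Fin 4), (∀ x, t (y x) = y (t x)) →
      (∃ x, y (y x) ≠ x) → Equiv.Perm.sign y ≠ 1 := by decide +kernel

theorem alt_involution {n : ℕ} (hn : n = 4 ∨ n = 5) {t y : alternatingGroup (Fin n)} (ht : t ≠ 1)
    (ht2 : t * t = 1) (hy : Commute t y) : y * y = 1 := by
  by_contra hne
  have h1 : ∀ x, (t : Equiv.Perm (Fin n)) ((t : Equiv.Perm (Fin n)) x) = x := fun x =>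
    Equiv.ext_iff.1 (congrArg Subtype.val ht2) x
  have h2 : ∃ x, (t : Equiv.Perm (Fin n)) x ≠ x := by
    by_contra h; push Not at h; exact ht (Subtype.ext (Equiv.ext h))
  have h3 : ∀ x, (t : Equiv.Perm (Fin n)) ((y : Equiv.Perm (Fin n)) x) =
      (y : Equiv.Perm (Fin n)) ((t : Equiv.Perm (Fin n)) x) := fun x =>
    Equiv.ext_iff.1 (congrArg Subtype.val hy.eq) x
  have h4 : ∃ x, (y : Equiv.Perm (Fin n)) ((y : Equiv.Perm (Fin n)) x) ≠ x := by
    by_contra h; push Not at h; exact hne (Subtype.ext (Equiv.ext h))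
  rcases hn with rfl | rfl
  · exact alt_four_involution _ h1 h2 t.2 _ h3 h4 y.2
  · exact alt_five_involution _ h1 h2 t.2 _ h3 h4 y.2

/-- Exponent two forces commuting. -/
theorem commute_of_sq {M : Type*} [Group M] {y z : M} (hy : y * y = 1) (hz : z * z = 1)
    (hyz : y * z * (y * z) = 1) : Commute y z := by
  show y * z = z * y
  rw [← inv_eq_of_mul_eq_one_right hyz, _root_.mul_inv_rev, inv_eq_of_mul_eq_one_right hy,
    inv_eq_of_mul_eq_one_right hz]

theorem psl_small_isCA (hodd : Odd (Fintype.card F)) (h5 : Fintype.card F ≤ 5) : IsCA PSL := by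
  intro x y z hx hy hz
  obtain ⟨w, hw⟩ := not_center_iff.1 hx
  have hx1 : x ≠ 1 := fun e => hw (e ▸ Commute.one_left w)
  by_cases hx2 : x * x = 1
  · have hord : orderOf x = 2 := orderOf_eq_prime (by rw [pow_two, hx2]) hx1
    have hcard := CfsgLib.PSL2.card_centralizer_involution hodd hord
    have h4 : Nat.card (centralizer ({x} : Set PSL)) = 2 ^ 2 := by
      rw [hcard]
      have := Nat.odd_iff.1 hodd
      have := Fintype.one_lt_card (α := F)
      split_ifs <;> omega
    have : Fact (Nat.Prime 2) := ⟨Nat.prime_two⟩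
    have := IsPGroup.commutative_of_card_eq_prime_sq h4
    exact congrArg Subtype.val (this (⟨y, mem_centralizer_singleton_iff.2 hy.eq.symm⟩ :
      centralizer ({x} : Set PSL)) ⟨z, mem_centralizer_singleton_iff.2 hz.eq.symm⟩)
  · exact psl_centralizer_comm hx1 hx2 hy hz

open CfsgLib.PSL2 in
/-- The proper subgroups of `PSL₂(q)` for the listed `q` are CA-groups. -/
theorem psl_properCA (hodd : Odd (Fintype.card F)) (h16 : ¬ 16 ∣ Fintype.card F ^ 2 - 1)
    (hsub : ∀ (S : Subfield F), Fintype.card F = Nat.card S ∨ Nat.card S ≤ 5) :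
    ProperCA PSL := by
  classical
  intro H hH
  obtain ⟨p, hp⟩ := CharP.exists F
  have : Fact p.Prime := ⟨CharP.char_is_prime F p⟩
  have h2 := two_ne_zero_of_odd hodd
  have h8 : ¬ 8 ∣ Nat.card PSL := fun h => by
    have hc := CfsgLib.PSL2.card_psl (F := F)
    rw [gcd_eq_two hodd] at hc
    refine h16 (Nat.Coprime.dvd_of_dvd_mul_right ?_ (n := Fintype.card F) ?_)
    · exact Nat.Coprime.pow_left 4 (Nat.coprime_two_left.2 hodd)
    · rw [show (Fintype.card F ^ 2 - 1) * Fintype.card F =
        (Fintype.card F + 1) * (Fintype.card F * (Fintype.card F - 1)) by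
          rw [show Fintype.card F ^ 2 - 1 = Fintype.card F ^ 2 - 1 ^ 2 by rw [one_pow],
            Nat.sq_sub_sq]; ring, ← hc]
      exact Nat.mul_dvd_mul_left 2 h
  -- only centralisers of involutions matter
  have reduce : (∀ x ∈ H, ∀ y ∈ H, ∀ z ∈ H, x ≠ 1 → x * x = 1 → Commute x y → Commute x z →
      Commute y z) → CAIn H := by
    rintro h x hx y hy z hz ⟨w, -, hw⟩ hxy hxz
    have hx1 : x ≠ 1 := fun e => hw (e ▸ Commute.one_left w)
    by_cases hx2 : x * x = 1
    · exact h x hx y hy z hz hx1 hx2 hxy hxz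
    · exact psl_centralizer_comm hx1 hx2 hxy hxz
  rcases dickson_psl p H with ⟨x₀, hx₀⟩ | ⟨k, -, ⟨hcyc, -⟩ | ⟨⟨e⟩⟩⟩ | ⟨⟨e⟩⟩ | ⟨⟨e⟩⟩ | ⟨⟨e⟩⟩ |
    ⟨S, -, hS⟩
  · obtain ⟨g, hg⟩ := exists_psl_map x₀ OnePoint.infty
    refine reduce fun x hx y hy z hz hx1 _ hxy hxz => ?_
    have hlift : ∀ u ∈ H, ∃ a : SL, qπ a = g * u * g⁻¹ ∧ a.1 1 0 = 0 := by
      intro u hu
      obtain ⟨a, ha⟩ := QuotientGroup.mk'_surjective (center SL) (g * u * g⁻¹)
      refine ⟨a, ha, ?_⟩
      have hfix : pslPerm F (qπ a) OnePoint.infty = OnePoint.infty := by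
        rw [ha, map_mul, map_mul, map_inv, Equiv.Perm.mul_apply, Equiv.Perm.mul_apply, ← hg,
          Equiv.Perm.coe_inv, Equiv.symm_apply_apply]
        exact congrArg _ (hx₀ u hu)
      rw [QuotientGroup.mk'_apply, pslPerm_mk, OnePoint.smul_infty_eq_ite] at hfix
      by_contra hne
      rw [if_neg (show ¬ (SpecialLinearGroup.toGL a : GL (Fin 2) F) 1 0 = 0 from hne)] at hfix
      exact OnePoint.coe_ne_infty _ hfix
    obtain ⟨a, ea, a0⟩ := hlift x hx
    obtain ⟨b, eb, b0⟩ := hlift y hy
    obtain ⟨c, ec, c0⟩ := hlift z hz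
    have := psl_triangular_comm h2 (a := a) (b := b) (c := c) (by
        rw [ea]; exact fun e => hx1 (conj_eq_one_iff.1 e)) a0 b0 c0
      (by rw [ea, eb]; exact hxy.map (MulAut.conj g).toMonoidHom)
      (by rw [ea, ec]; exact hxz.map (MulAut.conj g).toMonoidHom)
    rw [eb, ec] at this
    have := this.map (MulAut.conj g⁻¹).toMonoidHom
    simpa [mul_assoc] using this
  · refine isCA_subgroup.1 fun x y z _ _ _ => ?_
    obtain ⟨c, hc⟩ := hcyc.exists_generator
    obtain ⟨i, rfl⟩ := hc y
    obtain ⟨j, rfl⟩ := hc z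
    exact Commute.zpow_zpow_self c i j
  · refine isCA_subgroup.1 (IsCA.congr ?_ e)
    refine isCA_of_index_two (A := zpowers (DihedralGroup.r 1)) (fun a ha b hb => ?_) ?_
    · obtain ⟨i, rfl⟩ := mem_zpowers_iff.1 ha
      obtain ⟨j, rfl⟩ := mem_zpowers_iff.1 hb
      exact Commute.zpow_zpow_self _ i j
    · intro a b ha hb
      have hr : ∀ i : ZMod k, DihedralGroup.r i ∈ zpowers (DihedralGroup.r (1 : ZMod k)) := fun i =>
        ⟨(i.cast : ℤ), by simp [DihedralGroup.r_one_zpow]⟩
      rcases a with i | i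
      · exact absurd (hr i) ha
      rcases b with j | j
      · exact absurd (hr j) hb
      rw [DihedralGroup.inv_sr, DihedralGroup.sr_mul_sr]
      exact hr _
  · refine isCA_subgroup.1 fun x y z hx hy hz => ?_
    obtain ⟨w, hw⟩ := not_center_iff.1 hx
    have hx1 : x ≠ 1 := fun e => hw (e ▸ Commute.one_left w)
    by_cases hx2 : x * x = 1
    · have key : ∀ u, Commute x u → u * u = 1 := fun u hu => e.injective (by
        rw [map_mul, map_one]
        exact alt_involution (Or.inl rfl) (fun e' => hx1 (e.injective (e'.trans (map_one e).symm)))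
          (by rw [← map_mul, hx2, map_one]) (hu.map e.toMonoidHom))
      exact commute_of_sq (key y hy) (key z hz) (key _ (hy.mul_right hz))
    · exact Subtype.ext (psl_centralizer_comm (fun e' => hx1 (Subtype.ext e'))
        (fun e' => hx2 (Subtype.ext e')) (hy.map H.subtype) (hz.map H.subtype)).eq
  · exfalso
    refine h8 (dvd_trans ?_ (card_subgroup_dvd_card H))
    rw [Nat.card_congr e.toEquiv, Nat.card_perm, Nat.card_fin]
    decide
  · refine isCA_subgroup.1 fun x y z hx hy hz => ?_
    obtain ⟨w, hw⟩ := not_center_iff.1 hx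
    have hx1 : x ≠ 1 := fun e => hw (e ▸ Commute.one_left w)
    by_cases hx2 : x * x = 1
    · have key : ∀ u, Commute x u → u * u = 1 := fun u hu => e.injective (by
        rw [map_mul, map_one]
        exact alt_involution (Or.inr rfl) (fun e' => hx1 (e.injective (e'.trans (map_one e).symm)))
          (by rw [← map_mul, hx2, map_one]) (hu.map e.toMonoidHom))
      exact commute_of_sq (key y hy) (key z hz) (key _ (hy.mul_right hz))
    · exact Subtype.ext (psl_centralizer_comm (fun e' => hx1 (Subtype.ext e'))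
        (fun e' => hx2 (Subtype.ext e')) (hy.map H.subtype) (hz.map H.subtype)).eq
  · let _ : Fintype S := Fintype.ofFinite S
    have hSodd : Odd (Fintype.card S) := by
      obtain ⟨m, hm⟩ : ∃ m, Fintype.card F = Fintype.card S ^ m :=
        ⟨Module.finrank S F, Module.card_eq_pow_finrank⟩
      rcases Nat.eq_zero_or_pos m with rfl | hm0
      · have := Fintype.one_lt_card (α := F); rw [hm, pow_zero] at this; omega
      · rw [hm, Nat.odd_pow_iff hm0.ne'] at hodd; exact hodd
    rcases hS with ⟨⟨e⟩⟩ | ⟨⟨e⟩⟩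
    · rcases hsub S with hq | hq
      · exfalso
        refine hH (eq_top_of_card_eq _ ?_)
        rw [Nat.card_eq_fintype_card (α := S)] at hq
        have h1 := CfsgLib.PSL2.card_psl (F := S)
        have h1' := CfsgLib.PSL2.card_psl (F := F)
        rw [gcd_eq_two hSodd, ← hq] at h1
        rw [gcd_eq_two hodd] at h1'
        rw [Nat.card_congr e.toEquiv]
        omega
      · rw [Nat.card_eq_fintype_card] at hq
        exact isCA_subgroup.1 ((psl_small_isCA hSodd hq).congr e)
    · exfalso
      refine h8 (dvd_trans ?_ (card_subgroup_dvd_card H))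
      rw [Nat.card_congr e.toEquiv, CfsgLib.PSL2.card_pgl]
      obtain ⟨j, hj⟩ := hSodd
      rw [hj, show 2 * j + 1 - 1 = 2 * j by omega]
      obtain ⟨i, hi⟩ := Nat.even_mul_succ_self j
      exact ⟨i * (2 * j + 1), by linear_combination (4 * (2 * j + 1)) * hi⟩

end CfsgLib.MinimalNonCA
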