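import Cfsg.Agent.Lib.MinimalNonCA.NormalCase
import Cfsg.Agent.Lib.MinimalNonCA.Component
import Cfsg.Agent.Lib.MinimalNonCA.Cover
import Cfsg.Agent.Lib.MinimalNonCA.PSL
import Cfsg.Agent.Lib.InvChar.EightSylowMultiplier
import Cfsg.Agent.Lib.PSL2.Subfield
import Cfsg.Agent.Lib.PSL2.MinimalSimple
import Cfsg.Agent.Lib.Small.OrderSixty
import Mathlib.FieldTheory.Finite.GaloisField

/-!
Minimal non-solvable non-CA-groups.
-/

set_option autoImplicit false
set_option linter.unusedSectionVars false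

namespace CfsgLib.MinimalNonCA

open Subgroup Matrix
open scoped MatrixGroups

universe u

theorem ProperCA.congr {A B : Type*} [Group A] [Group B] (h : ProperCA B) (e : A ≃* B) :
    ProperCA A := fun H hH => by
  have hne : H.map e.toMonoidHom ≠ ⊤ := fun he => hH (map_injective (f := e.toMonoidHom) e.injective
    (he.trans (map_top_of_surjective e.toMonoidHom e.surjective).symm))
  exact isCA_subgroup.1 ((isCA_subgroup.2 (h _ hne)).congr (e.subgroupMap H))

theorem center_slTwo_even {F : Type*} [Field F] [Fintype F] (he : ¬ Odd (Fintype.card F)) :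
    center (Matrix.SpecialLinearGroup (Fin 2) F) = ⊥ := by
  have : CharP F 2 := ringChar.of_eq
    (FiniteField.even_card_iff_char_two.2 (Nat.even_iff.1 (Nat.not_odd_iff_even.1 he)))
  refine (eq_bot_iff_forall _).2 fun g hg => Subtype.ext ?_
  rcases center_sl_cases hg with e | e
  · exact e
  · rw [e]
    ext i j
    simp [CharTwo.neg_eq, Matrix.one_apply]

theorem psl_equiv_sl_even {F : Type*} [Field F] [Fintype F] (he : ¬ Odd (Fintype.card F)) :
    Nonempty (Matrix.ProjectiveSpecialLinearGroup (Fin 2) F ≃*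
      Matrix.SpecialLinearGroup (Fin 2) F) :=
  ⟨(QuotientGroup.quotientMulEquivOfEq (center_slTwo_even he)).trans QuotientGroup.quotientBot⟩

theorem psl_sixty {F : Type*} [Field F] [Fintype F] (h : Fintype.card F = 4 ∨ Fintype.card F = 5) :
    Nat.card (Matrix.ProjectiveSpecialLinearGroup (Fin 2) F) = 60 ∧
      IsSimpleGroup (Matrix.ProjectiveSpecialLinearGroup (Fin 2) F) := by
  refine ⟨?_, (CfsgLib.PSL2.psl_not_solvable (by omega)).2.1⟩
  have h1 := CfsgLib.PSL2.card_psl (F := F)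
  rcases h with e | e <;> rw [e] at h1 <;> norm_num at h1 <;> omega

/-- A CA quasisimple minimal group covers some `SL₂(q)`. -/
theorem Quasi.slData {L : Type u} [Group L] [Finite L] (h : Quasi L) (hCA : IsCA L)
    (hO : Oracle.{u}) : ∃ (F : Type) (_ : Field F) (_ : Fintype F), 4 ≤ Fintype.card F ∧
      ∃ ρ : L →* Matrix.SpecialLinearGroup (Fin 2) F, Function.Surjective ρ ∧ ρ.ker ≤ center L ∧
        (ρ.ker = ⊥ ∨ (Fintype.card F = 9 ∧ Nat.card ρ.ker = 3)) := by
  have ofEquiv : ∀ (F : Type) [Field F] [Fintype F], 4 ≤ Fintype.card F →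
      (L ≃* Matrix.SpecialLinearGroup (Fin 2) F) →
      ∃ (F : Type) (_ : Field F) (_ : Fintype F), 4 ≤ Fintype.card F ∧
      ∃ ρ : L →* Matrix.SpecialLinearGroup (Fin 2) F, Function.Surjective ρ ∧ ρ.ker ≤ center L ∧
        (ρ.ker = ⊥ ∨ (Fintype.card F = 9 ∧ Nat.card ρ.ker = 3)) := fun F _ _ h4 e => by
    have hk : e.toMonoidHom.ker = ⊥ := (MonoidHom.ker_eq_bot_iff _).2 e.injective
    exact ⟨F, inferInstance, inferInstance, h4, e.toMonoidHom, e.surjective, hk ▸ bot_le, Or.inl hk⟩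
  rcases h.shape hO with ⟨F, _, _, h4, ⟨e⟩⟩ | ⟨F, i1, i2, h5, -, ρ, hρ⟩
  · by_cases hodd : Odd (Fintype.card F)
    · have h5 : Fintype.card F = 5 := by
        have : ¬ 7 ≤ Fintype.card F := fun h7 => psl_not_isCA hodd h7 (hCA.congr e.symm)
        obtain ⟨k, hk⟩ := hodd
        omega
      let K := GaloisField 2 2
      have : Fintype K := Fintype.ofFinite K
      have hK : Fintype.card K = 4 := by
        rw [← Nat.card_eq_fintype_card, GaloisField.card 2 2 two_ne_zero]; rfl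
      obtain ⟨hF60, hFs⟩ := psl_sixty (F := F) (Or.inr h5)
      obtain ⟨hK60, hKs⟩ := psl_sixty (F := K) (Or.inl hK)
      have : Fact (Nat.Prime 5) := ⟨Nat.prime_five⟩
      obtain ⟨a⟩ := CfsgLib.Small.nonempty_mulEquiv_psl_five hF60
      obtain ⟨b⟩ := CfsgLib.Small.nonempty_mulEquiv_psl_five hK60
      obtain ⟨c⟩ := psl_equiv_sl_even (F := K) (by rw [hK]; decide)
      exact ofEquiv K hK.ge (((e.trans a).trans b.symm).trans c)
    · obtain ⟨c⟩ := psl_equiv_sl_even hodd
      exact ofEquiv F h4 (e.trans c)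
  · exact ⟨F, i1, i2, by omega, ρ, hρ⟩

/-- A quasisimple proper normal subgroup forces the CA property. -/
theorem isCA_of_component {G : Type u} [Group G] [Finite G] (hO : Oracle.{u}) (hP : ProperCA G)
    {L : Subgroup G} (hn : L.Normal) (hne : L ≠ ⊤) (hq : Quasi L) : IsCA G := by
  haveI := hn
  obtain ⟨F, _, _, h4, ρ, hs, hk, hc⟩ := hq.slData (isCA_subgroup.2 (hP L hne)) hO
  exact (SLNormal.mk hq hne hP h4 hs hk hc : SLNormal L ρ).isCA

theorem sixteen_dvd_of_square {x : ℕ} (hx : Odd x) : 16 ∣ (x * x) ^ 2 - 1 := by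
  obtain ⟨k, rfl⟩ := hx
  have h : ((2 * k + 1) * (2 * k + 1)) ^ 2 = 16 * (k * k * k * k + 2 * (k * k * k) + k * k) +
      8 * (k * (k + 1)) + 1 := by ring
  obtain ⟨m, hm⟩ := Nat.even_mul_succ_self k
  rw [h, hm]
  omega

/-- The possible fields. -/
theorem field_cases {F : Type} [Field F] [Fintype F] (hodd : Odd (Fintype.card F))
    (h7 : 7 ≤ Fintype.card F) (hP : ProperCA (Matrix.ProjectiveSpecialLinearGroup (Fin 2) F))
    (h16 : ¬ 16 ∣ Fintype.card F ^ 2 - 1) :
    ((Fintype.card F).Prime ∧ 5 < Fintype.card F) ∨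
      ∃ p : ℕ, p.Prime ∧ p ≠ 2 ∧ (Fintype.card F = 3 ^ p ∨ Fintype.card F = 5 ^ p) := by
  obtain ⟨c, hc⟩ := CharP.exists F
  have hcp : Fact c.Prime := ⟨CharP.char_is_prime F c⟩
  obtain ⟨n, -, hn⟩ := FiniteField.card F c
  generalize (n : ℕ) = k at hn
  rcases eq_or_ne k 1 with rfl | hk1
  · exact Or.inl ⟨by rw [hn, pow_one]; exact hcp.out, by omega⟩
  have hk0 : k ≠ 0 := fun e => by rw [e, pow_zero] at hn; omega
  obtain ⟨r, hr, m, rfl⟩ := Nat.exists_prime_and_dvd hk1
  have hcodd : Odd c := by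
    refine hcp.out.odd_of_ne_two fun e => ?_
    rw [hn, e, Nat.odd_pow_iff hk0] at hodd
    exact absurd hodd (by decide)
  have hr2 : r ≠ 2 := fun e => h16 (by
    rw [hn, e, mul_comm 2 m, pow_mul, pow_two (c ^ m)]
    exact sixteen_dvd_of_square hcodd.pow)
  have hrodd : Odd r := hr.odd_of_ne_two hr2
  have hm0 : m ≠ 0 := fun e => hk0 (by rw [e, mul_zero])
  let K := GaloisField c m
  have : Fintype K := Fintype.ofFinite K
  have hK : Fintype.card K = c ^ m := by
    rw [← Nat.card_eq_fintype_card, GaloisField.card c m hm0]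
  have hKF : Fintype.card K ^ r = Fintype.card F := by rw [hK, hn, ← pow_mul, mul_comm]
  have hsmall : c ^ m ≤ 5 := by
    by_contra hlt
    have hKodd : Odd (Fintype.card K) := hK ▸ hcodd.pow
    obtain ⟨ι⟩ := CfsgLib.PSL2.exists_fieldHom hKF
    obtain ⟨e⟩ := CfsgLib.PSL2.nonempty_pslSub_equiv_psl ι hKF (Or.inr hrodd)
    have hproper : CfsgLib.PSL2.pslSub ι ≠ ⊤ := fun htop => by
      have hc' := Nat.card_congr e.toEquiv
      rw [htop, card_top] at hc'
      have h1 := CfsgLib.PSL2.card_psl (F := F)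
      have h2 := CfsgLib.PSL2.card_psl (F := K)
      rw [← hc'] at h2
      have hg : Nat.gcd 2 (Fintype.card F - 1) = 2 :=
        Nat.gcd_eq_left (Nat.Odd.sub_odd hodd odd_one).two_dvd
      have hg' : Nat.gcd 2 (Fintype.card K - 1) = 2 :=
        Nat.gcd_eq_left (Nat.Odd.sub_odd hKodd odd_one).two_dvd
      rw [hg] at h1
      rw [hg', h1] at h2
      have hlt' : Fintype.card K < Fintype.card F := by
        calc Fintype.card K = Fintype.card K ^ 1 := (pow_one _).symm
          _ < Fintype.card K ^ r := Nat.pow_lt_pow_right (by omega) hr.one_lt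
          _ = _ := hKF
      refine absurd h2 (ne_of_gt (Nat.mul_lt_mul'' (by omega) (Nat.mul_lt_mul'' hlt' (by omega))))
    exact psl_not_isCA hKodd (by
      obtain ⟨j, hj⟩ := hKodd
      omega) ((isCA_subgroup.2 (hP _ hproper)).congr e.symm)
  have hm1 : m = 1 := by
    by_contra hm1
    have h3 : 3 ≤ c := by
      obtain ⟨j, hj⟩ := hcodd
      have := hcp.out.two_le
      omega
    have : 3 ^ 2 ≤ c ^ m := (Nat.pow_le_pow_left h3 2).trans
      (Nat.pow_le_pow_right (by omega) (by omega))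
    omega
  rw [hm1, pow_one] at hsmall
  rw [hm1, mul_one] at hn
  refine Or.inr ⟨r, hr, hr2, ?_⟩
  have := hcp.out.two_le
  have h35 : c = 3 ∨ c = 5 := by
    obtain ⟨j, hj⟩ := hcodd
    omega
  rcases h35 with h | h
  · exact Or.inl (h ▸ hn)
  · exact Or.inr (h ▸ hn)

theorem not_sixteen_dvd {F : Type} [Field F] [Fintype F] (hodd : Odd (Fintype.card F))
    (hab : ∀ P : Sylow 2 (Matrix.ProjectiveSpecialLinearGroup (Fin 2) F),
      IsMulCommutative (P : Subgroup (Matrix.ProjectiveSpecialLinearGroup (Fin 2) F))) :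
    ¬ 16 ∣ Fintype.card F ^ 2 - 1 := fun h16 => by
  have : Fact (Nat.Prime 2) := ⟨Nat.prime_two⟩
  obtain ⟨P⟩ : Nonempty (Sylow 2 (Matrix.ProjectiveSpecialLinearGroup (Fin 2) F)) := inferInstance
  have := CfsgLib.InvChar.EightSylow.klein_psl_sylow hodd P (hab P)
  have hc : Nat.card P = 4 := IsKleinFour.card_four
  have hm := (P : Subgroup (Matrix.ProjectiveSpecialLinearGroup (Fin 2) F)).card_mul_index
  rw [hc] at hm
  have hni := P.not_dvd_index
  have h1 := CfsgLib.PSL2.card_psl (F := F)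
  rw [Nat.gcd_eq_left (Nat.Odd.sub_odd hodd odd_one).two_dvd, ← hm] at h1
  have h2 : 16 ∣ (Fintype.card F + 1) * (Fintype.card F * (Fintype.card F - 1)) := by
    have : (Fintype.card F + 1) * (Fintype.card F * (Fintype.card F - 1)) =
        Fintype.card F * (Fintype.card F ^ 2 - 1) := by
      rw [show Fintype.card F ^ 2 - 1 = (Fintype.card F + 1) * (Fintype.card F - 1) by
        rw [← Nat.sq_sub_sq, one_pow]]
      ring
    rw [this]
    exact h16.mul_left _
  rw [← h1] at h2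
  omega

/-- The forward direction. -/
theorem forward {G : Type u} [Group G] [Finite G] (hO : Oracle.{u}) (hns : ¬ Group.IsSolvable G)
    (hnCA : ¬ IsCA G) (hP : ProperCA G) :
    ∃ (F : Type) (_ : Field F) (_ : Fintype F),
      Nonempty (G ≃* Matrix.ProjectiveSpecialLinearGroup (Fin 2) F) ∧
        (((Fintype.card F).Prime ∧ 5 < Fintype.card F ∧ ¬ 16 ∣ Fintype.card F ^ 2 - 1) ∨
         (∃ p : ℕ, p.Prime ∧ p ≠ 2 ∧ (Fintype.card F = 3 ^ p ∨ Fintype.card F = 5 ^ p))) := by
  rcases quasi_or_component hO.evenOrder hns hP with hq | ⟨L, hn, hne, hq⟩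
  swap
  · exact absurd (isCA_of_component hO hP hn hne hq) hnCA
  rcases hq.shape hO with ⟨F, i1, i2, h4, ⟨e⟩⟩ | ⟨F, _, _, -, -, ρ, hs, hk, hc⟩
  · have hodd : Odd (Fintype.card F) := by
      by_contra he
      obtain ⟨c⟩ := psl_equiv_sl_even he
      exact hnCA (isCA_slTwo.congr (e.trans c))
    have h7 : 7 ≤ Fintype.card F := by
      by_contra h7
      obtain ⟨k, hk⟩ := hodd
      exact hnCA ((psl_small_isCA ⟨k, hk⟩ (by omega)).congr e)
    obtain ⟨-, hsimp, hnc⟩ := CfsgLib.PSL2.psl_not_solvable h4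
    haveI : IsSimpleGroup G := by
      have := e.toEquiv.nontrivial
      exact IsSimpleGroup.isSimpleGroup_of_surjective e.symm.toMonoidHom e.symm.surjective
    have hzb : center G = ⊥ := (IsSimpleGroup.eq_bot_or_eq_top_of_normal (center G)
      inferInstance).resolve_right fun ht => hnc ⟨⟨fun a b => by
        have := congrArg e (mem_center_iff.1 (ht ▸ mem_top (e.symm b) : e.symm b ∈ center G)
          (e.symm a))
        simpa using this⟩⟩
    have hab : ∀ P : Sylow 2 (Matrix.ProjectiveSpecialLinearGroup (Fin 2) F),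
        IsMulCommutative (P : Subgroup (Matrix.ProjectiveSpecialLinearGroup (Fin 2) F)) := by
      intro P
      by_contra hnab
      obtain ⟨a, b, hne⟩ : ∃ a b : P, ¬ Commute a b := by
        by_contra hall
        push Not at hall
        exact hnab ⟨⟨fun a b => hall a b⟩⟩
      let f := (QuotientGroup.mk' (center G)).comp e.symm.toMonoidHom
      have hf : Function.Injective f := by
        rw [← MonoidHom.ker_eq_bot_iff, eq_bot_iff]
        intro x hx
        have : e.symm x ∈ center G := by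
          rw [← QuotientGroup.ker_mk' (center G)]; exact hx
        rw [hzb, mem_bot] at this
        exact mem_bot.2 (e.symm.injective (this.trans (map_one _).symm))
      have := hq.two_dvd_center (P := (P : Subgroup _).map f) (P.isPGroup'.map f)
        ⟨_, ⟨a, a.2, rfl⟩, _, ⟨b, b.2, rfl⟩, fun hc => hne (Subtype.ext (hc.of_map hf))⟩
      rw [hzb, card_bot] at this
      norm_num at this
    have h16 := not_sixteen_dvd hodd hab
    refine ⟨F, i1, i2, ⟨e⟩, ?_⟩
    rcases field_cases hodd h7 (hP.congr e.symm) h16 with ⟨hp, h5⟩ | h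
    · exact Or.inl ⟨hp, h5, h16⟩
    · exact Or.inr h
  · rcases hc with hb | ⟨h9, h3⟩
    · exact absurd (isCA_slTwo.of_injective ρ ((MonoidHom.ker_eq_bot_iff ρ).1 hb)) hnCA
    · exact absurd (CoverNine.mk hq.perfect h9 hs hk h3).isCA hnCA

theorem sixteen_not_dvd_pow {c p : ℕ} (hc : c = 3 ∨ c = 5) (hp : Odd p) :
    ¬ 16 ∣ (c ^ p) ^ 2 - 1 := by
  obtain ⟨k, rfl⟩ := hp
  have h : (c ^ (2 * k + 1)) ^ 2 % 16 = 9 := by
    rw [show (c ^ (2 * k + 1)) ^ 2 = c ^ 2 * (c ^ 4) ^ k by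
      rw [← pow_mul, ← pow_mul, ← pow_add]; ring_nf]
    rcases hc with rfl | rfl
    · have h1 : (3 ^ 4) ^ k % 16 = 1 := by rw [Nat.pow_mod]; norm_num
      rw [Nat.mul_mod, h1]; norm_num
    · have h1 : (5 ^ 4) ^ k % 16 = 1 := by rw [Nat.pow_mod]; norm_num
      rw [Nat.mul_mod, h1]; norm_num
  omega

/-- The converse. -/
theorem backward {G : Type u} [Group G] [Finite G] {F : Type} [Field F] [Fintype F]
    (e : G ≃* Matrix.ProjectiveSpecialLinearGroup (Fin 2) F)
    (h : ((Fintype.card F).Prime ∧ 5 < Fintype.card F ∧ ¬ 16 ∣ Fintype.card F ^ 2 - 1) ∨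
         (∃ p : ℕ, p.Prime ∧ p ≠ 2 ∧ (Fintype.card F = 3 ^ p ∨ Fintype.card F = 5 ^ p))) :
    ¬ Group.IsSolvable G ∧ ¬ IsCA G ∧ ProperCA G := by
  obtain ⟨c, p, hc, hp1, hF, hc5, h16⟩ : ∃ c p : ℕ, c.Prime ∧ (p = 1 ∨ p.Prime) ∧
      Fintype.card F = c ^ p ∧ ((p = 1 ∧ 5 < c) ∨ ((c = 3 ∨ c = 5) ∧ p.Prime ∧ p ≠ 2)) ∧
      ¬ 16 ∣ Fintype.card F ^ 2 - 1 := by
    rcases h with ⟨hp, h5, h16⟩ | ⟨p, hp, hp2, hq⟩
    · exact ⟨_, 1, hp, Or.inl rfl, (pow_one _).symm, Or.inl ⟨rfl, h5⟩, h16⟩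
    · rcases hq with hq | hq
      · exact ⟨3, p, Nat.prime_three, Or.inr hp, hq, Or.inr ⟨Or.inl rfl, hp, hp2⟩,
          hq ▸ sixteen_not_dvd_pow (Or.inl rfl) (hp.odd_of_ne_two hp2)⟩
      · exact ⟨5, p, Nat.prime_five, Or.inr hp, hq, Or.inr ⟨Or.inr rfl, hp, hp2⟩,
          hq ▸ sixteen_not_dvd_pow (Or.inr rfl) (hp.odd_of_ne_two hp2)⟩
  have hcodd : Odd c := by
    rcases hc5 with ⟨-, h5⟩ | ⟨rfl | rfl, -, -⟩
    · exact hc.odd_of_ne_two (by omega)
    · decide
    · decide
  have h7 : 7 ≤ Fintype.card F := by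
    rcases hc5 with ⟨hp, h5⟩ | ⟨h35, hp, -⟩
    · rw [hF, hp, pow_one]
      obtain ⟨k, hk⟩ := hcodd
      omega
    · have : c ^ 2 ≤ c ^ p := Nat.pow_le_pow_right hc.pos hp.two_le
      rcases h35 with rfl | rfl <;> omega
  have hodd : Odd (Fintype.card F) := hF ▸ hcodd.pow
  have hsub : ∀ S : Subfield F, Fintype.card F = Nat.card S ∨ Nat.card S ≤ 5 := by
    intro S
    have : Fintype S := Fintype.ofFinite S
    obtain ⟨m, hm0, hm⟩ := CfsgLib.PSL2.exists_degree S.subtype
    rw [Nat.card_eq_fintype_card]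
    have hd : Fintype.card S ∣ c ^ p := hF ▸ hm ▸ dvd_pow_self _ hm0.ne'
    obtain ⟨j, hj, hS⟩ := (Nat.dvd_prime_pow hc).1 hd
    rw [hS, hF, ← pow_mul] at hm
    have hjm : j * m = p := Nat.pow_right_injective hc.two_le hm
    have hj0 : j ≠ 0 := fun e0 => by
      have := Fintype.one_lt_card (α := S)
      rw [hS, e0, pow_zero] at this
      omega
    rcases hc5 with ⟨hp, -⟩ | ⟨h35, hp, -⟩
    · left; rw [hF, hS, show j = p by omega]
    · rcases (Nat.dvd_prime hp).1 ⟨m, hjm.symm⟩ with rfl | rfl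
      · right
        rcases h35 with rfl | rfl <;> rw [hS] <;> norm_num
      · left; rw [hF, hS]
  refine ⟨fun hs => (CfsgLib.PSL2.psl_not_solvable (K := F) (by omega)).1
    (Group.isSolvable_of_isSolvable_injective (f := e.symm.toMonoidHom) e.symm.injective),
    fun hCA => psl_not_isCA hodd h7 (hCA.congr e.symm), (psl_properCA hodd h16 hsub).congr e⟩

/-- The classification, given the list of simple groups with 2-nilpotent involution centralisers. -/
theorem main (hO : Oracle.{u}) {G : Type u} [Group G] [Finite G] :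
    (¬ Group.IsSolvable G ∧
      ¬ (∀ x : G, x ∉ center G → IsMulCommutative (centralizer ({x} : Set G))) ∧
      ∀ H : Subgroup G, H ≠ ⊤ → (∀ x : H, x ∉ center H →
        IsMulCommutative (centralizer ({x} : Set H)))) ↔
      ∃ (F : Type) (_ : Field F) (_ : Fintype F),
        Nonempty (G ≃* Matrix.ProjectiveSpecialLinearGroup (Fin 2) F) ∧
        (((Fintype.card F).Prime ∧ 5 < Fintype.card F ∧ ¬ 16 ∣ Fintype.card F ^ 2 - 1) ∨
         (∃ p : ℕ, p.Prime ∧ p ≠ 2 ∧ (Fintype.card F = 3 ^ p ∨ Fintype.card F = 5 ^ p))) := by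
  constructor
  · rintro ⟨hns, hnCA, hP⟩
    exact forward hO hns (fun h => hnCA (centralizer_forms.2 h))
      fun H hH => isCA_subgroup.1 (centralizer_forms.1 (hP H hH))
  · rintro ⟨F, _, _, ⟨e⟩, h⟩
    obtain ⟨hns, hnCA, hP⟩ := backward e h
    exact ⟨hns, fun h' => hnCA (centralizer_forms.1 h'),
      fun H hH => centralizer_forms.2 (isCA_subgroup.2 (hP H hH))⟩

end CfsgLib.MinimalNonCA
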