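import Mathlib.GroupTheory.Sylow
import Mathlib.GroupTheory.Nilpotent
import Mathlib.GroupTheory.QuotientGroup.Basic

/-!
Groups in which centralisers of non-central elements are abelian, written on elements,
and the shape of such 2-groups.
-/

set_option autoImplicit false

namespace CfsgLib.MinimalNonCA

open Subgroup

variable {G : Type*} [Group G]

/-- The centraliser of every non-central element is abelian. -/
def IsCA (G : Type*) [Group G] : Prop :=
  ∀ x y z : G, x ∉ center G → Commute x y → Commute x z → Commute y z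

/-- `H` is a CA-group, on elements of the ambient group. -/
def CAIn (H : Subgroup G) : Prop :=
  ∀ x ∈ H, ∀ y ∈ H, ∀ z ∈ H, (∃ w ∈ H, ¬ Commute x w) → Commute x y → Commute x z → Commute y z

/-- All proper subgroups are CA-groups. -/
def ProperCA (G : Type*) [Group G] : Prop := ∀ H : Subgroup G, H ≠ ⊤ → CAIn H

theorem not_center_iff {x : G} : x ∉ center G ↔ ∃ w, ¬ Commute x w := by
  simp only [mem_center_iff, not_forall, commute_iff_eq, eq_comm]

theorem centralizer_forms :
    (∀ x : G, x ∉ center G → IsMulCommutative (centralizer ({x} : Set G))) ↔ IsCA G := by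
  constructor
  · intro h x y z hx hy hz
    have := h x hx
    exact congrArg Subtype.val
      (mul_comm' (⟨y, mem_centralizer_singleton_iff.2 hy.symm⟩ : centralizer ({x} : Set G))
        ⟨z, mem_centralizer_singleton_iff.2 hz.symm⟩)
  · intro h x hx
    refine ⟨⟨fun a b => Subtype.ext ?_⟩⟩
    exact h x a b hx (mem_centralizer_singleton_iff.1 a.2).symm
      (mem_centralizer_singleton_iff.1 b.2).symm

theorem isCA_subgroup {H : Subgroup G} : IsCA H ↔ CAIn H := by
  constructor
  · rintro h x hx y hy z hz ⟨w, hw, hne⟩ hxy hxz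
    have := h ⟨x, hx⟩ ⟨y, hy⟩ ⟨z, hz⟩
      (not_center_iff.2 ⟨⟨w, hw⟩, fun e => hne (congrArg Subtype.val e)⟩)
      (Subtype.ext hxy) (Subtype.ext hxz)
    exact congrArg Subtype.val this
  · intro h x y z hx hy hz
    obtain ⟨w, hw⟩ := not_center_iff.1 hx
    exact Subtype.ext (h x x.2 y y.2 z z.2 ⟨w, w.2, fun e => hw (Subtype.ext e)⟩
      (congrArg Subtype.val hy) (congrArg Subtype.val hz))

theorem CAIn.mono {H K : Subgroup G} (h : CAIn K) (le : H ≤ K) : CAIn H := by
  rintro x hx y hy z hz ⟨w, hw, hne⟩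
  exact h x (le hx) y (le hy) z (le hz) ⟨w, le hw, hne⟩

theorem IsCA.caIn (h : IsCA G) (H : Subgroup G) : CAIn H :=
  fun x _ y _ z _ ⟨w, _, hne⟩ => h x y z (not_center_iff.2 ⟨w, hne⟩)

theorem IsCA.properCA (h : IsCA G) : ProperCA G := fun H _ => h.caIn H

/-- An element with non-abelian centraliser in a CA subgroup is central in it. -/
theorem CAIn.central {H : Subgroup G} (h : CAIn H) {x y z : G} (hx : x ∈ H) (hy : y ∈ H)
    (hz : z ∈ H) (hxy : Commute x y) (hxz : Commute x z) (hne : ¬ Commute y z)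
    {w : G} (hw : w ∈ H) : Commute x w :=
  by_contra fun e => hne (h x hx y hy z hz ⟨w, hw, e⟩ hxy hxz)

theorem IsCA.of_injective {A : Type*} [Group A] (h : IsCA G) (f : A →* G)
    (hf : Function.Injective f) : IsCA A := by
  intro x y z hx hy hz
  obtain ⟨w, hw⟩ := not_center_iff.1 hx
  have key : ∀ a b : A, Commute (f a) (f b) → Commute a b := fun a b e =>
    hf (by rw [map_mul, map_mul]; exact e)
  exact key _ _ (h _ _ _ (not_center_iff.2 ⟨f w, fun e => hw (key _ _ e)⟩) (hy.map f) (hz.map f))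

theorem IsCA.congr {A : Type*} [Group A] (h : IsCA G) (e : A ≃* G) : IsCA A :=
  h.of_injective e.toMonoidHom e.injective

/-- A group with an abelian subgroup containing all products of pairs of outside elements. -/
theorem isCA_of_index_two {A : Subgroup G} (hA : ∀ a ∈ A, ∀ b ∈ A, Commute a b)
    (hi : ∀ a b, a ∉ A → b ∉ A → a⁻¹ * b ∈ A) : IsCA G := by
  intro x y z hx hy hz
  obtain ⟨w, hw⟩ := not_center_iff.1 hx
  by_cases hxA : x ∈ A
  · have hin : ∀ u, Commute x u → u ∈ A := fun u hu => by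
      by_contra hu'
      by_cases hwA : w ∈ A
      · exact hw (hA x hxA w hwA)
      · have := hu.mul_right (hA x hxA _ (hi u w hu' hwA))
        rw [mul_inv_cancel_left] at this
        exact hw this
    exact hA y (hin y hy) z (hin z hz)
  · have hdec : ∀ u, Commute x u → ∃ a ∈ A, Commute x a ∧ (u = a ∨ u = x * a) := fun u hu => by
      by_cases huA : u ∈ A
      · exact ⟨u, huA, hu, Or.inl rfl⟩
      · exact ⟨x⁻¹ * u, hi x u hxA huA, ((Commute.refl x).inv_right).mul_right hu,
          Or.inr (mul_inv_cancel_left x u).symm⟩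
    obtain ⟨a, ha, hxa, ea⟩ := hdec y hy
    obtain ⟨b, hb, hxb, eb⟩ := hdec z hz
    rcases ea with ea | ea <;> rcases eb with eb | eb <;> rw [ea, eb]
    · exact hA a ha b hb
    · exact hxa.symm.mul_right (hA a ha b hb)
    · exact hxb.mul_left (hA a ha b hb)
    · exact ((Commute.refl x).mul_right hxb).mul_left (hxa.symm.mul_right (hA a ha b hb))

/-- The shape of a non-abelian CA 2-group. -/
theorem two_group_shape {P : Type*} [Group P] [Finite P] (hP : IsPGroup 2 P) (hCA : IsCA P)
    (hne : ∃ a b : P, ¬ Commute a b) :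
    ∃ A : Subgroup P, A.Normal ∧ A ≠ ⊤ ∧ center P ≤ A ∧ (∀ a ∈ A, ∀ b ∈ A, Commute a b) ∧
      (∀ b, b ∉ A → b * b ∈ center P) ∧ (∀ b, b ∉ A → ∀ a ∈ A, Commute a b → a ∈ center P) ∧
      (∀ b, b ∉ A → ∀ a ∈ A, b * a * b⁻¹ * a ∈ center P) := by
  have hnon : Nontrivial (P ⧸ center P) := by
    rw [QuotientGroup.nontrivial_iff]
    intro h
    obtain ⟨a, b, hab⟩ := hne
    have ha : a ∈ center P := h ▸ mem_top a
    exact not_center_iff.2 ⟨b, hab⟩ ha
  have hQ : IsPGroup 2 (P ⧸ center P) := hP.to_quotient _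
  have : Fact (Nat.Prime 2) := ⟨Nat.prime_two⟩
  have := hQ.center_nontrivial
  obtain ⟨n, hn0, hn⟩ := (hQ.to_subgroup (center (P ⧸ center P))).nontrivial_iff_card.1 this
  obtain ⟨⟨q, hq⟩, hq2⟩ := exists_prime_orderOf_dvd_card'
    (G := center (P ⧸ center P)) 2 (hn ▸ dvd_pow_self 2 hn0.ne')
  rw [orderOf_mk] at hq2
  obtain ⟨y, rfl⟩ := QuotientGroup.mk'_surjective (center P) q
  have hy : y ∉ center P := fun h => by
    have h1 : QuotientGroup.mk' (center P) y = 1 := (QuotientGroup.eq_one_iff y).2 h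
    rw [h1, orderOf_one] at hq2
    omega
  have hy2 : y * y ∈ center P := by
    refine (QuotientGroup.eq_one_iff (y * y)).1 ?_
    have := pow_orderOf_eq_one (QuotientGroup.mk' (center P) y)
    rw [hq2, pow_two] at this
    simpa using this
  have hc : ∀ b, y⁻¹ * b⁻¹ * y * b ∈ center P := fun b => by
    refine (QuotientGroup.eq_one_iff (y⁻¹ * b⁻¹ * y * b)).1 ?_
    simp only [QuotientGroup.mk_mul, QuotientGroup.mk_inv]
    have hq' := mem_center_iff.1 hq (QuotientGroup.mk' (center P) b)⁻¹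
    simp only [QuotientGroup.mk'_apply] at hq'
    rw [mul_assoc (↑y : P ⧸ center P)⁻¹, hq', inv_mul_cancel_left, inv_mul_cancel]
  have hcy : ∀ b, ∃ c ∈ center P, b⁻¹ * y * b = y * c := fun b =>
    ⟨_, hc b, by group⟩
  let A : Subgroup P := centralizer {y}
  have hmem : ∀ {b}, b ∈ A ↔ Commute y b := fun {b} =>
    mem_centralizer_singleton_iff.trans ⟨fun h => h.symm, fun h => h.symm⟩
  have hab : ∀ a ∈ A, ∀ b ∈ A, Commute a b := fun a ha b hb =>
    hCA y a b hy (hmem.1 ha) (hmem.1 hb)
  have hfix : ∀ b, b ∉ A → ∀ a ∈ A, Commute a b → a ∈ center P := fun b hb a ha hab' => by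
    by_contra hnc
    exact hb (hmem.2 (hCA a y b hnc (hmem.1 ha).symm hab'))
  have hsq : ∀ b, b * b ∈ A := fun b => by
    obtain ⟨c, hc', he⟩ := hcy b
    have hcomm : ∀ u, u * c = c * u := mem_center_iff.1 hc'
    have hcc : c * c = 1 := by
      have h1 : b⁻¹ * (y * y) * b = y * y := by
        rw [mul_assoc, ← mem_center_iff.1 hy2 b, inv_mul_cancel_left]
      have h2 : b⁻¹ * (y * y) * b = y * y * (c * c) := by
        calc b⁻¹ * (y * y) * b = (b⁻¹ * y * b) * (b⁻¹ * y * b) := by group
          _ = y * c * (y * c) := by rw [he]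
          _ = y * (c * y) * c := by group
          _ = y * (y * c) * c := by rw [hcomm y]
          _ = y * y * (c * c) := by group
      exact mul_left_cancel ((h2.symm.trans h1).trans (mul_one _).symm)
    refine hmem.2 ?_
    have h3 : b⁻¹ * (b⁻¹ * y * b) * b = y := by
      rw [he]
      calc b⁻¹ * (y * c) * b = b⁻¹ * y * (c * b) := by group
        _ = b⁻¹ * y * (b * c) := by rw [hcomm b]
        _ = b⁻¹ * y * b * c := by group
        _ = y * c * c := by rw [he]
        _ = y := by rw [mul_assoc, hcc, mul_one]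
    calc y * (b * b) = b * b * (b⁻¹ * (b⁻¹ * y * b) * b) := by group
      _ = b * b * y := by rw [h3]
  have hnorm : A.Normal := ⟨fun a ha b => hmem.2 <| by
    obtain ⟨c, hc', he⟩ := hcy b
    have h1 : Commute (b⁻¹ * y * b) a := by
      rw [he]; exact (hmem.1 ha).mul_left (mem_center_iff.1 hc' a).symm
    have := h1.map (MulAut.conj b).toMonoidHom
    simpa [mul_assoc] using this⟩
  have htop : A ≠ ⊤ := fun h =>
    hy (by_contra fun hy' => by
      obtain ⟨w, hw⟩ := not_center_iff.1 hy'
      exact hw (hmem.1 (h ▸ mem_top w)))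
  have hsqc : ∀ b, b ∉ A → b * b ∈ center P := fun b hb =>
    hfix b hb _ (hsq b) ((Commute.refl b).mul_left (Commute.refl b))
  refine ⟨A, hnorm, htop, fun c hc' => hmem.2 (mem_center_iff.1 hc' y), hab, hsqc, hfix,
    fun b hb a ha => hfix b hb _ (A.mul_mem (hnorm.conj_mem a ha b) ha) ?_⟩
  have hbb := mem_center_iff.1 (hsqc b hb) a
  show b * a * b⁻¹ * a * b = b * (b * a * b⁻¹ * a)
  calc b * a * b⁻¹ * a * b = a * (b * a * b⁻¹) * b := by
        rw [(hab _ (hnorm.conj_mem a ha b) a ha).eq]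
    _ = a * (b * b) * (b⁻¹ * a) := by group
    _ = b * b * a * (b⁻¹ * a) := by rw [hbb]
    _ = b * (b * a * b⁻¹ * a) := by group

end CfsgLib.MinimalNonCA
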