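import Cfsg.Agent.Lib.MinimalNonCA.CentralEven

/-!
No non-abelian chief factor of exponent two.
-/

set_option autoImplicit false

namespace CfsgLib.MinimalNonCA

open Subgroup
open scoped commutatorElement

universe u

variable {G : Type u} [Group G]

namespace Chief

variable {X : Subgroup G} (h : Chief G X 2)
include h

/-- The fixed points modulo the centre form an abelian group and have index two. -/
theorem fixed_facts [Finite G] (hab : ∃ a ∈ X, ∃ b ∈ X, ¬ Commute a b) :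
    ∃ F : Subgroup G, F ≤ X ∧ center G ⊓ X ≤ F ∧ ¬ F ≤ center G ∧ F ≠ X ∧
      (∀ a ∈ F, ∀ b ∈ F, Commute a b) ∧ ∀ y ∈ X, ∀ y' ∈ X, y ∉ F → y' ∉ F → y * y' ∈ F := by
  have : Fact (Nat.Prime 2) := ⟨Nat.prime_two⟩
  obtain ⟨S, hXS⟩ := h.isPGroup_two.exists_le_sylow
  obtain ⟨a, ha, b, hb, hne⟩ := hab
  obtain ⟨B, hB, ⟨t, htB, htJ⟩, -⟩ := h.sylow_shape S ⟨a, hXS ha, b, hXS hb, hne⟩
  have ht2 := (hB t htB).2
  have hmoved := fun {v : G} (hv : v ∈ X) (hvZ : v ∉ center G) =>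
    h.exists_moved ⟨a, ha, b, hb, hne⟩ hv hvZ
  let F : Subgroup G :=
    { carrier := {x | x ∈ X ∧ ⁅t, x⁆ ∈ center G}
      one_mem' := ⟨X.one_mem, by simp⟩
      mul_mem' := fun {a b} ha hb => ⟨X.mul_mem ha.1 hb.1, by
        rw [comm_mul_right hb.2]; exact mul_mem ha.2 hb.2⟩
      inv_mem' := fun {a} ha => ⟨X.inv_mem ha.1, by
        rw [commutatorElement_inv_right, ← commutatorElement_inv t a,
          mul_comm_center (inv_mem ha.2) a⁻¹, mul_assoc, inv_mul_cancel, mul_one]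
        exact inv_mem ha.2⟩ }
  have hd : ∀ y ∈ X, t * ⁅t, y⁆ * t⁻¹ = ⁅t, y⁆⁻¹ ∧ y * ⁅t, y⁆ * y⁻¹ = ⁅t, y⁆⁻¹ := by
    intro y hy
    have hww : t * t * y * (t * t)⁻¹ = y := by
      rw [(mem_cKer.1 ht2 y hy).eq, mul_inv_cancel_right]
    constructor
    · calc t * ⁅t, y⁆ * t⁻¹ = (t * t * y * (t * t)⁻¹) * (t * y * t⁻¹)⁻¹ := by
            rw [commutatorElement_def]; group
        _ = y * (t * y * t⁻¹)⁻¹ := by rw [hww]
        _ = ⁅t, y⁆⁻¹ := by rw [commutatorElement_def]; group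
    · have hex : ⁅t, y⁆ * y * (⁅t, y⁆ * y) = y * y := by
        rw [show ⁅t, y⁆ * y = t * y * t⁻¹ by rw [commutatorElement_def]; group]
        exact h.conj_sq hy t
      have h1 : ⁅t, y⁆ * y * ⁅t, y⁆ = y :=
        mul_right_cancel (b := y) (by rw [← hex]; group)
      calc y * ⁅t, y⁆ * y⁻¹ = ⁅t, y⁆⁻¹ * (⁅t, y⁆ * y * ⁅t, y⁆) * y⁻¹ := by group
        _ = ⁅t, y⁆⁻¹ := by rw [h1]; group
  have hdF : ∀ y ∈ X, ⁅t, y⁆ ∈ F := fun y hy => ⟨h.comm_mem hy t, by
    rw [commutatorElement_def t ⁅t, y⁆, (hd y hy).1]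
    exact (inv_mem_iff).1 (by simpa using h.sq_mem (h.comm_mem hy t))⟩
  have hperp : ∀ f ∈ F, ∀ y ∈ X, Commute f ⁅t, y⁆ := fun f hf y hy => by
    have e1 : ⁅f, t * y * t⁻¹⁆ = ⁅f, y⁆ := by
      have h2 := conjugate_commutatorElement f y t
      rw [mul_comm_center (h.comm f hf.1 y hy) t, mul_inv_cancel_right,
        show t * f * t⁻¹ = ⁅t, f⁆ * f by rw [commutatorElement_def]; group,
        comm_mul_left (h.comm f hf.1 _ (h.conj_mem hy t)),
        commutatorElement_eq_one_iff_commute.2 (comm_central hf.2 _), mul_one] at h2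
      exact h2.symm
    rw [show t * y * t⁻¹ = ⁅t, y⁆ * y by rw [commutatorElement_def]; group,
      comm_mul_right (h.comm f hf.1 y hy)] at e1
    exact commutatorElement_eq_one_iff_commute.1 (mul_eq_right.1 e1)
  obtain ⟨y₀, hy₀, hy₀F⟩ : ∃ y ∈ X, y ∉ F := by
    by_contra hne'
    push Not at hne'
    exact htJ (mem_jKer.2 fun x hx => (hne' x hx).2)
  have hd₀ : ⁅t, y₀⁆ ∉ center G := fun e => hy₀F ⟨hy₀, e⟩
  obtain ⟨H, hH, hJH, htH⟩ := h.exists_one t
  have hXH : ∀ {x}, x ∈ X → x ∈ H := fun hx => hJH (h.le_jKer hx)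
  have hFab : ∀ f ∈ F, ∀ f' ∈ F, Commute f f' := fun f hf f' hf' => by
    obtain ⟨x, hx, hxd⟩ := hmoved (h.comm_mem hy₀ t) hd₀
    exact hH _ (hXH (h.comm_mem hy₀ t)) f (hXH hf.1) f' (hXH hf'.1) ⟨x, hXH hx, hxd⟩
      (hperp f hf y₀ hy₀).symm (hperp f' hf' y₀ hy₀).symm
  have hyt : ∀ y ∈ X, y ∉ F → ∀ f ∈ F, Commute (y * t) f := fun y hy hyF f hf => by
    have hdZ : ⁅t, y⁆ ∉ center G := fun e => hyF ⟨hy, e⟩
    obtain ⟨x, hx, hxd⟩ := hmoved (h.comm_mem hy t) hdZ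
    refine hH _ (hXH (h.comm_mem hy t)) _ (mul_mem (hXH hy) htH) f (hXH hf.1)
      ⟨x, hXH hx, hxd⟩ ?_ (hperp f hf y hy).symm
    have e : y * t * ⁅t, y⁆ * (y * t)⁻¹ = ⁅t, y⁆ := by
      calc y * t * ⁅t, y⁆ * (y * t)⁻¹ = y * (t * ⁅t, y⁆ * t⁻¹) * y⁻¹ := by group
        _ = (y * ⁅t, y⁆ * y⁻¹)⁻¹ := by rw [(hd y hy).1]; simp [mul_assoc]
        _ = ⁅t, y⁆ := by rw [(hd y hy).2, inv_inv]
    exact (mul_inv_eq_iff_eq_mul.1 e).symm
  refine ⟨F, fun x hx => hx.1, fun x hx => ⟨hx.2, by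
    rw [commutatorElement_eq_one_iff_commute.2 (comm_central hx.1 t).symm]
    exact one_mem _⟩, fun e => hd₀ (e (hdF y₀ hy₀)), fun e => hy₀F (e.ge hy₀), hFab, ?_⟩
  intro y hy y' hy' hyF hy'F
  by_contra hyy
  have hcom : ∀ f ∈ F, Commute t f := fun f hf => by
    have c1 := (hyt y hy hyF f hf).eq
    have c2 := (hyt y' hy' hy'F f hf).eq
    have c3 := (hyt _ (mul_mem hy hy') hyy f hf).eq
    have hyf : Commute y f := by
      have e : y * (y' * t * f) = f * (y * y' * t) := by rw [← c3]; group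
      rw [c2] at e
      exact mul_right_cancel (b := y' * t) (by
        calc y * f * (y' * t) = y * (f * (y' * t)) := by group
          _ = f * (y * y' * t) := e
          _ = f * y * (y' * t) := by group)
    exact mul_left_cancel (a := y) (by
      calc y * (t * f) = y * t * f := by group
        _ = f * (y * t) := c1
        _ = (f * y) * t := by group
        _ = y * (f * t) := by rw [← hyf.eq]; group)
  obtain ⟨x, hx, hxd⟩ := hmoved (h.comm_mem hy₀ t) hd₀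
  by_cases hxF : x ∈ F
  · exact hxd (hFab _ (hdF y₀ hy₀) x hxF)
  · have c := (hyt x hx hxF _ (hdF y₀ hy₀)).mul_left (hcom _ (hdF y₀ hy₀)).inv_left
    rw [mul_inv_cancel_right] at c
    exact hxd c.symm

theorem false_class_two [Finite G] (hab : ∃ a ∈ X, ∃ b ∈ X, ¬ Commute a b) : False := by
  obtain ⟨F, hFX, hZF, hFZ, hFne, hFab, hindex⟩ := h.fixed_facts hab
  haveI := h.normal
  have hFn : ¬ F.Normal := fun hn => hFne (h.minimal F hn hFX hFZ)
  obtain ⟨g, f₀, hf₀, hg⟩ : ∃ g, ∃ f ∈ F, g * f * g⁻¹ ∉ F := by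
    by_contra hne
    push Not at hne
    exact hFn ⟨fun f hf g => hne g f hf⟩
  set f₁ := g * f₀ * g⁻¹ with hf₁
  have hf₁X : f₁ ∈ X := h.conj_mem (hFX hf₀) g
  have hsplit : ∀ x ∈ X, x ∈ F ∨ ∃ f ∈ F, x = f₁ * f := fun x hx => or_iff_not_imp_left.2
    fun hxF => ⟨f₁⁻¹ * x, hindex _ (inv_mem hf₁X) x hx (fun e => hg (inv_mem_iff.1 e)) hxF,
      (mul_inv_cancel_left f₁ x).symm⟩
  have hmeet : ∀ v ∈ F, g⁻¹ * v * g ∈ F → v ∈ center G := fun v hv hv' => by
    by_contra hvZ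
    obtain ⟨x, hx, hxv⟩ := h.exists_moved hab (hFX hv) hvZ
    have hv1 : Commute v f₁ := by
      have := (hFab _ hv' f₀ hf₀).map (MulAut.conj g).toMonoidHom
      simpa [mul_assoc, hf₁] using this
    rcases hsplit x hx with hxF | ⟨f, hf, rfl⟩
    · exact hxv (hFab v hv x hxF)
    · exact hxv (hv1.mul_right (hFab v hv f hf))
  have hFpair : ∀ f ∈ F, f ∉ center G → ∀ f' ∈ F, f' ∉ center G → f⁻¹ * f' ∈ center G := by
    intro f hf hfZ f' hf' hfZ'
    have hg1 : ∀ u ∈ F, u ∉ center G → g⁻¹ * u * g ∉ F := fun u hu huZ e => huZ (hmeet u hu e)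
    refine hmeet _ (mul_mem (inv_mem hf) hf') ?_
    have hX' : ∀ u ∈ X, g⁻¹ * u * g ∈ X := fun u hu => by
      simpa using h.conj_mem hu g⁻¹
    have := hindex _ (inv_mem (hX' f (hFX hf))) _ (hX' f' (hFX hf'))
      (fun e => hg1 f hf hfZ (inv_mem_iff.1 e)) (hg1 f' hf' hfZ')
    convert this using 1
    group
  set π := QuotientGroup.mk' (center G) with hπ
  have hone : ∀ {x}, π x = 1 ↔ x ∈ center G := fun {x} => QuotientGroup.eq_one_iff x
  obtain ⟨e₀, he₀, he₀Z⟩ := SetLike.not_le_iff_exists.1 hFZ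
  have hFim : ∀ f ∈ F, π f = 1 ∨ π f = π e₀ := fun f hf => or_iff_not_imp_left.2 fun hf1 => by
    have := hone.2 (hFpair e₀ he₀ he₀Z f hf fun e => hf1 (hone.2 e))
    rw [map_mul, map_inv, inv_mul_eq_one] at this
    exact this.symm
  let V := X.map π
  have hVn : V.Normal := h.normal.map π (QuotientGroup.mk'_surjective _)
  have hcard : Nat.card V ≤ 4 := by
    have hsub : (V : Set (G ⧸ center G)) ⊆ {1, π e₀, π f₁, π f₁ * π e₀} := by
      rintro _ ⟨x, hx, rfl⟩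
      rcases hsplit x hx with hxF | ⟨f, hf, rfl⟩
      · rcases hFim x hxF with e | e <;> simp [e]
      · rcases hFim f hf with e | e <;> simp [e]
    calc Nat.card V = (V : Set (G ⧸ center G)).ncard := (Nat.card_coe_set_eq _)
      _ ≤ ({1, π e₀, π f₁, π f₁ * π e₀} : Set (G ⧸ center G)).ncard :=
            Set.ncard_le_ncard hsub (Set.toFinite _)
      _ ≤ 4 := by
            refine (Set.ncard_insert_le _ _).trans ?_
            refine Nat.succ_le_succ ((Set.ncard_insert_le _ _).trans ?_)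
            refine Nat.succ_le_succ ((Set.ncard_insert_le _ _).trans ?_)
            rw [Set.ncard_singleton]
  letI : MulAction G V := MulAction.compHom V ((MulAut.conjNormal (H := V)).comp π)
  refine h.jKer_ne_top (eq_top_iff.2 fun k _ => mem_jKer.2 fun x hx => ?_)
  have hfix := perfect_small_action h.perfect hcard k (⟨π x, x, hx, rfl⟩ : V)
  have e : π k * π x * (π k)⁻¹ = π x := congrArg Subtype.val hfix
  refine hone.1 ?_
  rw [commutatorElement_def, map_mul, map_mul, map_mul, map_inv, map_inv, e, mul_inv_cancel]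

end Chief

end CfsgLib.MinimalNonCA
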