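import Cfsg.Agent.Lib.MinimalNonCA.CentralOdd
import Cfsg.Agent.Lib.MinimalNonCA.CentralClassTwo

/-!
In a perfect group with CA proper subgroups and solvable proper normal subgroups,
the proper normal subgroups are central.
-/

set_option autoImplicit false

namespace CfsgLib.MinimalNonCA

open Subgroup
open scoped commutatorElement

universe u

variable {G : Type u} [Group G] [Finite G]

omit [Finite G] in
/-- In a perfect group a normal subgroup with central commutators is central. -/
theorem le_center_of_comm_le (hp : commutator G = ⊤) {N : Subgroup G}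
    (h : ⁅(⊤ : Subgroup G), N⁆ ≤ center G) : N ≤ center G := by
  have h1 : ⁅⁅(⊤ : Subgroup G), N⁆, (⊤ : Subgroup G)⁆ = ⊥ := le_bot_iff.1 (commutator_le.2
    fun a ha b _ => mem_bot.2 (commutatorElement_eq_one_iff_commute.2 (mem_center_iff.1 (h ha) b).symm))
  have h2 : ⁅⁅N, (⊤ : Subgroup G)⁆, (⊤ : Subgroup G)⁆ = ⊥ := by
    rwa [commutator_comm N ⊤]
  have h3 := commutator_commutator_eq_bot_of_rotate h1 h2
  intro n hn
  refine mem_center_iff.2 fun g => ?_
  have : g ∈ ⁅(⊤ : Subgroup G), (⊤ : Subgroup G)⁆ := by rw [← _root_.commutator_def, hp]; exact mem_top g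
  exact commutatorElement_eq_one_iff_commute.1 (mem_bot.1 (h3.le (commutator_mem_commutator this hn)))

theorem proper_normal_central (hE : EvenOrder.{u}) (hns : ¬ Group.IsSolvable G)
    (hp : commutator G = ⊤) (hCA : ProperCA G)
    (hs : ∀ N : Subgroup G, N.Normal → N ≠ ⊤ → Group.IsSolvable N) :
    ∀ N : Subgroup G, N.Normal → N ≠ ⊤ → N ≤ center G := by
  suffices H : ∀ n, ∀ N : Subgroup G, Nat.card N = n → N.Normal → N ≠ ⊤ → N ≤ center G from
    fun N => H _ N rfl
  intro n
  induction n using Nat.strong_induction_on with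
  | _ n ih =>
    intro X hn hXn hXt
    by_contra hXZ
    haveI := hXn
    have hmin : ∀ N : Subgroup G, N.Normal → N ≤ X → ¬ N ≤ center G → N = X := by
      intro N hN hle hNZ
      by_contra hne
      refine hNZ (ih _ ?_ N rfl hN fun e => hXt (top_le_iff.1 (e ▸ hle)))
      rw [← hn]
      exact lt_of_le_of_ne (Nat.le_of_dvd Nat.card_pos (card_dvd_of_le hle))
        fun e => hne (eq_of_le_of_card_ge hle e.ge)
    have hgenX : ⁅(⊤ : Subgroup G), X⁆ = X :=
      hmin _ inferInstance (commutator_le_right _ _) fun e => hXZ (le_center_of_comm_le hp e)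
    have hcomm : ∀ x ∈ X, ∀ y ∈ X, ⁅x, y⁆ ∈ center G := by
      have hXX : ⁅X, X⁆ ≤ center G := by
        by_contra hne
        have e := hmin _ inferInstance (commutator_le_right _ _) hne
        have hXb : X ≠ ⊥ := fun e' => hXZ (e' ▸ bot_le)
        haveI := hs X hXn hXt
        have : Nontrivial X := (nontrivial_iff_ne_bot X).2 hXb
        refine (Group.IsSolvable.commutator_lt_top_of_nontrivial X).ne ?_
        apply map_injective X.subtype_injective
        rw [map_subtype_commutator, e, ← MonoidHom.range_eq_map, range_subtype]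
      exact fun x hx y hy => hXX (commutator_mem_commutator hx hy)
    set π := QuotientGroup.mk' (center G) with hπ
    have hone : ∀ {x}, π x = 1 ↔ x ∈ center G := fun {x} => QuotientGroup.eq_one_iff x
    obtain ⟨r, hr, hdvd⟩ := Nat.exists_prime_and_dvd (n := Nat.card (X.map π)) fun e => hXZ
      fun x hx => hone.1 (mem_bot.1 ((Subgroup.card_eq_one.1 e).le ⟨x, hx, rfl⟩))
    have : Fact r.Prime := ⟨hr⟩
    let N : Subgroup G :=
      { carrier := {x | x ∈ X ∧ x ^ r ∈ center G}
        one_mem' := ⟨X.one_mem, by simp⟩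
        mul_mem' := fun {a b} ha hb => ⟨X.mul_mem ha.1 hb.1, hone.1 (by
          have hc : Commute (π a) (π b) := commutatorElement_eq_one_iff_commute.1 (by
            rw [← map_commutatorElement]; exact hone.2 (hcomm a ha.1 b hb.1))
          rw [map_pow, map_mul, hc.mul_pow, ← map_pow, ← map_pow, hone.2 ha.2, hone.2 hb.2,
            one_mul])⟩
        inv_mem' := fun {a} ha => ⟨X.inv_mem ha.1, by rw [inv_pow]; exact inv_mem ha.2⟩ }
    have hNn : N.Normal := ⟨fun x hx g => ⟨hXn.conj_mem x hx.1 g, by
      rw [conj_pow]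
      exact (inferInstance : (center G).Normal).conj_mem _ hx.2 g⟩⟩
    have hNX : N = X := by
      refine hmin N hNn (fun x hx => hx.1) fun e => ?_
      obtain ⟨⟨q, x, hx, rfl⟩, hq⟩ := exists_prime_orderOf_dvd_card' (G := X.map π) r hdvd
      rw [← orderOf_coe] at hq
      change orderOf (π x) = r at hq
      have hxN : x ∈ N := ⟨hx, hone.1 (by rw [map_pow, ← hq, pow_orderOf_eq_one])⟩
      rw [hone.2 (e hxN), orderOf_one] at hq
      exact hr.one_lt.ne hq
    have hC : Chief G X r :=
      { even := hE, nonsolv := hns, perfect := hp, properCA := hCA, solv := hs, normal := hXn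
        not_central := hXZ, minimal := hmin
        gen := fun N hN => hgenX.ge.trans (commutator_le.2 fun g _ x hx => hN g x hx)
        prime := hr, pow := fun x hx => (hNX.ge hx).2, comm := hcomm }
    by_cases hr2 : r = 2
    · subst hr2
      by_cases hab : ∀ a ∈ X, ∀ b ∈ X, Commute a b
      · exact hC.false_abelian hab
      · push Not at hab
        exact hC.false_class_two hab
    · exact hC.false_of_odd hr2

end CfsgLib.MinimalNonCA
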