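import Cfsg.Agent.Lib.MinimalNonCA.CentralSylow

/-!
No non-central chief factor of exponent two.
-/

set_option autoImplicit false

namespace CfsgLib.MinimalNonCA

open Subgroup
open scoped commutatorElement

universe u

variable {G : Type u} [Group G]

namespace Chief

variable {X : Subgroup G} (h : Chief G X 2)
include h

theorem sq_mem {x : G} (hx : x ∈ X) : x * x ∈ center G := by
  rw [← pow_two]; exact h.pow x hx

theorem conj_sq {x : G} (hx : x ∈ X) (g : G) : g * x * g⁻¹ * (g * x * g⁻¹) = x * x := by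
  calc g * x * g⁻¹ * (g * x * g⁻¹) = g * (x * x) * g⁻¹ := by group
    _ = x * x := by rw [mul_comm_center (h.sq_mem hx) g, mul_inv_cancel_right]

theorem abelian_exponent (hab : ∀ a ∈ X, ∀ b ∈ X, Commute a b) {x : G} (hx : x ∈ X) :
    x * x = 1 := by
  let N : Subgroup G :=
    { carrier := {x | x ∈ X ∧ x * x = 1}
      one_mem' := ⟨X.one_mem, one_mul 1⟩
      mul_mem' := fun {a b} ha hb => ⟨X.mul_mem ha.1 hb.1, by
        calc a * b * (a * b) = a * (b * a) * b := by group
          _ = a * (a * b) * b := by rw [(hab b hb.1 a ha.1).eq]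
          _ = a * a * (b * b) := by group
          _ = 1 := by rw [ha.2, hb.2, one_mul]⟩
      inv_mem' := fun {a} ha => ⟨X.inv_mem ha.1, by rw [← mul_inv_rev, ha.2, inv_one]⟩ }
  refine (h.gen N (fun g x hx => ⟨h.comm_mem hx g, ?_⟩) hx).2
  have hc := hab (g * x * g⁻¹) (h.conj_mem hx g) x⁻¹ (X.inv_mem hx)
  calc ⁅g, x⁆ * ⁅g, x⁆ = g * x * g⁻¹ * (x⁻¹ * (g * x * g⁻¹)) * x⁻¹ := by
        rw [commutatorElement_def]; group
    _ = g * x * g⁻¹ * ((g * x * g⁻¹) * x⁻¹) * x⁻¹ := by rw [hc.eq]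
    _ = g * x * g⁻¹ * (g * x * g⁻¹) * (x * x)⁻¹ := by group
    _ = 1 := by rw [h.conj_sq hx g, mul_inv_cancel]

theorem mem_jKer_of_abelian (hab : ∀ a ∈ X, ∀ b ∈ X, Commute a b) {w : G}
    (hw2 : w * w ∈ centralizer (X : Set G)) : w ∈ jKer X := by
  by_cases hw : w ∈ centralizer (X : Set G)
  · exact cKer_le hw
  refine mem_jKer.2 fun x hx => h.fixed_abelian hab hw hw2 (h.comm_mem hx w) ?_
  have hd := h.abelian_exponent hab (h.comm_mem hx w)
  have e : w * ⁅w, x⁆ * w⁻¹ = ⁅w, x⁆⁻¹ := by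
    have hww : w * w * x * (w * w)⁻¹ = x := by
      rw [(mem_cKer.1 hw2 x hx).eq, mul_inv_cancel_right]
    calc w * ⁅w, x⁆ * w⁻¹ = (w * w * x * (w * w)⁻¹) * (w * x * w⁻¹)⁻¹ := by
          rw [commutatorElement_def]; group
      _ = x * (w * x * w⁻¹)⁻¹ := by rw [hww]
      _ = ⁅w, x⁆⁻¹ := by rw [commutatorElement_def]; group
  rw [inv_eq_of_mul_eq_one_right hd, mul_inv_eq_iff_eq_mul] at e
  exact e

theorem false_abelian [Finite G] (hab : ∀ a ∈ X, ∀ b ∈ X, Commute a b) : False := by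
  obtain ⟨S⟩ := (inferInstance : Nonempty (Sylow 2 G))
  by_cases hS : ∃ a ∈ (S : Subgroup G), ∃ b ∈ (S : Subgroup G), ¬ Commute a b
  · obtain ⟨B, hB, ⟨b₀, hb₀, hb₀J⟩, -⟩ := h.sylow_shape S hS
    exact hb₀J (h.mem_jKer_of_abelian hab (hB b₀ hb₀).2)
  push Not at hS
  haveI := h.cKer_normal
  haveI := h.jKer_normal
  set C := centralizer (X : Set G) with hC
  set π := QuotientGroup.mk' C with hπ
  have hone : ∀ {x}, π x = 1 ↔ x ∈ C := fun {x} => QuotientGroup.eq_one_iff x
  have hJsq : ∀ j ∈ jKer X, j * j ∈ C := fun j hj => mem_cKer.2 fun x hx => by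
    refine commutatorElement_eq_one_iff_commute.1 ?_
    rw [comm_mul_left (mem_jKer.1 hj x hx)]
    exact h.abelian_exponent hab (h.comm_mem hx j)
  have hP2 : IsPGroup 2 ((jKer X).map π) := isPGroup_iff_pow_pow_eq_one.2 fun ⟨y, hy⟩ => ⟨1, by
    obtain ⟨j, hj, rfl⟩ := hy
    apply Subtype.ext
    rw [SubmonoidClass.coe_pow, pow_one, pow_two, ← map_mul]
    exact hone.2 (hJsq j hj)⟩
  have : Fact (Nat.Prime 2) := ⟨Nat.prime_two⟩
  let P := S.mapSurjective (f := π) (QuotientGroup.mk'_surjective _)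
  have hJn : ((jKer X).map π).Normal := h.jKer_normal.map π (QuotientGroup.mk'_surjective _)
  have hle : (jKer X).map π ≤ (P : Subgroup (G ⧸ C)) :=
    sup_eq_right.1 (P.is_maximal' (hP2.to_sup_of_normal_left P.isPGroup') le_sup_right)
  let N : Subgroup G := (centralizer (((jKer X).map π : Subgroup (G ⧸ C)) : Set (G ⧸ C))).comap π
  have hN : N.Normal := (normal_centralizer (H := (jKer X).map π)).comap π
  have hSN : (S : Subgroup G) ≤ N := fun s hs => mem_centralizer_iff.2 fun y hy => by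
    obtain ⟨t, ht, rfl⟩ : y ∈ (P : Subgroup (G ⧸ C)) := hle hy
    exact ((hS t ht s hs).map π).eq
  have hNtop : N = ⊤ := by
    by_contra hne
    exact S.not_dvd_index
      ((h.even _ (not_solvable_quotient h.nonsolv (h.solv N hN hne))).trans (index_dvd_of_le hSN))
  have hcent : ∀ g : G, ∀ j ∈ jKer X, ⁅g, j⁆ ∈ C := fun g j hj => hone.1 (by
    rw [map_commutatorElement, commutatorElement_eq_one_iff_commute]
    exact (mem_centralizer_iff.1 (hNtop ▸ mem_top g : g ∈ N) _ ⟨j, hj, rfl⟩).symm)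
  have hJC : jKer X ≤ C := fun j hj => mem_cKer.2 fun y hy => by
    refine (mem_centralizer_singleton_iff.1 (h.gen (centralizer {j}) (fun g x hx =>
      mem_centralizer_singleton_iff.2 ?_) hy)).symm
    have hinv : ⁅j, g * x * g⁻¹⁆ = ⁅j, x⁆ := by
      have hj' : g⁻¹ * j * g = ⁅g⁻¹, j⁆ * j := by rw [commutatorElement_def]; group
      have h1 : ⁅g⁻¹ * j * g, x⁆ = ⁅j, x⁆ := by
        rw [hj', comm_mul_left (mem_jKer.1 hj x hx),
          commutatorElement_eq_one_iff_commute.2 (mem_cKer.1 (hcent g⁻¹ j hj) x hx), mul_one]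
      have h2 := conjugate_commutatorElement (g⁻¹ * j * g) x g
      rw [h1, mul_comm_center (mem_jKer.1 hj x hx) g, mul_inv_cancel_right] at h2
      rw [show j = g * (g⁻¹ * j * g) * g⁻¹ by group] at h2 ⊢
      simpa [mul_assoc] using h2.symm
    rw [show g * x * g⁻¹ = ⁅g, x⁆ * x by rw [commutatorElement_def]; group,
      comm_mul_right (mem_jKer.1 hj x hx)] at hinv
    exact (commutatorElement_eq_one_iff_commute.1 (mul_eq_right.1 hinv)).eq.symm
  obtain ⟨w, -, hwJ, hw2⟩ := h.exists_involution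
  exact hwJ (h.mem_jKer_of_abelian hab (hJC hw2))

theorem isPGroup_two [Finite G] : IsPGroup 2 X := by
  have hc2 : ∀ a ∈ X, ∀ b ∈ X, ⁅a, b⁆ * ⁅a, b⁆ = 1 := fun a ha b hb => by
    rw [← comm_mul_left (h.comm a ha b hb)]
    exact commutatorElement_eq_one_iff_commute.2 (comm_central (h.sq_mem ha) b)
  let N : Subgroup G :=
    { carrier := {x | x ∈ X ∧ x * x * (x * x) = 1}
      one_mem' := ⟨X.one_mem, by simp⟩
      mul_mem' := fun {a b} ha hb => ⟨X.mul_mem ha.1 hb.1, by
        have hab : b * a = ⁅b, a⁆ * (a * b) := by rw [commutatorElement_def]; group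
        have hz := h.comm b hb.1 a ha.1
        have e : a * b * (a * b) = ⁅b, a⁆ * (a * a * (b * b)) := by
          calc a * b * (a * b) = a * (b * a) * b := by group
            _ = a * ⁅b, a⁆ * (a * b) * b := by rw [hab]; group
            _ = ⁅b, a⁆ * a * (a * b) * b := by rw [mul_comm_center hz a]
            _ = ⁅b, a⁆ * (a * a * (b * b)) := by group
        have hA := h.sq_mem ha.1
        have hB := h.sq_mem hb.1
        rw [e]
        set z := ⁅b, a⁆ with hzdef
        calc z * (a * a * (b * b)) * (z * (a * a * (b * b)))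
            = z * (a * a * (b * b) * z) * (a * a * (b * b)) := by group
          _ = z * (z * (a * a * (b * b))) * (a * a * (b * b)) := by
                rw [mul_comm_center hz (a * a * (b * b))]
          _ = (z * z) * (a * a * ((b * b) * (a * a)) * (b * b)) := by group
          _ = (z * z) * (a * a * ((a * a) * (b * b)) * (b * b)) := by
                rw [mul_comm_center hA (b * b)]
          _ = (z * z) * ((a * a * (a * a)) * (b * b * (b * b))) := by group
          _ = 1 := by rw [ha.2, hb.2, hc2 b hb.1 a ha.1, one_mul, one_mul]⟩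
      inv_mem' := fun {a} ha => ⟨X.inv_mem ha.1, by
        rw [show a⁻¹ * a⁻¹ * (a⁻¹ * a⁻¹) = (a * a * (a * a))⁻¹ by group, ha.2, inv_one]⟩ }
  have hle : X ≤ N := h.gen N fun g x hx => ⟨h.comm_mem hx g, by
    set e := ⁅g, x⁆ with he
    have hex : e * x * (e * x) = x * x := by
      rw [show e * x = g * x * g⁻¹ by rw [he, commutatorElement_def]; group]
      exact h.conj_sq hx g
    have h1 : e * x * e = x :=
      mul_right_cancel (b := x) (by rw [← hex]; group)
    have h2 : e * e = ⁅e, x⁆ := by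
      rw [commutatorElement_def]
      have h3 : x * e⁻¹ * x⁻¹ = e := by
        calc x * e⁻¹ * x⁻¹ = (e * x * e) * e⁻¹ * x⁻¹ := by rw [h1]
          _ = e := by group
      calc e * e = e * (x * e⁻¹ * x⁻¹) := by rw [h3]
        _ = _ := by group
    rw [h2]
    exact hc2 e (h.comm_mem hx g) x hx⟩
  refine isPGroup_iff_pow_pow_eq_one.2 fun ⟨x, hx⟩ => ⟨2, Subtype.ext ?_⟩
  rw [SubmonoidClass.coe_pow]
  show x ^ (2 ^ 2) = 1
  rw [← (hle hx).2]
  show x ^ 4 = _
  rw [pow_succ, pow_succ, pow_two, mul_assoc]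

end Chief

end CfsgLib.MinimalNonCA
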