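import Cfsg.Agent.Lib.MinimalNonCA.CentralSylow

/-!
No non-central chief factor of odd exponent.
-/

set_option autoImplicit false

namespace CfsgLib.MinimalNonCA

open Subgroup
open scoped commutatorElement

universe u

variable {G : Type u} [Group G]

namespace Chief

variable {X : Subgroup G} {r : ℕ} (h : Chief G X r)
include h

theorem coprime_of_two_pow (hr : r ≠ 2) {w : G} (hw : ∃ n, orderOf w = 2 ^ n) :
    (orderOf w).Coprime r := by
  obtain ⟨n, hn⟩ := hw
  rw [hn]
  exact Nat.Coprime.pow_left _ ((Nat.coprime_primes Nat.prime_two h.prime).2 hr.symm)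

theorem inverts (hr : r ≠ 2) {w : G} (hwo : ∃ n, orderOf w = 2 ^ n)
    (hw : w ∉ centralizer (X : Set G)) (hw2 : w * w ∈ centralizer (X : Set G)) {v : G}
    (hv : v ∈ X) : w * v * w⁻¹ * v ∈ center G := by
  refine h.fixed_coprime (h.coprime_of_two_pow hr hwo) hw hw2
    (X.mul_mem (h.conj_mem hv w) hv) ?_
  have hww : w * w * v * (w * w)⁻¹ = v := by
    rw [(mem_cKer.1 hw2 v hv).eq, mul_inv_cancel_right]
  have e : w * (w * v * w⁻¹ * v) * w⁻¹ = v * (w * v * w⁻¹) := by
    calc w * (w * v * w⁻¹ * v) * w⁻¹ = (w * w * v * (w * w)⁻¹) * (w * v * w⁻¹) := by group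
      _ = v * (w * v * w⁻¹) := by rw [hww]
  rw [commutatorElement_def, e,
    show v * (w * v * w⁻¹) * (w * v * w⁻¹ * v)⁻¹ = ⁅v, w * v * w⁻¹⁆ by
      rw [commutatorElement_def]; group]
  exact h.comm v hv _ (h.conj_mem hv w)

theorem two_elt_mem_cKer [Finite G] (hr : r ≠ 2) :
    ∀ n : ℕ, ∀ w : G, orderOf w = 2 ^ n → w ∈ jKer X → w ∈ centralizer (X : Set G) := by
  intro n
  induction n with
  | zero =>
    intro w hw _
    rw [pow_zero, orderOf_eq_one_iff] at hw
    rw [hw]; exact one_mem _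
  | succ n ih =>
    intro w hw hwJ
    have h2 : orderOf (w * w) = 2 ^ n := by
      rw [← pow_two, orderOf_pow_of_dvd (by norm_num) (hw ▸ dvd_pow_self 2 n.succ_ne_zero), hw,
        pow_succ, Nat.mul_div_cancel _ (by norm_num)]
    have hw2 := ih (w * w) h2 (mul_mem hwJ hwJ)
    by_contra hne
    refine h.not_central fun v hv => ?_
    have hd := h.inverts hr ⟨_, hw⟩ hne hw2 hv
    rw [show w * v * w⁻¹ * v = ⁅w, v⁆ * (v * v) by rw [commutatorElement_def]; group] at hd
    have h1 := ((center G).mul_mem_cancel_left (mem_jKer.1 hwJ v hv)).1 hd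
    have hodd : Odd r := h.prime.odd_of_ne_two hr
    obtain ⟨k, hk⟩ := hodd
    have h3 := h.pow v hv
    rw [hk, pow_succ, pow_mul, pow_two] at h3
    exact ((center G).mul_mem_cancel_left (pow_mem h1 k)).1 h3

/-- Two 2-elements outside `J` with squares in `J` agree modulo `J`. -/
theorem same_involution [Finite G] (hr : r ≠ 2) {w w' : G} (hwo : ∃ n, orderOf w = 2 ^ n)
    (hwo' : ∃ n, orderOf w' = 2 ^ n) (hw : w ∉ jKer X) (hw' : w' ∉ jKer X)
    (hw2 : w * w ∈ jKer X) (hw2' : w' * w' ∈ jKer X) : w⁻¹ * w' ∈ jKer X := by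
  have sq : ∀ u : G, (∃ n, orderOf u = 2 ^ n) → u * u ∈ jKer X →
      u * u ∈ centralizer (X : Set G) := fun u ⟨n, hn⟩ hu => by
    obtain ⟨m, -, hm⟩ := (Nat.dvd_prime_pow Nat.prime_two).1
      (hn ▸ orderOf_pow_dvd (x := u) 2)
    exact h.two_elt_mem_cKer hr m (u * u) (by rw [← pow_two, hm]) hu
  refine mem_jKer.2 fun v hv => ?_
  have h1 := h.inverts hr hwo (fun e => hw (cKer_le e)) (sq w hwo hw2) hv
  have h2 := h.inverts hr hwo' (fun e => hw' (cKer_le e)) (sq w' hwo' hw2') hv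
  have e : ⁅w⁻¹ * w', v⁆ =
      w⁻¹ * ((w' * v * w'⁻¹ * v) * (w * v * w⁻¹ * v)⁻¹) * w := by
    rw [commutatorElement_def]; group
  rw [e]
  have hm := (center G).mul_mem h2 ((center G).inv_mem h1)
  simpa using (inferInstance : (center G).Normal).conj_mem _ hm w⁻¹

theorem false_of_odd [Finite G] (hr : r ≠ 2) : False := by
  haveI := h.jKer_normal
  have : Fact (Nat.Prime 2) := ⟨Nat.prime_two⟩
  set π := QuotientGroup.mk' (jKer X) with hπ
  have hone : ∀ {x}, π x = 1 ↔ x ∈ jKer X := fun {x} => QuotientGroup.eq_one_iff x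
  have uniq : ∀ a b : G ⧸ jKer X, a * a = 1 → b * b = 1 → a ≠ 1 → b ≠ 1 → a = b := by
    intro a b ha hb ha1 hb1
    obtain ⟨w, hw, rfl⟩ := exists_two_lift a ha
    obtain ⟨w', hw', rfl⟩ := exists_two_lift b hb
    have := hone.2 (h.same_involution hr hw hw' (fun e => ha1 (hone.2 e))
      (fun e => hb1 (hone.2 e)) (hone.1 (by rw [map_mul]; exact ha))
      (hone.1 (by rw [map_mul]; exact hb)))
    rw [map_mul, map_inv, inv_mul_eq_one] at this
    exact this
  obtain ⟨S⟩ := (inferInstance : Nonempty (Sylow 2 G))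
  let P := S.mapSurjective (f := π) (QuotientGroup.mk'_surjective _)
  have hPmem : ∀ {y}, y ∈ (P : Subgroup (G ⧸ jKer X)) → ∃ s ∈ (S : Subgroup G), π s = y :=
    fun {y} hy => hy
  have hab : ∀ a b : (P : Subgroup (G ⧸ jKer X)), Commute a b := by
    intro a b
    obtain ⟨s, hs, es⟩ := hPmem a.2
    obtain ⟨t, ht, et⟩ := hPmem b.2
    apply Subtype.ext
    show a.1 * b.1 = b.1 * a.1
    rw [← es, ← et]
    by_cases hS : ∃ a ∈ (S : Subgroup G), ∃ b ∈ (S : Subgroup G), ¬ Commute a b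
    · obtain ⟨B, hB, ⟨b₀, hb₀, hb₀J⟩, hdec⟩ := h.sylow_shape S hS
      have hB2 : ∀ b ∈ B, π b * π b = 1 := fun b hb => by
        rw [← map_mul]; exact hone.2 (cKer_le (hB b hb).2)
      have hval : ∀ b ∈ B, π b = 1 ∨ π b = π b₀ := fun b hb =>
        or_iff_not_imp_left.2 fun e => uniq _ _ (hB2 b hb) (hB2 b₀ hb₀) e fun e' =>
          hb₀J (hone.1 e')
      have hval' : ∀ u ∈ (S : Subgroup G), π u = 1 ∨ π u = π b₀ := fun u hu => by
        rcases hdec u hu with hb | ⟨b, hb, b', hb', rfl⟩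
        · exact hval u hb
        · rw [map_mul]
          rcases hval b hb with e | e <;> rcases hval b' hb' with e' | e' <;> rw [e, e'] <;>
            simp [hB2 b₀ hb₀]
      rcases hval' s hs with e | e <;> rcases hval' t ht with e' | e' <;> rw [e, e'] <;> simp
    · push Not at hS
      exact ((hS s hs t ht).map π).eq
  have : IsCyclic (P : Subgroup (G ⧸ jKer X)) :=
    isCyclic_of_unique P.isPGroup' hab fun a b ha hb ha1 hb1 => Subtype.ext
      (uniq a b (congrArg Subtype.val ha) (congrArg Subtype.val hb)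
        (fun e => ha1 (Subtype.ext e)) fun e => hb1 (Subtype.ext e))
  exact not_cyclic_two (perfect_quotient h.perfect _) P h.two_dvd_index

end Chief

end CfsgLib.MinimalNonCA
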