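import Cfsg.Agent.Lib.MinimalNonCA.Basic
import Cfsg.Agent.Lib.Structure.Subnormal
import Cfsg.Agent.Lib.InvChar.SmallSolvable
import Mathlib.GroupTheory.Transfer
import Mathlib.GroupTheory.GroupAction.Quotient

/-!
Small tools: solvable preimages, perfect groups and cyclic Sylow 2-subgroups.
-/

set_option autoImplicit false

namespace CfsgLib.MinimalNonCA

open Subgroup
open scoped commutatorElement

universe u

variable {G : Type u} [Group G]

/-- Non-solvable groups have even order (supplied by the oracle). -/
def EvenOrder : Prop := ∀ (Q : Type u) [Group Q] [Finite Q], ¬ Group.IsSolvable Q → 2 ∣ Nat.card Q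

theorem isSolvable_comap (J : Subgroup G) [J.Normal] [Group.IsSolvable J]
    (K : Subgroup (G ⧸ J)) [Group.IsSolvable K] :
    Group.IsSolvable (K.comap (QuotientGroup.mk' J)) := by
  let H := K.comap (QuotientGroup.mk' J)
  have hJ : J ≤ H := fun j hj => by
    show QuotientGroup.mk' J j ∈ K
    rw [show QuotientGroup.mk' J j = 1 from (QuotientGroup.eq_one_iff j).2 hj]
    exact K.one_mem
  refine Group.isSolvable_of_ker_le_range (Subgroup.inclusion hJ)
    ((QuotientGroup.mk' J).subgroupComap K) fun x hx => ?_
  have h1 : QuotientGroup.mk' J x.1 = 1 := congrArg Subtype.val hx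
  exact ⟨⟨x.1, (QuotientGroup.eq_one_iff x.1).1 h1⟩, rfl⟩

theorem isSolvable_subgroup_of_le {H K : Subgroup G} (h : H ≤ K) [Group.IsSolvable K] :
    Group.IsSolvable H :=
  Group.isSolvable_of_isSolvable_injective (Subgroup.inclusion_injective h)

theorem not_solvable_quotient {J : Subgroup G} [J.Normal] (hG : ¬ Group.IsSolvable G)
    (hJ : Group.IsSolvable J) : ¬ Group.IsSolvable (G ⧸ J) :=
  fun h => hG ((Group.isSolvable_iff_subgroup_quotient J).2 ⟨hJ, h⟩)

theorem perfect_quotient (hp : commutator G = ⊤) (J : Subgroup G) [J.Normal] :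
    commutator (G ⧸ J) = ⊤ := by
  have h := map_commutator (⊤ : Subgroup G) ⊤ (QuotientGroup.mk' J)
  rw [map_top_of_surjective _ (QuotientGroup.mk'_surjective J), ← commutator_def,
    ← commutator_def, hp, map_top_of_surjective _ (QuotientGroup.mk'_surjective J)] at h
  exact h.symm

theorem perfect_hom_trivial (hp : commutator G = ⊤) {A : Type*} [Group A] (f : G →* A)
    (hA : ∀ a b, f a * f b = f b * f a) (g : G) : f g = 1 := by
  have : ⁅(⊤ : Subgroup G), ⊤⁆ ≤ f.ker := commutator_le.2 fun a _ b _ => by
    rw [MonoidHom.mem_ker, map_commutatorElement, commutatorElement_def, hA]; group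
  rw [← commutator_def, hp] at this
  exact this (mem_top g)

theorem perfect_hom_solvable (hp : commutator G = ⊤) {A : Type*} [Group A] [Group.IsSolvable A]
    (f : G →* A) (g : G) : f g = 1 := by
  obtain ⟨n, hn⟩ := (‹Group.IsSolvable A›).solvable
  have key : ∀ k, (⊤ : Subgroup G).map f ≤ derivedSeries A k := fun k => by
    induction k with
    | zero => simp
    | succ k ih =>
      rw [derivedSeries_succ, ← hp, commutator_def, map_commutator]
      exact commutator_mono ih ih
  have := key n ⟨g, mem_top g, rfl⟩
  rwa [hn, mem_bot] at this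

/-- A perfect group with cyclic Sylow 2-subgroups has odd order. -/
theorem not_cyclic_two [Finite G] (hp : commutator G = ⊤) (P : Sylow 2 G) [IsCyclic P] :
    ¬ 2 ∣ Nat.card G := by
  intro h2
  have : Fact (Nat.Prime 2) := ⟨Nat.prime_two⟩
  have hmin : (Nat.card G).minFac = 2 := Nat.minFac_eq_two_iff _ |>.2 h2
  have hne : Nat.card P ≠ 1 := fun h => by
    have h' : Nat.card (P : Subgroup G) = 1 := h
    have := P.card_eq_multiplicity
    rw [h'] at this
    have h0 : 1 ≤ (Nat.card G).factorization 2 :=
      (Nat.prime_two.dvd_iff_one_le_factorization Nat.card_pos.ne').1 h2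
    exact absurd this.symm (Nat.one_lt_two_pow (by omega)).ne'
  have hc := IsCyclic.isComplement' hmin (P := P) ‹IsCyclic P›
  generalize hT : MonoidHom.transferSylow P
    (IsCyclic.normalizer_le_centralizer hmin (P := P) ‹IsCyclic P›) = T at hc
  have hker : T.ker = ⊤ :=
    eq_top_iff.2 fun g _ => perfect_hom_trivial hp T (fun a b => by
      obtain ⟨c, hgen⟩ := IsCyclic.exists_generator (α := P)
      obtain ⟨i, hi⟩ := hgen (T a)
      obtain ⟨j, hj⟩ := hgen (T b)
      simp only at hi hj
      rw [← hi, ← hj]
      exact (Commute.zpow_zpow_self c i j).eq) g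
  rw [hker, isComplement'_top_left] at hc
  exact hne (by
    show Nat.card (P : Subgroup G) = 1
    rw [hc, card_bot])

/-- A group acting on at most four points through a perfect group acts trivially. -/
theorem perfect_small_action (hp : commutator G = ⊤) {A : Type*} [Finite A] [MulAction G A]
    (hA : Nat.card A ≤ 4) (g : G) (a : A) : g • a = a := by
  obtain ⟨n, ⟨e⟩⟩ := Finite.exists_equiv_fin A
  have hn : n ≤ 4 := by rwa [Nat.card_congr e, Nat.card_fin] at hA
  let ι : A ↪ Fin 4 := e.toEmbedding.trans (Fin.castLEEmb hn)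
  have := CfsgLib.InvCharSmall.isSolvable_perm_four
  have h := perfect_hom_solvable hp
    ((Equiv.Perm.viaEmbeddingHom ι).comp (MulAction.toPermHom G A)) g
  rw [MonoidHom.comp_apply] at h
  exact Equiv.Perm.ext_iff.1 ((map_eq_one_iff _ (Equiv.Perm.viaEmbeddingHom_injective ι)).1 h) a

end CfsgLib.MinimalNonCA
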