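import Cfsg.Agent.Lib.MinimalNonCA.CentralTools

/-!
The setting for a non-central chief factor below a perfect group with CA proper subgroups.
-/

set_option autoImplicit false

namespace CfsgLib.MinimalNonCA

open Subgroup
open scoped commutatorElement

universe u

variable {G : Type u} [Group G]

/-- A minimal non-central proper normal subgroup of prime exponent modulo the centre. -/
structure Chief (G : Type u) [Group G] (X : Subgroup G) (r : ℕ) : Prop where
  even : EvenOrder.{u}
  nonsolv : ¬ Group.IsSolvable G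
  perfect : commutator G = ⊤
  properCA : ProperCA G
  solv : ∀ N : Subgroup G, N.Normal → N ≠ ⊤ → Group.IsSolvable N
  normal : X.Normal
  not_central : ¬ X ≤ center G
  minimal : ∀ N : Subgroup G, N.Normal → N ≤ X → ¬ N ≤ center G → N = X
  gen : ∀ N : Subgroup G, (∀ g : G, ∀ x ∈ X, ⁅g, x⁆ ∈ N) → X ≤ N
  prime : r.Prime
  pow : ∀ x ∈ X, x ^ r ∈ center G
  comm : ∀ x ∈ X, ∀ y ∈ X, ⁅x, y⁆ ∈ center G

theorem comm_central {z : G} (hz : z ∈ center G) (g : G) : Commute z g :=
  (mem_center_iff.1 hz g).symm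

theorem mul_comm_center {z : G} (hz : z ∈ center G) (g : G) : g * z = z * g := mem_center_iff.1 hz g

/-- The kernel of the action on the chief factor. -/
def jKer (X : Subgroup G) : Subgroup G :=
  (centralizer ((X.map (QuotientGroup.mk' (center G)) : Subgroup (G ⧸ center G)) :
    Set (G ⧸ center G))).comap (QuotientGroup.mk' (center G))

theorem mem_jKer {X : Subgroup G} {g : G} : g ∈ jKer X ↔ ∀ x ∈ X, ⁅g, x⁆ ∈ center G := by
  have key : ∀ x, Commute (QuotientGroup.mk' (center G) g) (QuotientGroup.mk' (center G) x) ↔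
      ⁅g, x⁆ ∈ center G := fun x => by
    rw [← QuotientGroup.eq_one_iff, ← QuotientGroup.mk'_apply, map_commutatorElement]
    exact commutatorElement_eq_one_iff_commute.symm
  rw [jKer, mem_comap, mem_centralizer_iff]
  constructor
  · intro h x hx
    exact (key x).1 (h _ ⟨x, hx, rfl⟩).symm
  · rintro h _ ⟨x, hx, rfl⟩
    exact ((key x).2 (h x hx)).symm

theorem mem_cKer {X : Subgroup G} {g : G} :
    g ∈ centralizer (X : Set G) ↔ ∀ x ∈ X, Commute g x := by
  rw [mem_centralizer_iff]
  exact forall₂_congr fun x _ => ⟨fun h => h.symm, fun h => h.symm⟩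

/-- Commutators are additive on the right when central. -/
theorem comm_mul_right {a b c : G} (hz : ⁅a, c⁆ ∈ center G) :
    ⁅a, b * c⁆ = ⁅a, b⁆ * ⁅a, c⁆ := by
  rw [show ⁅a, b * c⁆ = ⁅a, b⁆ * (b * ⁅a, c⁆ * b⁻¹) by simp only [commutatorElement_def]; group,
    mul_comm_center hz b, mul_inv_cancel_right]

/-- Commutators are additive on the left when central. -/
theorem comm_mul_left {a b c : G} (hz : ⁅b, c⁆ ∈ center G) :
    ⁅a * b, c⁆ = ⁅b, c⁆ * ⁅a, c⁆ := by
  rw [show ⁅a * b, c⁆ = a * ⁅b, c⁆ * a⁻¹ * ⁅a, c⁆ by simp only [commutatorElement_def]; group,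
    mul_comm_center hz a, mul_inv_cancel_right]

namespace Chief

variable {X : Subgroup G} {r : ℕ} (h : Chief G X r)
include h

theorem conj_mem {x : G} (hx : x ∈ X) (g : G) : g * x * g⁻¹ ∈ X := h.normal.conj_mem x hx g

theorem comm_mem {x : G} (hx : x ∈ X) (g : G) : ⁅g, x⁆ ∈ X :=
  X.mul_mem (h.conj_mem hx g) (X.inv_mem hx)

theorem cKer_normal : (centralizer (X : Set G)).Normal :=
  haveI := h.normal
  normal_centralizer

theorem jKer_normal : (jKer X).Normal := by
  have := h.normal.map (QuotientGroup.mk' (center G)) (QuotientGroup.mk'_surjective _)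
  exact (normal_centralizer (H := X.map (QuotientGroup.mk' (center G)))).comap _

omit h in
theorem cKer_le : centralizer (X : Set G) ≤ jKer X := fun g hg => mem_jKer.2 fun x hx => by
  rw [commutatorElement_eq_one_iff_commute.2 (mem_cKer.1 hg x hx)]
  exact (center G).one_mem

theorem le_jKer : X ≤ jKer X := fun g hg => mem_jKer.2 fun x hx => h.comm g hg x hx

theorem jKer_ne_top : jKer X ≠ ⊤ := fun e =>
  h.not_central (h.gen _ fun g x hx => mem_jKer.1 (e ▸ mem_top g) x hx)

theorem jKer_solvable : Group.IsSolvable (jKer X) := h.solv _ h.jKer_normal h.jKer_ne_top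

theorem quotient_not_solvable :
    haveI := h.jKer_normal
    ¬ Group.IsSolvable (G ⧸ jKer X) :=
  haveI := h.jKer_normal
  not_solvable_quotient h.nonsolv h.jKer_solvable

theorem two_dvd_index [Finite G] : 2 ∣ (jKer X).index := by
  haveI := h.jKer_normal
  exact h.even _ h.quotient_not_solvable

/-- A solvable subgroup of `G / J` has a CA preimage. -/
theorem caIn_comap [(jKer X).Normal] (K : Subgroup (G ⧸ jKer X)) [Group.IsSolvable K] :
    CAIn (K.comap (QuotientGroup.mk' (jKer X))) := by
  have := h.jKer_solvable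
  refine h.properCA _ fun e => h.nonsolv ?_
  have hs := isSolvable_comap (jKer X) K
  rw [e] at hs
  exact Group.isSolvable_of_surjective (f := (⊤ : Subgroup G).subtype)
    fun g => ⟨⟨g, mem_top g⟩, rfl⟩

/-- A CA subgroup containing `J` and a given element. -/
theorem exists_one (g : G) : ∃ H : Subgroup G, CAIn H ∧ jKer X ≤ H ∧ g ∈ H := by
  haveI := h.jKer_normal
  let K := zpowers (QuotientGroup.mk' (jKer X) g)
  have : Group.IsSolvable K := Group.isSolvable_of_comm fun a b => mul_comm' a b
  refine ⟨_, h.caIn_comap K, fun j hj => ?_, mem_zpowers _⟩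
  show QuotientGroup.mk' (jKer X) j ∈ K
  rw [show QuotientGroup.mk' (jKer X) j = 1 from (QuotientGroup.eq_one_iff j).2 hj]
  exact K.one_mem

/-- A CA subgroup containing `J` and two elements with squares in `J`. -/
theorem exists_two {w w' : G} (hw : w * w ∈ jKer X) (hw' : w' * w' ∈ jKer X) :
    ∃ H : Subgroup G, CAIn H ∧ jKer X ≤ H ∧ w ∈ H ∧ w' ∈ H := by
  haveI := h.jKer_normal
  set π := QuotientGroup.mk' (jKer X)
  have ha : π w * π w = 1 := by rw [← map_mul]; exact (QuotientGroup.eq_one_iff _).2 hw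
  have hb : π w' * π w' = 1 := by rw [← map_mul]; exact (QuotientGroup.eq_one_iff _).2 hw'
  set a := π w
  set b := π w'
  have hai : a⁻¹ = a := inv_eq_of_mul_eq_one_right ha
  have hbi : b⁻¹ = b := inv_eq_of_mul_eq_one_right hb
  have hnorm : zpowers a ≤ normalizer (zpowers (a * b) : Set (G ⧸ jKer X)) := by
    rw [zpowers_le, mem_normalizer_iff_map_conj_eq, MonoidHom.map_zpowers]
    have : (MulAut.conj a).toMonoidHom (a * b) = (a * b)⁻¹ := by
      show a * (a * b) * a⁻¹ = _
      rw [hai, ← mul_assoc, ha, one_mul, mul_inv_rev, hai, hbi]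
    exact (congrArg zpowers this).trans (zpowers_inv)
  have : Group.IsSolvable (zpowers (a * b)) := Group.isSolvable_of_comm fun a b => mul_comm' a b
  have : Group.IsSolvable (zpowers a) := Group.isSolvable_of_comm fun a b => mul_comm' a b
  have := CfsgLib.Structure.isSolvable_sup_of_le_normalizer hnorm
  refine ⟨_, h.caIn_comap (zpowers (a * b) ⊔ zpowers a), fun j hj => ?_, ?_, ?_⟩
  · rw [mem_comap]
    show π j ∈ _
    rw [show π j = 1 from (QuotientGroup.eq_one_iff j).2 hj]
    exact one_mem _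
  · exact mem_sup_right (mem_zpowers a)
  · rw [mem_comap]
    show b ∈ _
    have e : a * (a * b) = b := by rw [← mul_assoc, ha, one_mul]
    have hmem : a * (a * b) ∈ zpowers (a * b) ⊔ zpowers a := mul_mem (mem_sup_right (mem_zpowers a)) (mem_sup_left (mem_zpowers _))
    rwa [e] at hmem

/-- A CA subgroup containing `J` and a 2-subgroup. -/
theorem exists_pgroup [Finite G] {p : ℕ} [Fact p.Prime] {S : Subgroup G} (hS : IsPGroup p S) :
    ∃ H : Subgroup G, CAIn H ∧ jKer X ≤ H ∧ S ≤ H := by
  haveI := h.jKer_normal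
  have : Group.IsNilpotent (S.map (QuotientGroup.mk' (jKer X))) := (hS.map _).isNilpotent
  refine ⟨_, h.caIn_comap (S.map (QuotientGroup.mk' (jKer X))), fun j hj => ?_,
    le_comap_map _ _⟩
  rw [mem_comap]
  rw [show QuotientGroup.mk' (jKer X) j = 1 from (QuotientGroup.eq_one_iff j).2 hj]
  exact one_mem _

/-- In a non-abelian `X` only central elements commute with all of `X`. -/
theorem exists_moved (hX : ∃ a ∈ X, ∃ b ∈ X, ¬ Commute a b) {v : G} (hv : v ∈ X)
    (hvZ : v ∉ center G) : ∃ x ∈ X, ¬ Commute v x := by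
  by_contra hne
  push Not at hne
  haveI := h.normal
  haveI := h.cKer_normal
  have e := h.minimal (X ⊓ centralizer (X : Set G)) inferInstance inf_le_left
    fun hle => hvZ (hle ⟨hv, mem_cKer.2 hne⟩)
  obtain ⟨a, ha, b, hb, hab⟩ := hX
  exact hab (mem_cKer.1 (e.ge ha).2 b hb)

/-- Abelian case: an element with square centralising `X` has only central fixed points. -/
theorem fixed_abelian (hab : ∀ a ∈ X, ∀ b ∈ X, Commute a b) {w : G}
    (hw : w ∉ centralizer (X : Set G)) (hw2 : w * w ∈ centralizer (X : Set G)) {v : G}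
    (hv : v ∈ X) (hwv : Commute w v) : v ∈ center G := by
  haveI := h.cKer_normal
  by_contra hvZ
  have key : ∀ w₁ w₂ : G, w₁ ∉ centralizer (X : Set G) → w₁ * w₁ ∈ centralizer (X : Set G) →
      w₂ * w₂ ∈ centralizer (X : Set G) → ∀ u ∈ X, u ∉ center G → Commute w₁ u →
      Commute w₂ u := by
    intro w₁ w₂ h1 h11 h22 u hu _ hc
    obtain ⟨H, hH, hJ, hm1, hm2⟩ := h.exists_two (cKer_le h11) (cKer_le h22)
    by_contra hne
    exact h1 (mem_cKer.2 fun x hx => hH u (hJ (h.le_jKer hu)) w₁ hm1 x (hJ (h.le_jKer hx))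
      ⟨w₂, hm2, fun e => hne e.symm⟩ hc.symm (hab u hu x hx))
  let E : Subgroup G := X ⊓ centralizer {w}
  have hmem : ∀ {u}, u ∈ E ↔ u ∈ X ∧ Commute w u := fun {u} =>
    and_congr_right fun _ => mem_centralizer_singleton_iff.trans ⟨fun e => e.symm, fun e => e.symm⟩
  have hE : E.Normal := ⟨fun u hu g => by
    obtain ⟨huX, hcu⟩ := hmem.1 hu
    refine hmem.2 ⟨h.conj_mem huX g, ?_⟩
    by_cases huZ : u ∈ center G
    · exact (comm_central ((inferInstance : (center G).Normal).conj_mem u huZ g) w).symm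
    have hc := key w (g⁻¹ * w * g) hw hw2 (by
      have e : g⁻¹ * w * g * (g⁻¹ * w * g) = g⁻¹ * (w * w) * g⁻¹⁻¹ := by group
      rw [e]
      exact h.cKer_normal.conj_mem _ hw2 _) u huX huZ hcu
    have := hc.map (MulAut.conj g).toMonoidHom
    simpa [mul_assoc] using this⟩
  have e := h.minimal E hE inf_le_left fun hle => hvZ (hle (hmem.2 ⟨hv, hwv⟩))
  exact hw (mem_cKer.2 fun x hx => (hmem.1 (e.ge hx)).2)

/-- An element of order prime to `r` fixing a coset fixes the element. -/
theorem commute_of_coprime {k v : G} (hk : (orderOf k).Coprime r) (hv : v ∈ X)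
    (hz : ⁅k, v⁆ ∈ center G) : Commute k v := by
  set z := ⁅k, v⁆ with hzdef
  have h1 : k * v * k⁻¹ = z * v := by rw [hzdef, commutatorElement_def]; group
  have hn : ∀ n : ℕ, k ^ n * v * (k ^ n)⁻¹ = z ^ n * v := by
    intro n
    induction n with
    | zero => simp
    | succ n ih =>
      have hzk : k * z ^ n = z ^ n * k := mul_comm_center (pow_mem hz n) k
      calc k ^ (n + 1) * v * (k ^ (n + 1))⁻¹ = k * (k ^ n * v * (k ^ n)⁻¹) * k⁻¹ := by
            rw [pow_succ' k n]; group
        _ = k * z ^ n * v * k⁻¹ := by rw [ih]; group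
        _ = z ^ n * (k * v * k⁻¹) := by rw [hzk]; group
        _ = z ^ (n + 1) * v := by rw [h1, pow_succ, mul_assoc]
  have hm : z ^ orderOf k = 1 := by
    have := hn (orderOf k)
    rw [pow_orderOf_eq_one, one_mul, inv_one, mul_one] at this
    exact mul_eq_right.1 this.symm
  have hr : z ^ r = 1 := by
    have e : (k * v * k⁻¹) ^ r = v ^ r := by
      rw [conj_pow, mul_comm_center (h.pow v hv) k, mul_inv_cancel_right]
    rw [h1, (comm_central hz v).mul_pow] at e
    exact mul_eq_right.1 e
  have : z = 1 := by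
    have := pow_gcd_eq_one.2 ⟨hm, hr⟩
    rwa [hk, pow_one] at this
  exact commutatorElement_eq_one_iff_commute.1 this

/-- An element of order prime to `r` with square centralising `X` acts without fixed points. -/
theorem fixed_coprime {w : G} (hk : (orderOf w).Coprime r) (hw : w ∉ centralizer (X : Set G))
    (hw2 : w * w ∈ centralizer (X : Set G)) {v : G} (hv : v ∈ X) (hz : ⁅w, v⁆ ∈ center G) :
    v ∈ center G := by
  have hwv := h.commute_of_coprime hk hv hz
  by_cases hab : ∀ a ∈ X, ∀ b ∈ X, Commute a b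
  · exact h.fixed_abelian hab hw hw2 hv hwv
  push Not at hab
  by_contra hvZ
  obtain ⟨x₀, hx₀, hne⟩ := h.exists_moved hab hv hvZ
  obtain ⟨H, hH, hJ, hwH⟩ := h.exists_one w
  refine hw (mem_cKer.2 fun u hu => h.commute_of_coprime hk hu ?_)
  set d := ⁅w, u⁆ with hd
  have hdX : d ∈ X := h.comm_mem hu w
  have hvd : Commute v d := by
    have e : ⁅v, w * u * w⁻¹⁆ = ⁅v, u⁆ := by
      have := conjugate_commutatorElement v u w
      rw [hwv.eq, mul_inv_cancel_right] at this
      rw [← this, mul_comm_center (h.comm v hv u hu) w, mul_inv_cancel_right]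
    have e2 : w * u * w⁻¹ = d * u := by rw [hd, commutatorElement_def]; group
    rw [e2, comm_mul_right (h.comm v hv u hu)] at e
    exact commutatorElement_eq_one_iff_commute.1 (mul_eq_right.1 e)
  have hwd : Commute w d := hH v (hJ (h.le_jKer hv)) w hwH d (hJ (h.le_jKer hdX))
    ⟨x₀, hJ (h.le_jKer hx₀), hne⟩ hwv.symm hvd
  have hn : ∀ n : ℕ, w ^ n * u * (w ^ n)⁻¹ = d ^ n * u := by
    intro n
    induction n with
    | zero => simp
    | succ n ih =>
      calc w ^ (n + 1) * u * (w ^ (n + 1))⁻¹ = w * (w ^ n * u * (w ^ n)⁻¹) * w⁻¹ := by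
            rw [pow_succ' w n]; group
        _ = (w * d ^ n) * u * w⁻¹ := by rw [ih]; group
        _ = (d ^ n * w) * u * w⁻¹ := by rw [(hwd.pow_right n).eq]
        _ = d ^ n * (w * u * w⁻¹ * u⁻¹) * u := by group
        _ = d ^ (n + 1) * u := by rw [pow_succ]; rfl
  have hm : d ^ orderOf w = 1 := by
    have := hn (orderOf w)
    rw [pow_orderOf_eq_one, one_mul, inv_one, mul_one] at this
    exact mul_eq_right.1 this.symm
  have h1 : (QuotientGroup.mk' (center G) d) ^ orderOf w = 1 := by rw [← map_pow, hm, map_one]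
  have h2 : (QuotientGroup.mk' (center G) d) ^ r = 1 := by
    rw [← map_pow]; exact (QuotientGroup.eq_one_iff _).2 (h.pow d hdX)
  have h3 := pow_gcd_eq_one.2 ⟨h1, h2⟩
  rw [hk, pow_one] at h3
  exact (QuotientGroup.eq_one_iff d).1 h3

end Chief

end CfsgLib.MinimalNonCA
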