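import Cfsg.Agent.Lib.MinimalNonCA.NormalSetup
import Cfsg.Agent.Lib.Structure.SLTwoTraceZero
import Cfsg.Agent.Lib.PGroup.Class2
import Mathlib.GroupTheory.SpecificGroups.Cyclic
import Mathlib.GroupTheory.PGroup

/-!
The threefold cover of `SL₂(9)`.
-/

set_option autoImplicit false
set_option linter.unusedSectionVars false

namespace CfsgLib.MinimalNonCA

open Subgroup Matrix
open scoped MatrixGroups commutatorElement

universe u v

variable {L : Type u} [Group L] [Finite L] {F : Type v} [Field F] [Fintype F]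

/-- A threefold central cover of `SL₂(9)`. -/
structure CoverNine (ρ : L →* Matrix.SpecialLinearGroup (Fin 2) F) : Prop where
  perfect : commutator L = ⊤
  card : Fintype.card F = 9
  surj : Function.Surjective ρ
  ker_le : ρ.ker ≤ center L
  ker_card : Nat.card ρ.ker = 3

theorem three_eq_zero (h : Fintype.card F = 9) : (3 : F) = 0 := by
  have h9 := FiniteField.cast_card_eq_zero F
  rw [h] at h9
  refine mul_self_eq_zero.1 ?_
  norm_num at h9 ⊢
  exact h9

theorem three_pow_factorization : 3 ^ (Nat.factorization 2160) 3 = 27 := by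
  rw [show (2160 : ℕ) = 3 ^ 3 * 80 from rfl, Nat.factorization_mul (by norm_num) (by norm_num),
    Finsupp.add_apply, Nat.factorization_eq_zero_of_not_dvd (show ¬ 3 ∣ 80 by norm_num),
    Nat.Prime.factorization_pow Nat.prime_three, Finsupp.single_eq_same]
  rfl

theorem uel_pow (a : F) (n : ℕ) : uel a ^ n = uel (n * a) := by
  induction n with
  | zero => simp [uel_zero]
  | succ n ih => rw [pow_succ, ih, uel_mul]; push_cast; ring_nf

/-- An element commuting with a non-trivial unipotent element squares into the unipotent group. -/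
theorem sq_mem_uSub {x : Matrix.SpecialLinearGroup (Fin 2) F} {a : F} (ha : a ≠ 0)
    (h : Commute x (uel a)) :
    ∃ r c : F, r * r = 1 ∧ x.1 = !![r, c; 0, r] ∧ x * x = uel (2 * r * c) := by
  have e := congrArg (fun y : Matrix.SpecialLinearGroup (Fin 2) F => y.1) h.eq
  have e00 := congrFun (congrFun e 0) 0
  have e01 := congrFun (congrFun e 0) 1
  simp only [Matrix.SpecialLinearGroup.coe_mul] at e00 e01
  simp [uel, Matrix.mul_apply, Fin.sum_univ_two] at e00 e01
  have h10 : x.1 1 0 = 0 := e00.resolve_left ha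
  have h11 : x.1 0 0 = x.1 1 1 := mul_right_cancel₀ ha (by linear_combination e01)
  have hd := x.2
  rw [Matrix.det_fin_two, h10, ← h11, mul_zero, sub_zero] at hd
  refine ⟨x.1 0 0, x.1 0 1, hd, ?_, Subtype.ext ?_⟩
  · ext i j; fin_cases i <;> fin_cases j <;> simp [h10, ← h11]
  · rw [Matrix.SpecialLinearGroup.coe_mul]
    ext i j
    fin_cases i <;> fin_cases j <;>
      simp [uel, Matrix.mul_apply, Fin.sum_univ_two, h10, ← h11, hd] <;> ring

namespace CoverNine

variable {ρ : L →* Matrix.SpecialLinearGroup (Fin 2) F} (h : CoverNine ρ)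
include h

theorem card_cover : Nat.card L = 2160 := by
  rw [card_eq_card_quotient_mul_card_subgroup ρ.ker, h.ker_card,
    Nat.card_congr (QuotientGroup.quotientKerEquivOfSurjective ρ h.surj).toEquiv,
    CfsgLib.GTwoInv.card_SL2, h.card]
  norm_num

theorem card_pre : Nat.card ((uSub F).comap ρ) = 27 := by
  have hU : Nat.card (uSub F) = 9 := by
    rw [← h.card, ← Nat.card_eq_fintype_card]
    refine (Nat.card_congr (Equiv.ofBijective (fun a : F => (⟨uel a, a, rfl⟩ : uSub F))
      ⟨fun a b e => uel_inj (congrArg Subtype.val e), ?_⟩)).symm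
    rintro ⟨_, a, rfl⟩
    exact ⟨a, rfl⟩
  have hi := (uSub F).index_comap_of_surjective h.surj
  have h1 := ((uSub F).comap ρ).card_mul_index
  have h2 := (uSub F).card_mul_index
  rw [hU, CfsgLib.GTwoInv.card_SL2, h.card] at h2
  rw [hi, h.card_cover] at h1
  have hi80 : (uSub F).index = 80 := by omega
  rw [hi80] at h1
  omega

theorem not_comm : ∃ y ∈ (uSub F).comap ρ, ∃ z ∈ (uSub F).comap ρ, ¬ Commute y z := by
  by_contra hc
  push Not at hc
  have : Fact (Nat.Prime 3) := ⟨Nat.prime_three⟩
  let P : Sylow 3 L := Sylow.ofCard ((uSub F).comap ρ) (by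
    rw [h.card_pre, h.card_cover]
    exact three_pow_factorization.symm)
  have hP : ⁅(P : Subgroup L), (P : Subgroup L)⁆ = ⊥ := by
    rw [commutator_eq_bot_iff_le_centralizer]
    intro a ha
    exact mem_centralizer_iff.2 fun b hb => (hc b hb a ha).eq
  have hle : ρ.ker ≤ ⊥ := fun z hz => hP ▸ CfsgLib.Schur.center_commutator_sylow P
    (h.ker_le hz) (h.perfect ▸ mem_top z)
    (show ρ z ∈ uSub F from ⟨0, by rw [uel_zero]; exact hz⟩)
  have := h.ker_card
  rw [le_bot_iff.1 hle, card_bot] at this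
  omega

/-- An element of the Sylow subgroup with non-abelian centraliser lies in the kernel. -/
theorem mem_ker {x y z : L} (hx : x ∈ (uSub F).comap ρ) (hy : y ∈ (uSub F).comap ρ)
    (hz : z ∈ (uSub F).comap ρ) (hxy : Commute x y) (hxz : Commute x z) (hne : ¬ Commute y z) :
    x ∈ ρ.ker := by
  have : Fact (Nat.Prime 3) := ⟨Nat.prime_three⟩
  set P := (uSub F).comap ρ with hP
  have hP27 : Nat.card P = 3 ^ 3 := h.card_pre
  have hcomm : ∀ D : Subgroup P, Nat.card D < 27 → ∀ a ∈ D, ∀ b ∈ D, Commute a b := by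
    intro D hD a ha b hb
    obtain ⟨k, hk, hk'⟩ := (Nat.dvd_prime_pow Nat.prime_three).1 (hP27 ▸ card_subgroup_dvd_card D)
    rw [hk'] at hD
    have : IsMulCommutative D := by
      interval_cases k
      · have := Nat.card_eq_one_iff_unique.1 hk'
        exact ⟨⟨fun _ _ => this.1.elim _ _⟩⟩
      · have := isCyclic_of_prime_card (α := D) (p := 3) (by simpa using hk')
        infer_instance
      · exact IsPGroup.isMulCommutative_of_card_eq_prime_sq (p := 3) hk'
      · norm_num at hD
    exact congrArg Subtype.val (mul_comm' (⟨a, ha⟩ : D) ⟨b, hb⟩)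
  have hxc : (⟨x, hx⟩ : P) ∈ center P := by
    by_contra hxc
    have hlt : Nat.card (centralizer ({⟨x, hx⟩} : Set P)) < 27 := by
      refine lt_of_le_of_ne ((card_le_card_group _).trans_eq hP27) fun e => hxc ?_
      have htop := eq_top_of_card_eq _ (e.trans hP27.symm)
      exact mem_center_iff.2 fun w => mem_centralizer_singleton_iff.1 (htop ▸ mem_top w)
    exact hne (congrArg Subtype.val (hcomm _ hlt ⟨y, hy⟩
      (mem_centralizer_singleton_iff.2 (Subtype.ext hxy.eq.symm)) ⟨z, hz⟩
      (mem_centralizer_singleton_iff.2 (Subtype.ext hxz.eq.symm))).eq)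
  have hKP : ρ.ker ≤ P := fun k hk => show ρ k ∈ uSub F from ⟨0, by rw [uel_zero]; exact hk⟩
  have hle : ρ.ker.subgroupOf P ≤ center P := fun k hk =>
    mem_center_iff.2 fun w => Subtype.ext (mem_center_iff.1 (h.ker_le hk) (w : L))
  have hc3 : Nat.card (center P) ≤ 3 := by
    by_contra hlt
    obtain ⟨k, hk, hk'⟩ := (Nat.dvd_prime_pow Nat.prime_three).1
      (hP27 ▸ card_subgroup_dvd_card (center P))
    have hq : IsCyclic (P ⧸ center P) := by
      have hq := card_eq_card_quotient_mul_card_subgroup (center P)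
      rw [hP27, hk'] at hq
      rw [hk'] at hlt
      interval_cases k
      · omega
      · omega
      · exact isCyclic_of_prime_card (p := 3) (by omega)
      · have := Nat.card_eq_one_iff_unique.1 (show Nat.card (P ⧸ center P) = 1 by omega)
        have := this.1
        infer_instance
    exact hne (congrArg Subtype.val ((commutative_of_cyclic_center_quotient
      (QuotientGroup.mk' (center P)) (QuotientGroup.ker_mk' _).le) ⟨y, hy⟩ ⟨z, hz⟩))
  have heq : ρ.ker.subgroupOf P = center P := eq_of_le_of_card_ge hle (by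
    rw [Nat.card_congr (subgroupOfEquivOfLe hKP).toEquiv, h.ker_card]; exact hc3)
  exact (heq ▸ hxc : (⟨x, hx⟩ : P) ∈ ρ.ker.subgroupOf P)

/-- An element commuting with two non-commuting `3`-elements is scalar. -/
theorem scalar_of_commute {x y z : L} (hy : y ∈ (uSub F).comap ρ) (hz : z ∈ (uSub F).comap ρ)
    (hxy : Commute x y) (hxz : Commute x z) (hne : ¬ Commute y z) :
    ρ x ∈ center (Matrix.SpecialLinearGroup (Fin 2) F) := by
  obtain ⟨a, ha⟩ : ∃ a, ρ y = uel a := hy
  have ha0 : a ≠ 0 := fun e => hne (by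
    rw [e, uel_zero] at ha
    exact (mem_center_iff.1 (h.ker_le ha) z).symm)
  obtain ⟨r, c, hr, hx, hsq⟩ := sq_mem_uSub ha0 (ha ▸ hxy.map ρ)
  have hker := h.mem_ker (x := x * x) (show ρ (x * x) ∈ uSub F from ⟨_, by rw [map_mul, hsq]⟩)
    ⟨a, ha⟩ hz (hxy.mul_left hxy) (hxz.mul_left hxz) hne
  have : 2 * r * c = 0 := uel_inj (by rw [← hsq, uel_zero, ← map_mul]; exact hker)
  have h2 : (2 : F) ≠ 0 := fun e => by
    have h3 := three_eq_zero h.card
    exact one_ne_zero (α := F) (by linear_combination h3 - e)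
  have hc0 : c = 0 := by
    rcases mul_eq_zero.1 this with e | e
    · rcases mul_eq_zero.1 e with e | e
      · exact absurd e h2
      · simp [e] at hr
    · exact e
  refine mem_center_iff.2 fun k => Subtype.ext ?_
  show k.1 * (ρ x).1 = (ρ x).1 * k.1
  rw [hx, hc0]
  ext i j
  fin_cases i <;> fin_cases j <;> simp [Matrix.mul_apply, Fin.sum_univ_two, mul_comm]

theorem isCA : IsCA L := by
  intro x y z hx hxy hxz
  by_contra hne
  have : Fact (Nat.Prime 3) := ⟨Nat.prime_three⟩
  have hρx : ρ x ∉ center (Matrix.SpecialLinearGroup (Fin 2) F) := fun hc => hx (by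
    have heq := CfsgLib.SchurCover.hom_ext_of_perfect (ξ := ρ)
      (⟨h.perfect⟩ : Group.IsPerfect L) h.ker_le
      (MulAut.conj x).toMonoidHom (MonoidHom.id L) (MonoidHom.ext fun l => by
        show ρ (x * l * x⁻¹) = ρ l
        rw [map_mul, map_mul, map_inv, ← mem_center_iff.1 hc, mul_inv_cancel_right])
    exact mem_center_iff.2 fun l =>
      (mul_inv_eq_iff_eq_mul.1 (DFunLike.congr_fun heq l)).symm)
  have hk : ⁅y, z⁆ ∈ ρ.ker := by
    rw [MonoidHom.mem_ker, map_commutatorElement, commutatorElement_eq_one_iff_commute]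
    exact isCA_slTwo _ _ _ hρx (hxy.map ρ) (hxz.map ρ)
  have hkc := h.ker_le hk
  have h3 : ⁅y, z⁆ ^ 3 = 1 := by
    have := congrArg Subtype.val (pow_card_eq_one' (x := (⟨_, hk⟩ : ρ.ker)))
    rwa [h.ker_card] at this
  have hne' : ¬ Commute (y ^ 80) (z ^ 80) := by
    intro hc
    have hpow : ⁅y ^ 80, z ^ 80⁆ = ⁅y, z⁆ ^ (80 * 80) := by
      rw [pow_mul, ← CfsgLib.PGroup.commutatorElement_pow_left_of_central hkc 80]
      exact CfsgLib.PGroup.commutatorElement_pow_right_of_central (by
        rw [CfsgLib.PGroup.commutatorElement_pow_left_of_central hkc 80]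
        exact pow_mem hkc 80) 80
    rw [commutatorElement_eq_one_iff_commute.2 hc, show (80 * 80 : ℕ) = 3 * 2133 + 1 from rfl,
      pow_succ, pow_mul, h3, one_pow, one_mul] at hpow
    exact hne (commutatorElement_eq_one_iff_commute.1 hpow.symm)
  let D : Subgroup L := closure {y ^ 80, z ^ 80} ⊔ ρ.ker
  have h27 : ∀ w : L, ρ (w ^ 80) ^ 27 = 1 := fun w => by
    have h1 := pow_card_eq_one' (x := w)
    rw [h.card_cover, show (2160 : ℕ) = 80 * 27 from rfl, pow_mul] at h1
    rw [← map_pow, h1, map_one]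
  have hD : IsPGroup 3 D := by
    have hz : ∀ w : L, IsPGroup 3 (zpowers (ρ (w ^ 80))) := fun w => by
      obtain ⟨k, -, hk⟩ := (Nat.dvd_prime_pow Nat.prime_three).1
        (orderOf_dvd_of_pow_eq_one (h27 w) : orderOf (ρ (w ^ 80)) ∣ 3 ^ 3)
      exact IsPGroup.of_card (n := k) (by rw [Nat.card_zpowers, hk])
    have hc : Commute (ρ (y ^ 80)) (ρ (z ^ 80)) := by
      rw [map_pow, map_pow]
      exact (isCA_slTwo _ _ _ hρx (hxy.map ρ) (hxz.map ρ)).pow_pow 80 80
    have hM : IsPGroup 3 (zpowers (ρ (y ^ 80)) ⊔ zpowers (ρ (z ^ 80)) : Subgroup _) :=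
      IsPGroup.to_sup_of_normal_right' (hz y) (hz z) ((zpowers_le.2 (mem_centralizer_iff.2 (by
        intro w hw
        obtain ⟨n, rfl⟩ := mem_zpowers_iff.1 hw
        exact (hc.zpow_right n).eq.symm))).trans (centralizer_le_normalizer _))
    refine (hM.comap_of_ker_isPGroup ρ (IsPGroup.of_card (n := 1) (by
      rw [h.ker_card, pow_one]))).to_le ?_
    refine sup_le ((closure_le _).2 ?_) (fun w hw => by
      rw [mem_comap, MonoidHom.mem_ker.1 hw]; exact one_mem _)
    rintro w (rfl | rfl)
    · exact mem_sup_left (mem_zpowers _)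
    · exact mem_sup_right (mem_zpowers _)
  obtain ⟨Q, hQ⟩ := hD.exists_le_sylow
  let P : Sylow 3 L := Sylow.ofCard ((uSub F).comap ρ) (by
    rw [h.card_pre, h.card_cover]
    exact three_pow_factorization.symm)
  obtain ⟨g, hg⟩ := MulAction.exists_smul_eq L Q P
  have hmem : ∀ w ∈ D, MulAut.conj g w ∈ (uSub F).comap ρ := fun w hw => by
    show MulAut.conj g w ∈ (P : Subgroup L)
    rw [← hg]
    exact ⟨w, hQ hw, rfl⟩
  let c : L →* L := (MulAut.conj g).toMonoidHom
  have hsc := h.scalar_of_commute (x := c x) (hmem _ (mem_sup_left (subset_closure (by simp))))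
    (hmem (z ^ 80) (mem_sup_left (subset_closure (by simp))))
    ((hxy.pow_right 80).map c) ((hxz.pow_right 80).map c)
    fun hc => hne' (hc.of_map (MulAut.conj g).injective)
  refine hρx ?_
  change ρ (g * x * g⁻¹) ∈ _ at hsc
  rw [map_mul, map_mul, map_inv] at hsc
  have := Normal.conj_mem inferInstance _ hsc (ρ g)⁻¹
  simpa [mul_assoc] using this

end CoverNine

end CfsgLib.MinimalNonCA
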