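import Cfsg.Agent.Lib.MinimalNonCA.Quasi

/-!
Involutions of the simple quotient have 2-nilpotent centralisers.
-/

set_option autoImplicit false

namespace CfsgLib.MinimalNonCA

open Subgroup
open scoped commutatorElement

universe u

variable {G : Type u} [Group G] [Finite G]

/-- A 2-subgroup centralising `y` lies in a Sylow 2-subgroup centralising `y` if one does. -/
theorem exists_sylow_centralizing [Fact (Nat.Prime 2)] {y : G} (P₀ : Sylow 2 G)
    (hP₀ : (P₀ : Subgroup G) ≤ centralizer {y}) {E : Subgroup G} (hE : IsPGroup 2 E)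
    (hEC : E ≤ centralizer {y}) :
    ∃ P : Sylow 2 G, E ≤ (P : Subgroup G) ∧ (P : Subgroup G) ≤ centralizer {y} := by
  obtain ⟨Q₀, hQ₀⟩ := (hE.comap_of_injective (centralizer {y}).subtype
    (centralizer {y}).subtype_injective).exists_le_sylow
  obtain ⟨R, hR⟩ := (P₀.isPGroup'.comap_of_injective (centralizer {y}).subtype
    (centralizer {y}).subtype_injective).exists_le_sylow
  set Q := (Q₀ : Subgroup (centralizer {y})).map (centralizer {y}).subtype with hQdef
  obtain ⟨P, hP⟩ := (show IsPGroup 2 Q from Q₀.isPGroup'.map _).exists_le_sylow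
  have h1 : (P₀ : Subgroup G) ≤ (R : Subgroup (centralizer {y})).map (centralizer {y}).subtype :=
    fun x hx => ⟨⟨x, hP₀ hx⟩, hR hx, rfl⟩
  have h2 : Nat.card (P₀ : Subgroup G) ≤ Nat.card Q := by
    refine (Nat.le_of_dvd Nat.card_pos (card_dvd_of_le h1)).trans_eq ?_
    rw [hQdef, card_map_of_injective (centralizer {y}).subtype_injective,
      card_map_of_injective (centralizer {y}).subtype_injective]
    exact Nat.card_congr (R.equiv Q₀).toEquiv
  have hPQ : Q = (P : Subgroup G) :=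
    eq_of_le_of_card_ge hP ((Nat.card_congr (P.equiv P₀).toEquiv).trans_le h2)
  exact ⟨P, fun e he => hPQ.le ⟨⟨e, hEC he⟩, hQ₀ he, rfl⟩, hPQ.symm.le.trans (map_subtype_le _)⟩

/-- A central 2-element lies in every Sylow 2-subgroup. -/
theorem center_mem_sylow_two [Fact (Nat.Prime 2)] {z : G} (hz : z ∈ center G) {k : ℕ}
    (hk : z ^ 2 ^ k = 1) (P : Sylow 2 G) : z ∈ (P : Subgroup G) := by
  have hpz : IsPGroup 2 (zpowers z) := isPGroup_iff_pow_pow_eq_one.2 fun ⟨u, hu⟩ => ⟨k, by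
    obtain ⟨i, rfl⟩ := mem_zpowers_iff.1 hu
    exact Subtype.ext (show (z ^ i) ^ 2 ^ k = 1 by
      rw [← zpow_natCast (z ^ i), ← zpow_mul, mul_comm, zpow_mul, zpow_natCast, hk, one_zpow])⟩
  have hn : (zpowers z).Normal := ⟨fun u hu g => by
    obtain ⟨i, rfl⟩ := mem_zpowers_iff.1 hu
    have e : g * z ^ i = z ^ i * g := mem_center_iff.1 (zpow_mem hz i) g
    rw [e, mul_inv_cancel_right]
    exact zpow_mem (mem_zpowers z) i⟩
  exact (sup_eq_right.1 (P.is_maximal' (hpz.to_sup_of_normal_left P.isPGroup') le_sup_right)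
    : zpowers z ≤ (P : Subgroup G)) (mem_zpowers z)

namespace Quasi

variable (h : Quasi G)
include h

/-- A 2-element central in a Sylow subgroup is the only conjugate of itself there. -/
theorem isolated {y : G} (hy : y ∉ center G) (hy2 : ∃ n, orderOf y = 2 ^ n) (P : Sylow 2 G)
    (hyP : y ∈ (P : Subgroup G)) (hP : (P : Subgroup G) ≤ centralizer {y})
    (hcase : (∀ a ∈ (P : Subgroup G), ∀ b ∈ (P : Subgroup G), Commute a b) →
      ∀ n ∈ normalizer ((P : Subgroup G) : Set G), Commute n y) :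
    ∀ g : G, g * y * g⁻¹ ∈ (P : Subgroup G) → g * y * g⁻¹ = y := by
  have : Fact (Nat.Prime 2) := ⟨Nat.prime_two⟩
  intro g hg
  by_contra hne
  have hmemC : ∀ {R : Subgroup G} {u : G}, R ≤ centralizer {u} → ∀ {r}, r ∈ R → Commute u r :=
    fun {R u} hR {r} hr => (mem_centralizer_singleton_iff.1 (hR hr)).symm
  by_cases hab : ∀ a ∈ (P : Subgroup G), ∀ b ∈ (P : Subgroup G), Commute a b
  · have : IsMulCommutative (P : Subgroup G) := ⟨⟨fun a b => Subtype.ext (hab a a.2 b b.2)⟩⟩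
    obtain ⟨n, hn, e⟩ := P.conj_eq_normalizer_conj_of_mem y g⁻¹ hyP (by rw [inv_inv]; exact hg)
    have hc := (hcase hab n hn).eq
    rw [inv_inv] at e
    exact hne (e.trans (by rw [mul_assoc, ← hc, inv_mul_cancel_left]))
  push Not at hab
  have hS : ∀ R : Sylow 2 G, ∃ a ∈ (R : Subgroup G), ∃ b ∈ (R : Subgroup G), ¬ Commute a b := by
    intro R
    obtain ⟨a, ha, b, hb, hab⟩ := hab
    let e := P.equiv R
    exact ⟨e ⟨a, ha⟩, (e ⟨a, ha⟩).2, e ⟨b, hb⟩, (e ⟨b, hb⟩).2, fun c => hab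
      (show a * b = b * a from congrArg Subtype.val (e.injective
        (show e (⟨a, ha⟩ * ⟨b, hb⟩) = e (⟨b, hb⟩ * ⟨a, ha⟩) by
          rw [map_mul, map_mul]; exact Subtype.ext c)))⟩
  have hconj : ∀ k : G, k * y * k⁻¹ ∉ center G ∧ (∃ n, orderOf (k * y * k⁻¹) = 2 ^ n) ∧
      ∃ R : Sylow 2 G, (R : Subgroup G) ≤ centralizer {k * y * k⁻¹} := fun k => by
    refine ⟨fun e => hy ?_, ?_, k • P, ?_⟩
    · simpa [mul_assoc] using (inferInstance : (center G).Normal).conj_mem _ e k⁻¹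
    · obtain ⟨n, hn⟩ := hy2
      exact ⟨n, (CfsgLib.Involutions.orderOf_conj_eq k y).trans hn⟩
    · rintro _ ⟨x, hx, rfl⟩
      exact mem_centralizer_singleton_iff.2 ((hmemC hP hx).map (MulAut.conj k).toMonoidHom).symm
  have hA : ∀ k : G, ∀ E : Subgroup G, IsPGroup 2 E → k * y * k⁻¹ ∈ E →
      E ≤ centralizer {k * y * k⁻¹} → ∀ n ∈ normalizer (E : Set G), Commute n (k * y * k⁻¹) :=
    fun k => by
      obtain ⟨h1, h2, R, hR⟩ := hconj k
      exact h.normalizer_centralizes h1 h2 (fun T _ => hS T) R hR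
  have hA1 : ∀ E : Subgroup G, IsPGroup 2 E → y ∈ E → E ≤ centralizer {y} →
      ∀ n ∈ normalizer (E : Set G), Commute n y := by
    simpa using hA 1
  let Good : Sylow 2 G → Sylow 2 G → G → Prop := fun P₁ P₂ k =>
    k * y * k⁻¹ ≠ y ∧ y ∈ (P₁ : Subgroup G) ⊓ P₂ ∧ k * y * k⁻¹ ∈ (P₁ : Subgroup G) ⊓ P₂ ∧
      (P₁ : Subgroup G) ≤ centralizer {y} ∧ (P₂ : Subgroup G) ≤ centralizer {k * y * k⁻¹}
  have hstart : ∃ P₁ P₂, ∃ k, Good P₁ P₂ k := by
    set y' := g * y * g⁻¹ with hy'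
    let E := closure ({y, y'} : Set G)
    have hEP : E ≤ (P : Subgroup G) := (closure_le _).2 (Set.insert_subset hyP
      (Set.singleton_subset_iff.2 hg))
    have hEC : E ≤ centralizer {y'} := (closure_le _).2 (Set.insert_subset
      (mem_centralizer_singleton_iff.2 (hmemC hP hg).eq)
      (Set.singleton_subset_iff.2 (mem_centralizer_singleton_iff.2 rfl)))
    obtain ⟨-, -, R, hR⟩ := hconj g
    obtain ⟨P₂, hE₂, hC₂⟩ := exists_sylow_centralizing R hR (P.isPGroup'.to_le hEP) hEC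
    exact ⟨P, P₂, g, hne, ⟨hyP, hE₂ (subset_closure (Set.mem_insert _ _))⟩,
      ⟨hg, hE₂ (subset_closure (Set.mem_insert_of_mem _ rfl))⟩, hP, hC₂⟩
  classical
  obtain ⟨P₁, P₂, k, hgood, hmax⟩ : ∃ P₁ P₂ k, Good P₁ P₂ k ∧ ∀ P₁' P₂', Good P₁' P₂' k →
      Nat.card ↥((P₁' : Subgroup G) ⊓ P₂') ≤ Nat.card ↥((P₁ : Subgroup G) ⊓ P₂) := by
    obtain ⟨P₁, P₂, k, hk⟩ := hstart
    obtain ⟨⟨Q₁, Q₂⟩, hQ, hmax⟩ := Set.exists_max_image {q : Sylow 2 G × Sylow 2 G | Good q.1 q.2 k}
      (fun q => Nat.card ↥((q.1 : Subgroup G) ⊓ q.2)) (Set.toFinite _) ⟨(P₁, P₂), hk⟩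
    exact ⟨Q₁, Q₂, k, hQ, fun a b hab => hmax (a, b) hab⟩
  obtain ⟨hne', hyD, hy'D, hC₁, hC₂⟩ := hgood
  set D := (P₁ : Subgroup G) ⊓ P₂ with hD
  set y' := k * y * k⁻¹ with hy'
  have hD2 : IsPGroup 2 D := P₁.isPGroup'.to_le inf_le_left
  by_cases hDP : D = (P₁ : Subgroup G)
  · have hy'c : P₁ ≤ centralizer {y'} := (inf_eq_left.1 hDP).trans hC₂
    obtain ⟨n, hn, e⟩ := P₁.conj_eq_normalizer_conj_of_mem_centralizer y k⁻¹
      (mem_centralizer_iff.2 fun r hr => (hmemC hC₁ hr).eq.symm)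
      (mem_centralizer_iff.2 fun r hr => by
        simpa [← hy'] using (hmemC hy'c hr).eq.symm)
    have hc := (hA1 P₁ P₁.isPGroup' hyD.1 hC₁ n hn).eq
    rw [inv_inv] at e
    exact hne' (e.trans (by rw [mul_assoc, ← hc, inv_mul_cancel_left]))
  have hlt : D < (P₁ : Subgroup G) := lt_of_le_of_ne inf_le_left hDP
  set H := normalizer (D : Set G) with hHdef
  have hHy : H ≤ centralizer {y} := fun n hn =>
    mem_centralizer_singleton_iff.2 (hA1 D hD2 hyD (inf_le_left.trans hC₁) n hn).eq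
  have hHy' : H ≤ centralizer {y'} := fun n hn =>
    mem_centralizer_singleton_iff.2 (hA k D hD2 hy'D (inf_le_right.trans hC₂) n hn).eq
  let E := H ⊓ (P₁ : Subgroup G)
  have hE2 : IsPGroup 2 E := P₁.isPGroup'.to_le inf_le_right
  have hnil : Group.IsNilpotent (P₁ : Subgroup G) := P₁.isPGroup'.isNilpotent
  have hDE : D < E := by
    have hlt' : D.subgroupOf (P₁ : Subgroup G) < ⊤ :=
      lt_top_iff_ne_top.2 fun e => hlt.not_ge (subgroupOf_eq_top.1 e)
    obtain ⟨⟨q, hqP⟩, hq, hq1⟩ :=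
      SetLike.exists_of_lt (normalizerCondition_of_isNilpotent _ hlt')
    refine lt_of_le_of_ne (le_inf le_normalizer hlt.le) fun e => hq1 (mem_subgroupOf.2
      (e.ge ⟨mem_normalizer_iff.2 fun x => ⟨fun hx => ?_, fun hx => ?_⟩, hqP⟩))
    · exact (mem_normalizer_iff.1 hq ⟨x, hlt.le hx⟩).1 hx
    · have hxP : x ∈ (P₁ : Subgroup G) := by
        have := mul_mem (mul_mem (inv_mem hqP) (hlt.le hx)) hqP
        simpa [mul_assoc] using this
      exact (mem_normalizer_iff.1 hq ⟨x, hxP⟩).2 hx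
  obtain ⟨-, -, R, hR⟩ := hconj k
  obtain ⟨Q₁, hQ₁, hQ₁C⟩ := exists_sylow_centralizing P hP hE2 (inf_le_left.trans hHy)
  obtain ⟨Q₂, hQ₂, hQ₂C⟩ := exists_sylow_centralizing R hR hE2 (inf_le_left.trans hHy')
  have hsub : E ≤ (Q₁ : Subgroup G) ⊓ Q₂ := le_inf hQ₁ hQ₂
  have hm := hmax Q₁ Q₂ ⟨hne', hsub (hDE.le hyD), hsub (hDE.le hy'D), hQ₁C, hQ₂C⟩
  refine hDE.ne (eq_of_le_of_card_ge hDE.le ?_)
  exact (Nat.le_of_dvd Nat.card_pos (card_dvd_of_le hsub)).trans hm

/-- By `Z*`, no 2-element outside the centre is isolated. -/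
theorem not_isolated {y : G} (hy : y ∉ center G) (hy2 : ∃ n, orderOf y = 2 ^ n)
    (hsq : y * y ∈ center G) (P : Sylow 2 G) (hyP : y ∈ (P : Subgroup G))
    (hiso : ∀ g : G, g * y * g⁻¹ ∈ (P : Subgroup G) → g * y * g⁻¹ = y) : False := by
  have : Fact (Nat.Prime 2) := ⟨Nat.prime_two⟩
  haveI := h.simple
  set π := QuotientGroup.mk' (center G) with hπ
  have hone : ∀ {x}, π x = 1 ↔ x ∈ center G := fun {x} => QuotientGroup.eq_one_iff x
  have hu : orderOf (π y) = 2 :=
    orderOf_eq_prime (by rw [pow_two, ← map_mul]; exact hone.2 hsq) fun e => hy (hone.1 e)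
  let P' := P.mapSurjective (f := π) (QuotientGroup.mk'_surjective _)
  obtain ⟨N, hN, hodd, hcomm⟩ := Cfsg.Agent.S0215.result P' (π y) hu ⟨y, hyP, rfl⟩ (by
    intro q hq
    obtain ⟨g, rfl⟩ := QuotientGroup.mk'_surjective (center G) q
    obtain ⟨s, hs, es⟩ := hq
    rw [← map_inv, ← map_mul, ← map_mul] at es ⊢
    have hz : s⁻¹ * (g * y * g⁻¹) ∈ center G := hone.1 (by rw [map_mul, map_inv, es, inv_mul_cancel])
    obtain ⟨n, hn⟩ := hy2
    obtain ⟨m, hm⟩ := P.isPGroup' ⟨s, hs⟩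
    have hm' : s⁻¹ ^ 2 ^ m = 1 := by
      rw [inv_pow, show s ^ 2 ^ m = 1 from congrArg Subtype.val hm, inv_one]
    have hcs : Commute s⁻¹ (g * y * g⁻¹) := by
      have e : g * y * g⁻¹ = s * (s⁻¹ * (g * y * g⁻¹)) := by group
      rw [e]
      exact ((Commute.refl s).inv_left).mul_right (mem_center_iff.1 hz s⁻¹)
    have hpow : (s⁻¹ * (g * y * g⁻¹)) ^ 2 ^ (m + n) = 1 := by
      rw [hcs.mul_pow, pow_add, pow_mul, hm', one_pow, one_mul, mul_comm (2 ^ m), pow_mul,
        conj_pow, ← hn, pow_orderOf_eq_one, mul_one, mul_inv_cancel, one_pow]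
    have hmem : g * y * g⁻¹ ∈ (P : Subgroup G) := by
      have := mul_mem hs (center_mem_sylow_two hz hpow P)
      rwa [mul_inv_cancel_left] at this
    rw [hiso g hmem])
  rcases IsSimpleGroup.eq_bot_or_eq_top_of_normal N hN with e | e
  · refine h.quotient_not_comm ⟨⟨fun a b => ?_⟩⟩
    have hc : π y ∈ center (G ⧸ center G) := mem_center_iff.2 fun q => by
      have := hcomm q
      rw [e, mem_bot, mul_inv_eq_one, mul_inv_eq_iff_eq_mul] at this
      exact this.symm
    rcases IsSimpleGroup.eq_bot_or_eq_top_of_normal (center (G ⧸ center G)) inferInstance with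
      e' | e'
    · rw [e', mem_bot] at hc
      exact absurd (hone.1 hc) hy
    · exact mem_center_iff.1 (e' ▸ mem_top b) a
  · rw [e, card_top] at hodd
    exact Nat.not_even_iff_odd.2 hodd (even_iff_two_dvd.2 (hu ▸ orderOf_dvd_natCard _))

theorem moving {y : G} (hy : y ∉ center G) (hy2 : ∃ n, orderOf y = 2 ^ n)
    (hsq : y * y ∈ center G) (P : Sylow 2 G) (hyP : y ∈ (P : Subgroup G))
    (hP : (P : Subgroup G) ≤ centralizer {y}) :
    (∀ a ∈ (P : Subgroup G), ∀ b ∈ (P : Subgroup G), Commute a b) ∧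
      ∃ n ∈ normalizer ((P : Subgroup G) : Set G), ¬ Commute n y := by
  by_contra hne
  refine h.not_isolated hy hy2 hsq P hyP (h.isolated hy hy2 P hyP hP fun hab => ?_)
  by_contra hn
  push Not at hn
  exact hne ⟨hab, hn⟩

/-- Centralisers of involutions of the quotient have normal 2-complements. -/
theorem centralizer_two_nilpotent (t : G ⧸ center G) (ht : orderOf t = 2) :
    Cfsg.HasNormalPComplement 2 (centralizer ({t} : Set (G ⧸ center G))) := by
  have : Fact (Nat.Prime 2) := ⟨Nat.prime_two⟩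
  set π := QuotientGroup.mk' (center G) with hπ
  have hone : ∀ {x}, π x = 1 ↔ x ∈ center G := fun {x} => QuotientGroup.eq_one_iff x
  obtain ⟨g, hg⟩ := QuotientGroup.mk'_surjective (center G) t
  obtain ⟨a, m, hm, he⟩ := Nat.exists_eq_two_pow_mul_odd (orderOf_pos g).ne'
  set y := g ^ m with hydef
  have hy2 : ∃ n, orderOf y = 2 ^ n := ⟨a, by
    rw [hydef, orderOf_pow_of_dvd hm.pos.ne' (he ▸ dvd_mul_left m _), he,
      Nat.mul_div_cancel _ hm.pos]⟩
  have ht2 : t * t = 1 := by rw [← pow_two, ← ht, pow_orderOf_eq_one]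
  have hyt : π y = t := by
    obtain ⟨k, hk⟩ := hm
    rw [hydef, map_pow, hg, hk, pow_succ, pow_mul, pow_two, ht2, one_pow, one_mul]
  have hy : y ∉ center G := fun e => by
    rw [← hone, hyt] at e
    rw [e, orderOf_one] at ht
    omega
  have hsq : y * y ∈ center G := hone.1 (by rw [map_mul, hyt, ht2])
  set C := centralizer ({y} : Set G) with hC
  obtain ⟨n, hn⟩ := hy2
  have hy' : IsPGroup 2 ((zpowers y).subgroupOf C) :=
    (IsPGroup.of_card (n := n) (by rw [Nat.card_zpowers, hn])).comap_of_injective C.subtype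
      C.subtype_injective
  obtain ⟨A₀, hA₀⟩ := hy'.exists_le_sylow
  set A := (A₀ : Subgroup C).map C.subtype with hAdef
  have hyC : y ∈ C := mem_centralizer_singleton_iff.2 rfl
  have hyA : y ∈ A := ⟨⟨y, hyC⟩, hA₀ (mem_subgroupOf.2 (mem_zpowers y)), rfl⟩
  have hAC : A ≤ C := map_subtype_le _
  have hA2 : IsPGroup 2 A := A₀.isPGroup'.map _
  set H := normalizer (A : Set G) with hH
  have hHCA := h.properCA H (h.normalizer_ne_top hA2 hyA hy)
  have hyH : y ∈ H := le_normalizer hyA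
  obtain ⟨P, hAP⟩ := hA2.exists_le_sylow
  obtain ⟨w, hw, hwy⟩ : ∃ w ∈ H, ¬ Commute y w := by
    by_cases hAe : A = (P : Subgroup G)
    · obtain ⟨-, w, hw, hwy⟩ := h.moving hy ⟨n, hn⟩ hsq P (hAe ▸ hyA) (hAe ▸ hAC)
      exact ⟨w, by rwa [hH, hAe], fun e => hwy e.symm⟩
    · have hlt : A < (P : Subgroup G) := lt_of_le_of_ne hAP hAe
      have hnil : Group.IsNilpotent (P : Subgroup G) := P.isPGroup'.isNilpotent
      have hlt' : A.subgroupOf (P : Subgroup G) < ⊤ :=
        lt_top_iff_ne_top.2 fun e => hlt.not_ge (subgroupOf_eq_top.1 e)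
      obtain ⟨⟨q, hqP⟩, hq, hq1⟩ :=
        SetLike.exists_of_lt (normalizerCondition_of_isNilpotent _ hlt')
      refine ⟨q, mem_normalizer_iff.2 fun x => ⟨fun hx => ?_, fun hx => ?_⟩, fun hqy => ?_⟩
      · exact (mem_normalizer_iff.1 hq ⟨x, hlt.le hx⟩).1 hx
      · have hxP : x ∈ (P : Subgroup G) := by
          have := mul_mem (mul_mem (inv_mem hqP) (hlt.le hx)) hqP
          simpa [mul_assoc] using this
        exact (mem_normalizer_iff.1 hq ⟨x, hxP⟩).2 hx
      · refine hq1 (mem_subgroupOf.2 ?_)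
        have hqC : q ∈ C := mem_centralizer_singleton_iff.2 hqy.eq.symm
        have hB : IsPGroup 2 (((P : Subgroup G) ⊓ C).subgroupOf C) :=
          (P.isPGroup'.to_le inf_le_left).comap_of_injective C.subtype C.subtype_injective
        have hle : (A₀ : Subgroup C) ≤ ((P : Subgroup G) ⊓ C).subgroupOf C := fun x hx =>
          ⟨hAP ⟨x, hx, rfl⟩, x.2⟩
        have e := A₀.is_maximal' hB hle
        exact ⟨⟨q, hqC⟩, e.le (show (⟨q, hqC⟩ : C) ∈ _ from ⟨hqP, hqC⟩), rfl⟩
  have hNC : Cfsg.HasNormalPComplement 2 C := by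
    refine CfsgLib.Transfer.hasNormalPComplement_of_normalizer_le A₀ fun c hc => ?_
    have hcH : (c : G) ∈ H := mem_normalizer_fintype fun u ⟨v, hv, hvu⟩ => by
      subst hvu
      exact ⟨c * v * c⁻¹, (mem_normalizer_iff.1 hc v).1 hv, rfl⟩
    refine mem_centralizer_iff.2 fun v hv => Subtype.ext ?_
    exact (hHCA y hyH c hcH v (le_normalizer ⟨v, hv, rfl⟩) ⟨w, hw, hwy⟩
      (mem_centralizer_singleton_iff.1 c.2).symm
      (mem_centralizer_singleton_iff.1 v.2).symm).eq.symm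
  let K := (centralizer ({t} : Set (G ⧸ center G))).comap π
  have hCK : C ≤ K := fun c hc => mem_centralizer_singleton_iff.2 (by
    rw [← hyt, ← map_mul, ← map_mul, mem_centralizer_singleton_iff.1 hc])
  have hK : Cfsg.HasNormalPComplement 2 K := by
    refine CfsgLib.Transfer.hasNormalPComplement_of_le (C.subgroupOf K) ?_
      (CfsgLib.Transfer.hasNormalPComplement_of_mulEquiv (subgroupOfEquivOfLe hCK).symm hNC)
    refine CfsgLib.Transfer.pResidual_le_iff.2 fun k hk => ?_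
    rw [mem_subgroupOf, mem_centralizer_singleton_iff]
    have hkk : ⁅(k : G), y⁆ ∈ center G := hone.1 (by
      rw [map_commutatorElement, commutatorElement_eq_one_iff_commute, hyt]
      exact mem_centralizer_singleton_iff.1 k.2)
    set z := ⁅(k : G), y⁆ with hz
    have h1 : (k : G) * y * (k : G)⁻¹ = z * y := by rw [hz, commutatorElement_def]; group
    have hzc : ∀ u : G, u * z = z * u := mem_center_iff.1 hkk
    have hit : ∀ i : ℕ, (k : G) ^ i * y * ((k : G) ^ i)⁻¹ = z ^ i * y := by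
      intro i
      induction i with
      | zero => simp
      | succ i ih =>
        have hzk : (k : G) * z ^ i = z ^ i * k := mem_center_iff.1 (pow_mem hkk i) k
        calc (k : G) ^ (i + 1) * y * ((k : G) ^ (i + 1))⁻¹
            = (k : G) * ((k : G) ^ i * y * ((k : G) ^ i)⁻¹) * (k : G)⁻¹ := by
              rw [pow_succ' (k : G) i]; group
          _ = (k : G) * z ^ i * y * (k : G)⁻¹ := by rw [ih]; group
          _ = z ^ i * ((k : G) * y * (k : G)⁻¹) := by rw [hzk]; group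
          _ = z ^ (i + 1) * y := by rw [h1, pow_succ, mul_assoc]
    have e1 : z ^ orderOf (k : G) = 1 := by
      have := hit (orderOf (k : G))
      rw [pow_orderOf_eq_one, one_mul, inv_one, mul_one] at this
      exact mul_eq_right.1 this.symm
    have e2 : z ^ 2 = 1 := by
      have e : ((k : G) * y * (k : G)⁻¹) ^ 2 = y ^ 2 := by
        rw [conj_pow, pow_two, mem_center_iff.1 hsq, mul_inv_cancel_right]
      rw [h1, (show Commute z y from (hzc y).symm).mul_pow] at e
      exact mul_eq_right.1 e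
    have hco : (orderOf (k : G)).Coprime 2 := by rwa [Subgroup.orderOf_coe]
    have := pow_gcd_eq_one.2 ⟨e1, e2⟩
    rw [hco, pow_one, hz, commutatorElement_eq_one_iff_commute] at this
    exact this.eq
  refine CfsgLib.Transfer.hasNormalPComplement_of_surjective (π.subgroupComap _) ?_ hK
  rintro ⟨q, hq⟩
  obtain ⟨x, rfl⟩ := QuotientGroup.mk'_surjective (center G) q
  exact ⟨⟨x, hq⟩, rfl⟩

end Quasi

end CfsgLib.MinimalNonCA
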