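import Cfsg.Agent.Lib.SuzukiGroup.Group
import Cfsg.Agent.Lib.PSL2.MaxTorus
import Cfsg.Agent.Lib.Involutions.Basic
import Mathlib.GroupTheory.SpecificGroups.Alternating
import Mathlib.LinearAlgebra.Matrix.SpecialLinearGroup

/-!
2-subgroups of Suzuki groups, `A₇` and `PSL₃(4)` used against CA extensions.
-/

set_option autoImplicit false

namespace CfsgLib.MinimalNonCA

open Subgroup Cfsg.Lie
open scoped MatrixGroups

/-- A non-abelian 2-subgroup all whose involutions lie in a proper subgroup. -/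
def SzWitness (T : Type*) [Group T] : Prop :=
  ∃ P O : Subgroup T, IsPGroup 2 P ∧ (∃ a ∈ P, ∃ b ∈ P, ¬ Commute a b) ∧
    (∃ x ∈ P, x ∉ O) ∧ ∀ b ∈ P, b * b = 1 → b ∈ O

/-- A non-abelian 2-subgroup with a four-group of elements outside its centre. -/
def LWitness (T : Type*) [Group T] : Prop :=
  ∃ P : Subgroup T, IsPGroup 2 P ∧ ∃ e₁ ∈ P, ∃ e₂ ∈ P, e₁ * e₁ = 1 ∧ e₂ * e₂ = 1 ∧
    Commute e₁ e₂ ∧ (∃ p ∈ P, ¬ Commute e₁ p) ∧ (∃ p ∈ P, ¬ Commute e₂ p) ∧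
    ∃ p ∈ P, ¬ Commute (e₁ * e₂) p

/-- A dihedral configuration centralising an inverted element of order three. -/
def AWitness (T : Type*) [Group T] : Prop :=
  ∃ P : Subgroup T, IsPGroup 2 P ∧ ∃ t₁ ∈ P, ∃ t₂ ∈ P, ∃ s ∈ P, ∃ c : T,
    t₁ * t₁ = 1 ∧ t₂ * t₂ = 1 ∧ t₁ ≠ 1 ∧ t₂ ≠ 1 ∧ t₁ ≠ t₂ ∧ Commute t₁ t₂ ∧ ¬ Commute s t₁ ∧
    c ^ 3 = 1 ∧ c ≠ 1 ∧ Commute t₁ c ∧ Commute t₂ c ∧ s * c * s⁻¹ = c⁻¹

variable {T T' : Type*} [Group T] [Group T']

theorem not_commute_map (e : T →* T') (he : Function.Injective e) {a b : T} (h : ¬ Commute a b) :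
    ¬ Commute (e a) (e b) := fun c => h (he (by rw [map_mul, map_mul]; exact c))

theorem SzWitness.congr (e : T ≃* T') (h : SzWitness T) : SzWitness T' := by
  obtain ⟨P, O, hP, ⟨a, ha, b, hb, hab⟩, ⟨x, hx, hxO⟩, hO⟩ := h
  refine ⟨P.map e.toMonoidHom, O.map e.toMonoidHom, hP.map _, ⟨e a, ⟨a, ha, rfl⟩, e b, ⟨b, hb, rfl⟩,
    not_commute_map e.toMonoidHom e.injective hab⟩, ⟨e x, ⟨x, hx, rfl⟩, ?_⟩, ?_⟩
  · rintro ⟨y, hy, hye⟩
    exact hxO (e.injective hye ▸ hy)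
  · rintro _ ⟨y, hy, rfl⟩ h1
    exact ⟨y, hO y hy (e.injective (by rw [map_mul, map_one]; exact h1)), rfl⟩

theorem LWitness.congr (e : T ≃* T') (h : LWitness T) : LWitness T' := by
  obtain ⟨P, hP, a, ha, b, hb, ha2, hb2, hab, ⟨p, hp, h1⟩, ⟨q, hq, h2⟩, r, hr, h3⟩ := h
  refine ⟨P.map e.toMonoidHom, hP.map _, e a, ⟨a, ha, rfl⟩, e b, ⟨b, hb, rfl⟩,
    by rw [← map_mul, ha2, map_one], by rw [← map_mul, hb2, map_one], hab.map e.toMonoidHom,
    ⟨e p, ⟨p, hp, rfl⟩, not_commute_map e.toMonoidHom e.injective h1⟩,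
    ⟨e q, ⟨q, hq, rfl⟩, not_commute_map e.toMonoidHom e.injective h2⟩,
    e r, ⟨r, hr, rfl⟩, ?_⟩
  rw [← map_mul]
  exact not_commute_map e.toMonoidHom e.injective h3

theorem AWitness.congr (e : T ≃* T') (h : AWitness T) : AWitness T' := by
  obtain ⟨P, hP, a, ha, b, hb, s, hs, c, ha2, hb2, ha1, hb1, hne, hab, hsa, hc3, hc1, hac, hbc,
    hsc⟩ := h
  exact ⟨P.map e.toMonoidHom, hP.map _, e a, ⟨a, ha, rfl⟩, e b, ⟨b, hb, rfl⟩, e s, ⟨s, hs, rfl⟩,
    e c, by rw [← map_mul, ha2, map_one], by rw [← map_mul, hb2, map_one],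
    (EmbeddingLike.map_ne_one_iff).2 ha1, (EmbeddingLike.map_ne_one_iff).2 hb1,
    fun h => hne (e.injective h), hab.map e.toMonoidHom,
    not_commute_map e.toMonoidHom e.injective hsa, by rw [← map_pow, hc3, map_one],
    (EmbeddingLike.map_ne_one_iff).2 hc1, hac.map e.toMonoidHom, hbc.map e.toMonoidHom,
    by rw [← map_inv, ← map_mul, ← map_mul, hsc, map_inv]⟩

theorem two_dvd_card_of_witness [Finite T] {P : Subgroup T} (hP : IsPGroup 2 P) {a b : T}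
    (ha : a ∈ P) (h : ¬ Commute a b) : 2 ∣ Nat.card T := by
  have : Fact (Nat.Prime 2) := ⟨Nat.prime_two⟩
  rcases hP.card_eq_or_dvd with h1 | h1
  · rw [Subgroup.card_eq_one] at h1
    rw [h1, mem_bot] at ha
    exact absurd (ha ▸ Commute.one_left b) h
  · exact h1.trans (card_subgroup_dvd_card P)

theorem szWitness_sz (F : Type) [Field F] [Fintype F] (m : ℕ) (hm : 1 ≤ m)
    (hF : Fintype.card F = 2 ^ (2 * m + 1)) : SzWitness ↥(Sz F (2 ^ (m + 1))) := by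
  obtain ⟨hchar, ⟨Q⟩⟩ := CfsgLib.SuzukiGroup.exists_params hF
  haveI := hchar
  open CfsgLib.SuzukiGroup in
  let O : Subgroup ↥(Sz F (2 ^ (m + 1))) :=
    { carrier := {g | ∃ b : F, g = uEl Q 0 b}
      one_mem' := ⟨0, (uEl_zero Q).symm⟩
      mul_mem' := fun {g h} ⟨b, hb⟩ ⟨c, hc⟩ => ⟨b + c, by rw [hb, hc, uEl_mul]; simp⟩
      inv_mem' := fun {g} ⟨b, hb⟩ => ⟨b, by rw [hb, uEl_inv]; simp⟩ }
  have hθ : Function.Injective Q.θ := Q.θ.injective
  -- an element not fixed by `θ`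
  obtain ⟨a, ha⟩ : ∃ a : F, a * Q.θ 1 ≠ 1 * Q.θ a := by
    by_contra hne
    push Not at hne
    have hid : ∀ a, Q.θ a = a := fun a => by simpa using (hne a).symm
    have hsq : ∀ a : F, a ^ 2 = a := fun a => by
      have := Q.sq a
      rw [hid, hid] at this
      exact this.symm
    have h01 : ∀ a : F, a = 0 ∨ a = 1 := fun a => by
      have h2 : a * (a - 1) = 0 := by rw [mul_sub, mul_one, ← pow_two, hsq, sub_self]
      exact (mul_eq_zero.1 h2).imp id sub_eq_zero.1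
    classical
    have hle : Fintype.card F ≤ ({0, 1} : Finset F).card := by
      rw [← Finset.card_univ]
      exact Finset.card_le_card fun x _ => by rcases h01 x with e | e <;> simp [e]
    have h2 := hle.trans Finset.card_le_two
    rw [hF] at h2
    have : 2 ^ 3 ≤ 2 ^ (2 * m + 1) := Nat.pow_le_pow_right (by norm_num) (by omega)
    omega
  refine ⟨CfsgLib.SuzukiGroup.unip Q, O, (CfsgLib.SuzukiGroup.coe_sylowTwo Q) ▸
    (CfsgLib.SuzukiGroup.sylowTwo Q).isPGroup', ?_, ?_, ?_⟩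
  · refine ⟨_, ⟨a, 0, rfl⟩, _, ⟨1, 0, rfl⟩, fun e => ha ?_⟩
    have e' : CfsgLib.SuzukiGroup.uEl Q a 0 * CfsgLib.SuzukiGroup.uEl Q 1 0 = _ := e.eq
    rw [CfsgLib.SuzukiGroup.uEl_mul, CfsgLib.SuzukiGroup.uEl_mul] at e'
    simpa using (CfsgLib.SuzukiGroup.uEl_inj Q e').2
  · refine ⟨_, ⟨1, 0, rfl⟩, fun ⟨b, hb⟩ => ?_⟩
    exact one_ne_zero (CfsgLib.SuzukiGroup.uEl_inj Q hb).1
  · rintro _ ⟨x, y, rfl⟩ h1
    rw [CfsgLib.SuzukiGroup.uEl_mul, ← CfsgLib.SuzukiGroup.uEl_zero Q] at h1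
    have h2 := (CfsgLib.SuzukiGroup.uEl_inj Q h1).2
    rw [CharTwo.add_self_eq_zero, zero_add] at h2
    rcases mul_eq_zero.1 h2 with hx | hx
    · exact ⟨y, by rw [hx]⟩
    · exact ⟨y, by rw [show x = 0 from hθ (hx.trans (map_zero Q.θ).symm)]⟩

def a7t1 : alternatingGroup (Fin 7) :=
  ⟨Equiv.swap 0 2 * Equiv.swap 1 3, by rw [Equiv.Perm.mem_alternatingGroup]; decide⟩

def a7t2 : alternatingGroup (Fin 7) :=
  ⟨Equiv.swap 0 1 * Equiv.swap 2 3, by rw [Equiv.Perm.mem_alternatingGroup]; decide⟩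

def a7s : alternatingGroup (Fin 7) :=
  ⟨Equiv.swap 0 1 * Equiv.swap 4 5, by rw [Equiv.Perm.mem_alternatingGroup]; decide⟩

def a7c : alternatingGroup (Fin 7) :=
  ⟨Equiv.swap 4 5 * Equiv.swap 5 6, by rw [Equiv.Perm.mem_alternatingGroup]; decide⟩

theorem a7_ext {a b : alternatingGroup (Fin 7)}
    (h : ∀ x : Fin 7, (a : Equiv.Perm (Fin 7)) x = (b : Equiv.Perm (Fin 7)) x) : a = b :=
  Subtype.ext (Equiv.ext h)

theorem a7_ne {a b : alternatingGroup (Fin 7)} (x : Fin 7)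
    (h : (a : Equiv.Perm (Fin 7)) x ≠ (b : Equiv.Perm (Fin 7)) x) : a ≠ b :=
  fun e => h (by rw [e])

theorem aWitness_a7 : AWitness (alternatingGroup (Fin 7)) := by
  have hs1 : a7s * a7s = 1 := a7_ext (by decide)
  have h11 : a7t1 * a7t1 = 1 := a7_ext (by decide)
  have hprod : (a7s * a7t1) * (a7s * a7t1) = a7t2 := a7_ext (by decide)
  have h22 : a7t2 * a7t2 = 1 := a7_ext (by decide)
  have hs : orderOf a7s = 2 :=
    orderOf_eq_prime (by rw [pow_two, hs1]) (a7_ne 0 (by decide))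
  have ht : orderOf a7t1 = 2 :=
    orderOf_eq_prime (by rw [pow_two, h11]) (a7_ne 0 (by decide))
  have hord : orderOf (a7s * a7t1) = 2 ^ 2 := by
    have : Fact (Nat.Prime 2) := ⟨Nat.prime_two⟩
    refine orderOf_eq_prime_pow (n := 1) ?_ ?_
    · rw [pow_one, pow_two, hprod]; exact a7_ne 0 (by decide)
    · rw [show (2 : ℕ) ^ (1 + 1) = 2 + 2 from rfl, pow_add, pow_two, hprod, h22]
  have hP := CfsgLib.Involutions.isPGroup_two_closure_pair hs ht hord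
  have hsP : a7s ∈ closure ({a7s, a7t1} : Set (alternatingGroup (Fin 7))) :=
    subset_closure (Set.mem_insert _ _)
  have htP : a7t1 ∈ closure ({a7s, a7t1} : Set (alternatingGroup (Fin 7))) :=
    subset_closure (Set.mem_insert_of_mem _ rfl)
  refine ⟨closure {a7s, a7t1}, hP, a7t1, htP, a7t2,
    hprod ▸ mul_mem (mul_mem hsP htP) (mul_mem hsP htP), a7s, hsP, a7c,
    h11, h22, a7_ne 0 (by decide), a7_ne 0 (by decide), a7_ne 0 (by decide), a7_ext (by decide),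
    fun e => a7_ne 0 (by decide) e.eq, a7_ext (by decide), a7_ne 4 (by decide), a7_ext (by decide),
    a7_ext (by decide), a7_ext (by decide)⟩

section SLThree

variable {F : Type} [Field F]

/-- Upper unitriangular elements of `SL₃`. -/
def uni3 (x y z : F) : Matrix.SpecialLinearGroup (Fin 3) F :=
  ⟨!![1, x, z; 0, 1, y; 0, 0, 1], by simp [Matrix.det_fin_three]⟩

theorem uni3_mul (x y z x' y' z' : F) :
    uni3 x y z * uni3 x' y' z' = uni3 (x + x') (y + y') (z + z' + x * y') := by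
  apply Subtype.ext
  show !![1, x, z; 0, 1, y; 0, 0, 1] * !![1, x', z'; 0, 1, y'; 0, 0, 1] = _
  ext i j
  fin_cases i <;> fin_cases j <;> simp [uni3, Matrix.mul_apply, Fin.sum_univ_three] <;> ring

theorem uni3_zero : uni3 (0 : F) 0 0 = 1 := by
  apply Subtype.ext
  show !![(1 : F), 0, 0; 0, 1, 0; 0, 0, 1] = 1
  ext i j
  fin_cases i <;> fin_cases j <;> simp

theorem uni3_center {x y z : F}
    (h : uni3 x y z ∈ Subgroup.center (Matrix.SpecialLinearGroup (Fin 3) F)) : z = 0 := by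
  obtain ⟨r, -, hr⟩ := Matrix.SpecialLinearGroup.mem_center_iff.1 h
  have := congrFun (congrFun hr 0) 2
  simpa [uni3] using this.symm

theorem lWitness_psl3 [Fintype F] (hF : Fintype.card F = 4) :
    LWitness (Matrix.ProjectiveSpecialLinearGroup (Fin 3) F) := by
  have : Fact (Nat.Prime 2) := ⟨Nat.prime_two⟩
  have : CharP F 2 := charP_of_card_eq_prime_pow (f := 2) hF
  obtain ⟨w, hw0, hw1⟩ : ∃ w : F, w ≠ 0 ∧ w ≠ 1 := by
    classical
    obtain ⟨w, -, hw⟩ := Finset.exists_mem_notMem_of_card_lt_card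
      (s := ({0, 1} : Finset F)) (t := Finset.univ) (by
        refine Finset.card_le_two.trans_lt ?_
        rw [Finset.card_univ, hF]; norm_num)
    simp only [Finset.mem_insert, Finset.mem_singleton, not_or] at hw
    exact ⟨w, hw⟩
  set π := QuotientGroup.mk' (Subgroup.center (Matrix.SpecialLinearGroup (Fin 3) F))
  let U : Subgroup (Matrix.SpecialLinearGroup (Fin 3) F) :=
    { carrier := {g | ∃ x y z, g = uni3 x y z}
      one_mem' := ⟨0, 0, 0, uni3_zero.symm⟩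
      mul_mem' := by rintro _ _ ⟨x, y, z, rfl⟩ ⟨x', y', z', rfl⟩; exact ⟨_, _, _, uni3_mul ..⟩
      inv_mem' := by
        rintro _ ⟨x, y, z, rfl⟩
        refine ⟨-x, -y, x * y - z, inv_eq_of_mul_eq_one_right ?_⟩
        rw [uni3_mul, ← uni3_zero]
        congr 1 <;> ring }
  have hU : IsPGroup 2 U := isPGroup_iff_pow_pow_eq_one.2 fun ⟨g, x, y, z, hg⟩ => ⟨2, Subtype.ext (by
    show g ^ 4 = 1
    rw [show g ^ 4 = g * g * (g * g) by rw [pow_succ, pow_succ, pow_two, mul_assoc], hg, uni3_mul, uni3_mul, ← uni3_zero]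
    simp [CharTwo.add_self_eq_zero])⟩
  have hsq : ∀ a : F, uni3 a 0 0 * uni3 a 0 0 = 1 := fun a => by
    rw [uni3_mul, ← uni3_zero]
    simp [CharTwo.add_self_eq_zero]
  have hne : ∀ a : F, a ≠ 0 → ¬ Commute (π (uni3 a 0 0)) (π (uni3 0 1 0)) := fun a ha e => by
    have e1 : π (uni3 a 0 0 * uni3 0 1 0) = π (uni3 0 1 0 * uni3 a 0 0) := by
      rw [map_mul, map_mul]; exact e
    rw [uni3_mul, uni3_mul] at e1
    have e2 := QuotientGroup.eq.1 e1
    have e3 : (uni3 (a + 0) (0 + 1) (0 + 0 + a * 1))⁻¹ * uni3 (0 + a) (1 + 0) (0 + 0 + 0 * 0) =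
        uni3 0 0 a := by
      rw [inv_mul_eq_iff_eq_mul, uni3_mul]
      simp [CharTwo.add_self_eq_zero]
    rw [e3] at e2
    exact ha (uni3_center e2)
  refine ⟨U.map π, hU.map π, π (uni3 1 0 0), ⟨_, ⟨_, _, _, rfl⟩, rfl⟩, π (uni3 w 0 0),
    ⟨_, ⟨_, _, _, rfl⟩, rfl⟩, by rw [← map_mul, hsq, map_one], by rw [← map_mul, hsq, map_one],
    Commute.map (show Commute (uni3 (1 : F) 0 0) (uni3 w 0 0) from by
      show _ * _ = _ * _
      rw [uni3_mul, uni3_mul]; congr 1 <;> ring) π,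
    ⟨_, ⟨_, ⟨0, 1, 0, rfl⟩, rfl⟩, hne 1 one_ne_zero⟩,
    ⟨_, ⟨_, ⟨0, 1, 0, rfl⟩, rfl⟩, hne w hw0⟩, _, ⟨_, ⟨0, 1, 0, rfl⟩, rfl⟩, ?_⟩
  rw [← map_mul, uni3_mul]
  simp only [add_zero, mul_zero]
  exact hne (1 + w) fun e => hw1 (CharTwo.add_eq_zero.1 e).symm

end SLThree

end CfsgLib.MinimalNonCA
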