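import Cfsg.Agent.Lib.MinimalNonCA.Isolated
import Cfsg.Agent.Lib.MinimalNonCA.Witness
import Cfsg.Prelude.Def_Sz

/-!
The simple quotient is a two-dimensional linear group.
-/

set_option autoImplicit false

namespace CfsgLib.MinimalNonCA

open Subgroup
open scoped commutatorElement

universe u

/-- The classification of simple groups with 2-nilpotent involution centralisers. -/
def Oracle : Prop :=
  ∀ (G : Type u) [Group G] [Finite G] [IsSimpleGroup G], ¬ IsMulCommutative G →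
    (∀ t : G, orderOf t = 2 →
      Cfsg.HasNormalPComplement 2 ↥(Subgroup.centralizer ({t} : Set G))) →
    (∃ (F : Type) (_ : Field F) (_ : Fintype F), 3 < Fintype.card F ∧
        Nonempty (G ≃* Matrix.ProjectiveSpecialLinearGroup (Fin 2) F)) ∨
      Cfsg.Lie.IsoSuzuki G ∨ Nonempty (G ≃* ↥(alternatingGroup (Fin 7))) ∨
      (∃ (F : Type) (_ : Field F) (_ : Fintype F), Fintype.card F = 4 ∧
        Nonempty (G ≃* Matrix.ProjectiveSpecialLinearGroup (Fin 3) F))

theorem Oracle.evenOrder (hO : Oracle.{u}) : EvenOrder.{u} := by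
  suffices H : ∀ n, ∀ (Q : Type u) [Group Q] [Finite Q], Nat.card Q = n →
      ¬ Group.IsSolvable Q → 2 ∣ Nat.card Q from fun Q _ _ h => H _ Q rfl h
  intro n
  induction n using Nat.strong_induction_on with
  | _ n ih =>
    intro Q _ _ hn hns
    by_contra h2
    have : Nontrivial Q := by
      by_contra hs
      rw [not_nontrivial_iff_subsingleton] at hs
      exact hns inferInstance
    by_cases hsim : ∀ N : Subgroup Q, N.Normal → N = ⊥ ∨ N = ⊤
    · haveI : IsSimpleGroup Q := ⟨fun N hN => hsim N hN⟩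
      have hnc : ¬ IsMulCommutative Q := fun hc =>
        hns (Group.isSolvable_of_comm fun a b => mul_comm' a b)
      rcases hO Q hnc (fun t ht => absurd (ht ▸ orderOf_dvd_natCard t) h2) with
        ⟨F, i1, i2, hq, ⟨e⟩⟩ | ⟨F, i1, i2, m, hm, hF, ⟨e⟩⟩ | ⟨⟨e⟩⟩ | ⟨F, i1, i2, hF, ⟨e⟩⟩
      · exact h2 (Nat.card_congr e.toEquiv ▸
          dvd_trans (by norm_num) (CfsgLib.PSL2.four_dvd_psl (F := F) (by omega)))
      · obtain ⟨P, -, hP, ⟨a, ha, b, -, hab⟩, -, -⟩ := (szWitness_sz F m hm hF).congr e.symm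
        exact h2 (two_dvd_card_of_witness hP ha hab)
      · obtain ⟨P, hP, a, -, -, -, s, hs, c, -, -, -, -, -, -, hsa, -⟩ := aWitness_a7.congr e.symm
        exact h2 (two_dvd_card_of_witness hP hs hsa)
      · obtain ⟨P, hP, a, ha, -, -, -, -, -, ⟨p, -, hap⟩, -⟩ := (lWitness_psl3 hF).congr e.symm
        exact h2 (two_dvd_card_of_witness hP ha hap)
    · push Not at hsim
      obtain ⟨N, hN, hbot, htop⟩ := hsim
      haveI := hN
      have hlt : Nat.card N < n := hn ▸ (lt_of_le_of_ne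
        (Nat.le_of_dvd Nat.card_pos (card_subgroup_dvd_card N)) fun e => htop (eq_top_of_card_eq N e))
      have hlt' : Nat.card (Q ⧸ N) < n := by
        have h1 : 1 < Nat.card N := one_lt_card_iff_ne_bot _ |>.2 hbot
        rw [← hn, card_eq_card_quotient_mul_card_subgroup N]
        exact lt_mul_of_one_lt_right Nat.card_pos h1
      by_cases hNs : Group.IsSolvable N
      · exact h2 ((ih _ hlt' (Q ⧸ N) rfl (not_solvable_quotient hns hNs)).trans
          (index_dvd_card N))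
      · exact h2 ((ih _ hlt N rfl hNs).trans (card_subgroup_dvd_card N))

variable {G : Type u} [Group G] [Finite G]

namespace Quasi

variable (h : Quasi G)
include h

/-- The shape of the non-abelian 2-subgroups of the quotient. -/
theorem two_group_data (P : Subgroup (G ⧸ center G)) (hP : IsPGroup 2 P)
    (hne : ∃ a ∈ P, ∃ b ∈ P, ¬ Commute a b) :
    ∃ A : Subgroup (G ⧸ center G), (∀ a ∈ A, ∀ b ∈ A, Commute a b) ∧ (∃ b ∈ P, b ∉ A) ∧
      (∀ b ∈ P, b ∉ A → b * b = 1 ∧ ∀ a ∈ A, a ∈ P → b * a * b⁻¹ = a⁻¹) ∧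
      (∀ b ∈ P, ∀ b' ∈ P, b ∉ A → b' ∉ A → b * b' ∈ A) ∧
      ∀ a ∈ A, a ∈ P → a ≠ 1 → ∀ b ∈ P, b ∉ A → ∀ g g' : G,
        QuotientGroup.mk' (center G) g = a → QuotientGroup.mk' (center G) g' = b →
          ¬ Commute g g' := by
  have : Fact (Nat.Prime 2) := ⟨Nat.prime_two⟩
  set π := QuotientGroup.mk' (center G) with hπ
  have hone : ∀ {x}, π x = 1 ↔ x ∈ center G := fun {x} => QuotientGroup.eq_one_iff x
  obtain ⟨Q, hPQ⟩ := hP.exists_le_sylow
  obtain ⟨S₁⟩ := (inferInstance : Nonempty (Sylow 2 G))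
  obtain ⟨k, hk⟩ := MulAction.exists_smul_eq (G ⧸ center G)
    (S₁.mapSurjective (f := π) (QuotientGroup.mk'_surjective _)) Q
  obtain ⟨k, rfl⟩ := QuotientGroup.mk'_surjective (center G) k
  set S := k • S₁ with hSdef
  have hlift : ∀ p ∈ P, ∃ s ∈ (S : Subgroup G), π s = p := by
    intro p hp
    have hp' := hPQ hp
    rw [← hk] at hp'
    obtain ⟨u, hu, hup⟩ := hp'
    obtain ⟨v, hv, rfl⟩ := hu
    refine ⟨k * v * k⁻¹, ⟨v, hv, rfl⟩, ?_⟩
    rw [← hup, map_mul, map_mul, map_inv]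
    rfl
  obtain ⟨a₀, ha₀, b₀, hb₀, hab₀⟩ := hne
  obtain ⟨sa, hsa, ea⟩ := hlift a₀ ha₀
  obtain ⟨sb, hsb, eb⟩ := hlift b₀ hb₀
  have hSne : ¬ Commute sa sb := fun c => hab₀ (ea ▸ eb ▸ c.map π)
  have htop : (S : Subgroup G) ≠ ⊤ := fun e => by
    have := S.isPGroup'.isNilpotent
    exact h.nonsolv (Group.isSolvable_of_surjective (f := (S : Subgroup G).subtype)
      fun g => ⟨⟨g, e ▸ mem_top g⟩, rfl⟩)
  obtain ⟨A, -, hAtop, -, hAab, hsq, hfix, hinv⟩ := two_group_shape S.isPGroup'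
    (isCA_subgroup.2 (h.properCA _ htop))
    ⟨⟨sa, hsa⟩, ⟨sb, hsb⟩, fun c => hSne (congrArg Subtype.val c)⟩
  have hcent : ∀ z : (S : Subgroup G), z ∈ center (S : Subgroup G) → (z : G) ∈ center G := by
    suffices H : ∀ j : ℕ, ∀ z : (S : Subgroup G), z ^ 2 ^ j = 1 → z ∈ center (S : Subgroup G) →
        (z : G) ∈ center G by
      intro z hz
      obtain ⟨j, hj⟩ := S.isPGroup' z
      exact H j z hj hz
    intro j
    induction j with
    | zero =>
      intro z hz _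
      rw [pow_zero, pow_one] at hz
      rw [hz]; exact one_mem _
    | succ j ih =>
      intro z hz hzc
      have h2 := ih (z * z) (by rw [← pow_two, ← pow_mul, ← pow_succ', hz]) (mul_mem hzc hzc)
      by_contra hzZ
      obtain ⟨i, hi⟩ := IsPGroup.iff_orderOf.1 S.isPGroup' z
      refine hSne ((h.moving hzZ ⟨i, by rw [← hi, Subgroup.orderOf_coe]⟩ h2 S z.2
        fun s hs => mem_centralizer_singleton_iff.2 ?_).1 sa hsa sb hsb)
      exact congrArg Subtype.val (mem_center_iff.1 hzc ⟨s, hs⟩)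
  let φ := π.comp (S : Subgroup G).subtype
  have hφc : ∀ z, z ∈ center (S : Subgroup G) → φ z = 1 := fun z hz => hone.2 (hcent z hz)
  have hφ : ∀ p ∈ P, ∃ s : (S : Subgroup G), φ s = p := fun p hp => by
    obtain ⟨s, hs, e⟩ := hlift p hp
    exact ⟨⟨s, hs⟩, e⟩
  have hout : ∀ {s : (S : Subgroup G)} {b}, φ s = b → b ∉ A.map φ → s ∉ A :=
    fun {s b} e hb hs => hb ⟨s, hs, e⟩
  have habA : ∀ a ∈ A.map φ, ∀ b ∈ A.map φ, Commute a b := by
    rintro _ ⟨a, ha, rfl⟩ _ ⟨b, hb, rfl⟩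
    exact (hAab a ha b hb).map φ
  refine ⟨A.map φ, habA, ?_, ?_, ?_, ?_⟩
  · by_contra hne'
    push Not at hne'
    exact hab₀ (habA a₀ (hne' a₀ ha₀) b₀ (hne' b₀ hb₀))
  · intro b hb hbA
    obtain ⟨s, rfl⟩ := hφ b hb
    have hsA := hout rfl hbA
    refine ⟨by rw [← map_mul]; exact hφc _ (hsq s hsA), ?_⟩
    rintro _ ⟨a, ha, rfl⟩ -
    refine eq_inv_of_mul_eq_one_left ?_
    rw [← map_inv, ← map_mul, ← map_mul, ← map_mul]
    exact hφc _ (hinv s hsA a ha)
  · intro b hb b' hb' hbA hbA'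
    by_contra hbb
    obtain ⟨s, rfl⟩ := hφ b hb
    obtain ⟨s', rfl⟩ := hφ b' hb'
    have hsA := hout rfl hbA
    have hsA' := hout rfl hbA'
    have hss := hout (map_mul φ s s') hbb
    have hexp : ∀ u : (S : Subgroup G), φ u * φ u = 1 := fun u => by
      rw [← map_mul]
      by_cases hu : u ∈ A
      · have h1 : ∀ w, w ∉ A → φ w * φ u * (φ w)⁻¹ = (φ u)⁻¹ := fun w hw =>
          eq_inv_of_mul_eq_one_left (by
            rw [← map_inv, ← map_mul, ← map_mul, ← map_mul]; exact hφc _ (hinv w hw u hu))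
        have e2 := h1 (s * s') hss
        rw [map_mul] at e2
        have e3 : φ s * (φ s' * φ u * (φ s')⁻¹) * (φ s)⁻¹ = (φ u)⁻¹ := by rw [← e2]; group
        rw [h1 s' hsA'] at e3
        have e4 : φ s * (φ u)⁻¹ * (φ s)⁻¹ = φ u := by
          rw [show φ s * (φ u)⁻¹ * (φ s)⁻¹ = (φ s * φ u * (φ s)⁻¹)⁻¹ by simp [mul_assoc], h1 s hsA,
            inv_inv]
        rw [e4, eq_inv_iff_mul_eq_one, ← map_mul] at e3
        exact e3
      · exact hφc _ (hsq u hu)
    obtain ⟨u, rfl⟩ := hφ a₀ ha₀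
    obtain ⟨v, rfl⟩ := hφ b₀ hb₀
    refine hab₀ ?_
    have e := hexp (u * v)
    rw [map_mul] at e
    have iu := inv_eq_of_mul_eq_one_right (hexp u)
    have iv := inv_eq_of_mul_eq_one_right (hexp v)
    show φ u * φ v = φ v * φ u
    calc φ u * φ v = (φ u * φ v)⁻¹ := (inv_eq_of_mul_eq_one_right e).symm
      _ = φ v * φ u := by rw [mul_inv_rev, iu, iv]
  · intro a ha _ ha1 b hb hbA g g' eg eg' hc
    obtain ⟨sA, hsA0, rfl⟩ := ha
    obtain ⟨s, rfl⟩ := hφ b hb
    have hsA := hout rfl hbA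
    have key : ∀ {x : G} {w : (S : Subgroup G)}, π x = φ w → ∃ z ∈ center G, x = (w : G) * z :=
      fun {x w} e => ⟨(w : G)⁻¹ * x,
        hone.1 (by rw [map_mul, map_inv, e]; exact inv_mul_cancel _), (mul_inv_cancel_left _ _).symm⟩
    obtain ⟨z, hz, rfl⟩ := key eg
    obtain ⟨z', hz', rfl⟩ := key eg'
    refine ha1 (hφc _ (hfix s hsA sA hsA0 (Subtype.ext ?_)))
    have h1 := (hc.mul_left (mem_center_iff.1 (inv_mem hz) ((s : G) * z')).symm).mul_right
      (mem_center_iff.1 (inv_mem hz') ((sA : G) * z * z⁻¹))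
    rw [mul_inv_cancel_right, mul_inv_cancel_right] at h1
    exact h1

theorem no_szWitness (hw : SzWitness (G ⧸ center G)) : False := by
  obtain ⟨P, O, hP, hne, ⟨x, hx, hxO⟩, hO⟩ := hw
  obtain ⟨A, -, ⟨b, hb, hbA⟩, hout, -, -⟩ := h.two_group_data P hP hne
  have hmem : ∀ p ∈ P, p ∈ A ∨ p ∈ O := fun p hp => or_iff_not_imp_left.2 fun e =>
    hO p hp (hout p hp e).1
  have hxA := (hmem x hx).resolve_right hxO
  rcases hmem (x * b) (mul_mem hx hb) with e | e
  · exact hbA ((A.mul_mem_cancel_left hxA).1 e)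
  · exact hxO ((O.mul_mem_cancel_right ((hmem b hb).resolve_left hbA)).1 e)

theorem no_lWitness (hw : LWitness (G ⧸ center G)) : False := by
  obtain ⟨P, hP, e₁, he₁, e₂, he₂, h1, h2, hc, ⟨p₁, hp₁, n1⟩, ⟨p₂, hp₂, n2⟩, p₃, hp₃, n3⟩ := hw
  obtain ⟨A, hAab, -, hout, hidx, -⟩ := h.two_group_data P hP ⟨e₁, he₁, p₁, hp₁, n1⟩
  have key : ∀ e ∈ P, e ∈ A → e * e = 1 → ∀ p ∈ P, Commute e p := fun e he heA hee p hp => by
    by_cases hpA : p ∈ A
    · exact hAab e heA p hpA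
    · have := (hout p hp hpA).2 e heA he
      rw [inv_eq_of_mul_eq_one_right hee, mul_inv_eq_iff_eq_mul] at this
      exact this.symm
  by_cases a1 : e₁ ∈ A
  · exact n1 (key e₁ he₁ a1 h1 p₁ hp₁)
  by_cases a2 : e₂ ∈ A
  · exact n2 (key e₂ he₂ a2 h2 p₂ hp₂)
  refine n3 (key _ (mul_mem he₁ he₂) (hidx e₁ he₁ e₂ he₂ a1 a2) ?_ p₃ hp₃)
  calc e₁ * e₂ * (e₁ * e₂) = e₁ * (e₂ * e₁) * e₂ := by group
    _ = e₁ * (e₁ * e₂) * e₂ := by rw [hc.eq]
    _ = e₁ * e₁ * (e₂ * e₂) := by group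
    _ = 1 := by rw [h1, h2, one_mul]

theorem no_aWitness (hw : AWitness (G ⧸ center G)) : False := by
  obtain ⟨P, hP, t₁, ht₁, t₂, ht₂, s, hs, c, h1, h2, n1, n2, n12, hc12, hst, hc3, hc1, hct₁, hct₂,
    hsc⟩ := hw
  haveI := h.simple
  set π := QuotientGroup.mk' (center G) with hπ
  have hone : ∀ {x}, π x = 1 ↔ x ∈ center G := fun {x} => QuotientGroup.eq_one_iff x
  obtain ⟨A, hAab, -, hout, hidx, hlift⟩ := h.two_group_data P hP ⟨s, hs, t₁, ht₁, hst⟩
  have ht₁A : t₁ ∉ A := fun e => hst (by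
    by_cases hsA : s ∈ A
    · exact hAab s hsA t₁ e
    · have := (hout s hs hsA).2 t₁ e ht₁
      rw [inv_eq_of_mul_eq_one_right h1, mul_inv_eq_iff_eq_mul] at this
      exact this)
  obtain ⟨g₁, e₁⟩ := QuotientGroup.mk'_surjective (center G) t₁
  obtain ⟨g₂, e₂⟩ := QuotientGroup.mk'_surjective (center G) t₂
  obtain ⟨gs, es⟩ := QuotientGroup.mk'_surjective (center G) s
  obtain ⟨gc, ec⟩ := QuotientGroup.mk'_surjective (center G) c
  have hne12 : ¬ Commute g₁ g₂ := by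
    by_cases ht₂A : t₂ ∈ A
    · exact fun e => hlift t₂ ht₂A ht₂ n2 t₁ ht₁ ht₁A g₂ g₁ e₂ e₁ e.symm
    · refine fun e => hlift (t₁ * t₂) (hidx t₁ ht₁ t₂ ht₂ ht₁A ht₂A) (mul_mem ht₁ ht₂)
        (fun e0 => n12 ?_) t₁ ht₁ ht₁A (g₁ * g₂) g₁ (by rw [map_mul, e₁, e₂]) e₁
        ((Commute.refl g₁).mul_left e.symm)
      rw [mul_eq_one_iff_eq_inv, inv_eq_of_mul_eq_one_right h2] at e0
      exact e0
  have hcl : ∀ g t : _, π g = t → t * t = 1 → Commute t c → Commute g gc := by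
    intro g t et htt htc
    set z := ⁅g, gc⁆ with hz
    have hzZ : z ∈ center G := hone.1 (by
      rw [map_commutatorElement, et, ec, commutatorElement_eq_one_iff_commute]; exact htc)
    have hgg : g * g ∈ center G := hone.1 (by rw [map_mul, et, htt])
    have hc3' : gc ^ 3 ∈ center G := hone.1 (by rw [map_pow, ec, hc3])
    have ha : g * gc * g⁻¹ = z * gc := by rw [hz, commutatorElement_def]; group
    have hzc : ∀ u : G, u * z = z * u := mem_center_iff.1 hzZ
    have e2 : z * z = 1 := by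
      have hgc : g * g * gc * (g * g)⁻¹ = gc := by
        rw [← mem_center_iff.1 hgg gc, mul_inv_cancel_right]
      have : g * g * gc * (g * g)⁻¹ = z * z * gc := by
        calc g * g * gc * (g * g)⁻¹ = g * (g * gc * g⁻¹) * g⁻¹ := by group
          _ = g * z * gc * g⁻¹ := by rw [ha]; group
          _ = z * g * gc * g⁻¹ := by rw [hzc g]
          _ = z * (g * gc * g⁻¹) := by group
          _ = z * z * gc := by rw [ha]; group
      rw [hgc] at this
      exact mul_eq_right.1 this.symm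
    have e3 : z ^ 3 = 1 := by
      have e : (g * gc * g⁻¹) ^ 3 = gc ^ 3 := by
        rw [conj_pow, mem_center_iff.1 hc3' g, mul_inv_cancel_right]
      rw [ha, (show Commute z gc from (hzc gc).symm).mul_pow] at e
      exact mul_eq_right.1 e
    rw [pow_succ, pow_two, e2, one_mul] at e3
    exact commutatorElement_eq_one_iff_commute.1 e3
  set H := (normalizer ((zpowers c : Subgroup (G ⧸ center G)) : Set (G ⧸ center G))).comap π with hH
  have hHtop : H ≠ ⊤ := fun e => by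
    have hn : (zpowers c).Normal := normalizer_eq_top_iff.1
      (comap_injective (QuotientGroup.mk'_surjective _) (e.trans (comap_top _).symm))
    rcases IsSimpleGroup.eq_bot_or_eq_top_of_normal _ hn with e' | e'
    · exact hc1 (zpowers_eq_bot.1 e')
    · exact h.quotient_not_comm ⟨⟨fun a b => by
        obtain ⟨i, rfl⟩ := mem_zpowers_iff.1 (e' ▸ mem_top a)
        obtain ⟨j, rfl⟩ := mem_zpowers_iff.1 (e' ▸ mem_top b)
        exact (Commute.zpow_zpow_self c i j).eq⟩⟩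
  have hmem : ∀ {g : G}, π g * c * (π g)⁻¹ ∈ ({c, c⁻¹} : Set _) → g ∈ H := by
    intro g hg
    refine mem_comap.2 (mem_normalizer_iff_map_conj_eq.2 ?_)
    rw [MonoidHom.map_zpowers]
    rcases hg with hg | hg
    · exact congrArg zpowers hg
    · exact (congrArg zpowers hg).trans (zpowers_inv)
  have hcH : gc ∈ H := hmem (Or.inl (by rw [ec, mul_inv_cancel_right]))
  have hg₁ : g₁ ∈ H := hmem (Or.inl (by rw [e₁, hct₁.eq, mul_inv_cancel_right]))
  have hg₂ : g₂ ∈ H := hmem (Or.inl (by rw [e₂, hct₂.eq, mul_inv_cancel_right]))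
  have hgs : gs ∈ H := hmem (Or.inr (by rw [es, hsc]; rfl))
  refine hne12 (h.properCA H hHtop gc hcH g₁ hg₁ g₂ hg₂ ⟨gs, hgs, fun e => hc1 ?_⟩
    (hcl g₁ t₁ e₁ h1 hct₁).symm (hcl g₂ t₂ e₂ h2 hct₂).symm)
  have e' := e.map π
  rw [ec, es] at e'
  rw [← e'.eq, mul_inv_cancel_right] at hsc
  have : c * c = 1 := mul_eq_one_iff_eq_inv.2 hsc
  rw [pow_succ, pow_two, this, one_mul] at hc3
  exact hc3

/-- The simple quotient is `PSL₂`. -/
theorem quotient_psl (hO : Oracle.{u}) :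
    ∃ (F : Type) (_ : Field F) (_ : Fintype F), 3 < Fintype.card F ∧
      Nonempty ((G ⧸ center G) ≃* Matrix.ProjectiveSpecialLinearGroup (Fin 2) F) := by
  haveI := h.simple
  rcases hO (G ⧸ center G) h.quotient_not_comm h.centralizer_two_nilpotent with
    hp | ⟨F, i1, i2, m, hm, hF, ⟨e⟩⟩ | ⟨⟨e⟩⟩ | ⟨F, i1, i2, hF, ⟨e⟩⟩
  · exact hp
  · exact (h.no_szWitness ((szWitness_sz F m hm hF).congr e.symm)).elim
  · exact (h.no_aWitness (aWitness_a7.congr e.symm)).elim
  · exact (h.no_lWitness ((lWitness_psl3 hF).congr e.symm)).elim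

end Quasi

end CfsgLib.MinimalNonCA
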