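import Cfsg.Agent.Lib.MinimalNonCA.CoverNine

/-!
A group with CA proper subgroups and a normal cover of `SL₂(q)` is a CA-group.
-/

set_option autoImplicit false
set_option linter.unusedSectionVars false

namespace CfsgLib.MinimalNonCA

open Subgroup Matrix
open scoped MatrixGroups commutatorElement

universe u v

theorem comm_central_mul {A : Type u} [Group A] {a b k m : A} (hk : k ∈ center A)
    (hm : m ∈ center A) : ⁅a * k, b * m⁆ = ⁅a, b⁆ := by
  have hk' : ∀ x, x * k = k * x := mem_center_iff.1 hk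
  have hm' : ∀ x, x * m = m * x := mem_center_iff.1 hm
  have e1 : k * (b * m) * k⁻¹ = b * m := by rw [← hk', mul_inv_cancel_right]
  have e2 : m * a⁻¹ * m⁻¹ = a⁻¹ := by rw [← hm', mul_inv_cancel_right]
  calc ⁅a * k, b * m⁆ = a * (k * (b * m) * k⁻¹) * a⁻¹ * m⁻¹ * b⁻¹ := by
        simp [commutatorElement_def, mul_assoc]
    _ = a * b * (m * a⁻¹ * m⁻¹) * b⁻¹ := by rw [e1]; simp [mul_assoc]
    _ = ⁅a, b⁆ := by rw [e2]; simp [commutatorElement_def, mul_assoc]

variable {G : Type u} [Group G] [Finite G] {F : Type v} [Field F] [Fintype F]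
variable {L : Subgroup G} [L.Normal] {ρ : L →* Matrix.SpecialLinearGroup (Fin 2) F}

namespace SLNormal

variable (h : SLNormal L ρ)
include h

theorem ker_fixed {z : L} (hz : z ∈ ρ.ker) (g : G) : MulAut.conjNormal g z = z := by
  have hzc : (z : G) ∈ center G := h.centralizer_central fun l hl =>
    congrArg Subtype.val (mem_center_iff.1 (h.ker_le hz) ⟨l, hl⟩).symm
  refine Subtype.ext ?_
  rw [MulAut.conjNormal_apply, mem_center_iff.1 hzc g, mul_inv_cancel_right]

theorem coverNine (h9 : Fintype.card F = 9) (h3 : Nat.card ρ.ker = 3) : CoverNine ρ :=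
  ⟨h.quasi.perfect, h9, h.surj, h.ker_le, h3⟩

theorem lift_eq {x y : L} (he : ρ x = ρ y) : ∃ k ∈ center L, x = y * k :=
  ⟨y⁻¹ * x, h.ker_le (by rw [MonoidHom.mem_ker, map_mul, map_inv, he, inv_mul_cancel]),
    (mul_inv_cancel_left y x).symm⟩

/-- Elements in `L` times the centre. -/
theorem mem_sup {g : G} : g ∈ L ⊔ center G ↔ ∃ l : L, ∃ c ∈ center G, g = l * c := by
  constructor
  · intro hg
    obtain ⟨y, hy, z, hz, e⟩ := mem_sup_of_normal_left.1 hg
    exact ⟨⟨y, hy⟩, z, hz, e.symm⟩
  · rintro ⟨l, c, hc, rfl⟩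
    exact mul_mem (mem_sup_left l.2) (mem_sup_right hc)

/-- Undo the diagonal action by an element of `L`. -/
theorem exists_undo (r : Fˣ) : ∃ t : L, ρ t = tel r⁻¹ ∧ ∀ (g : G) (σ : F ≃+* F) (d : Fˣ),
    Acts ρ g d σ → Acts ρ ((t : G) * g) (r⁻¹ * r⁻¹ * d) σ := by
  obtain ⟨t, ht⟩ := h.lift (tel r⁻¹)
  refine ⟨t, ht, fun g σ d hg => ?_⟩
  have := (h.acts_of_lift ht).mul hg
  rwa [one_mul, show Units.map (1 : F ≃+* F).toMonoidHom d = d from Units.ext rfl] at this

theorem mem_of_acts_one {g : G} (hg : Acts ρ g 1 1) : g ∈ center G :=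
  h.centralizer_central (h.acts_one_iff.1 hg)

/-- In the cover case the lifts of two independent unipotent elements do not commute. -/
theorem lifts_not_commute (h9 : CoverNine ρ) {i : F} (hi : ∀ n : ℕ, (n : F) ≠ i) {a b : L}
    (ha : ρ a = uel 1) (hb : ρ b = uel i) : ¬ Commute a b := fun hc => by
  obtain ⟨y, hy, z, hz, hne⟩ := h9.not_comm
  have hsub : (uSub F).comap ρ ≤ closure {a, b} ⊔ ρ.ker := by
    rw [← comap_map_eq, MonoidHom.map_closure, Set.image_pair, ha, hb]
    refine comap_mono ?_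
    refine le_of_eq ?_
    refine (eq_of_le_of_card_ge ((closure_le _).2 ?_) ?_).symm
    · rintro w (rfl | rfl)
      exacts [⟨1, rfl⟩, ⟨i, rfl⟩]
    · have hU : Nat.card (uSub F) ∣ 3 ^ 2 := by
        rw [show (3 : ℕ) ^ 2 = 9 from rfl, ← h9.card, ← Nat.card_eq_fintype_card]
        exact (Nat.card_congr (Equiv.ofBijective (fun a : F => (⟨uel a, a, rfl⟩ : uSub F))
          ⟨fun a b e => uel_inj (congrArg Subtype.val e), by
            rintro ⟨_, a, rfl⟩; exact ⟨a, rfl⟩⟩)).symm.dvd
      set C := closure ({uel 1, uel i} : Set (Matrix.SpecialLinearGroup (Fin 2) F))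
      have hCU : C ≤ uSub F := (closure_le _).2 (by
        rintro w (rfl | rfl)
        exacts [⟨1, rfl⟩, ⟨i, rfl⟩])
      obtain ⟨k, hk, hk'⟩ := (Nat.dvd_prime_pow Nat.prime_three).1
        ((card_dvd_of_le hCU).trans hU)
      have h3 : Nat.card (zpowers (uel (1 : F))) = 3 := by
        rw [Nat.card_zpowers]
        have : Fact (Nat.Prime 3) := ⟨Nat.prime_three⟩
        refine orderOf_eq_prime ?_ fun e => one_ne_zero (uel_inj (e.trans uel_zero.symm))
        rw [uel_pow]
        simp [three_eq_zero h9.card, uel_zero]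
      have hne : zpowers (uel (1 : F)) ≠ C := fun e => by
        obtain ⟨n, hn⟩ := mem_zpowers_iff.1
          (show uel i ∈ zpowers (uel (1 : F)) from e ▸ subset_closure (by simp))
        have hn0 := Int.emod_nonneg n (show (3 : ℤ) ≠ 0 by norm_num)
        have e3 : uel (1 : F) ^ (3 : ℤ) = 1 := by
          rw [show (3 : ℤ) = ((3 : ℕ) : ℤ) from rfl, zpow_natCast, uel_pow]
          simp [three_eq_zero h9.card, uel_zero]
        rw [← Int.emod_add_mul_ediv n 3, _root_.zpow_add, _root_.zpow_mul, e3, _root_.one_zpow, _root_.mul_one] at hn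
        obtain ⟨m, hm⟩ := Int.eq_ofNat_of_zero_le hn0
        rw [hm, zpow_natCast, uel_pow, mul_one] at hn
        exact hi m (uel_inj hn)
      have hlt : 3 < Nat.card C := by
        refine lt_of_le_of_ne ?_ fun e => hne (eq_of_le_of_card_ge
          (zpowers_le.2 (subset_closure (by simp))) (by omega))
        rw [← h3]
        exact Nat.le_of_dvd Nat.card_pos (card_dvd_of_le (zpowers_le.2 (subset_closure (by simp))))
      have hk2 : k = 2 := by
        rw [hk'] at hlt
        interval_cases k <;> simp_all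
      rw [hk', hk2]
      exact Nat.le_of_dvd (by norm_num) hU
  obtain ⟨y₁, hy₁, y₂, hy₂, ey⟩ := mem_sup_of_normal_right.1 (hsub hy)
  obtain ⟨z₁, hz₁, z₂, hz₂, ez⟩ := mem_sup_of_normal_right.1 (hsub hz)
  have hcl : IsMulCommutative (closure ({a, b} : Set L)) := isMulCommutative_closure (by
    rintro x (rfl | rfl) y (rfl | rfl)
    exacts [rfl, hc.eq, hc.eq.symm, rfl])
  refine hne ?_
  rw [← ey, ← ez, ← commutatorElement_eq_one_iff_commute,
    comm_central_mul (h.ker_le hy₂) (h.ker_le hz₂), commutatorElement_eq_one_iff_commute]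
  exact congrArg Subtype.val (mul_comm' (⟨y₁, hy₁⟩ : closure ({a, b} : Set L)) ⟨z₁, hz₁⟩)

/-- A square field action by elements with trivial diagonal part is trivial. -/
theorem sigma_eq_one_of_acts {g : G} {σ : F ≃+* F} (hg : Acts ρ g 1 σ) : σ = 1 := by
  refine RingEquiv.ext fun a => ?_
  rcases h.ker_cases with hk | ⟨h9, h3⟩
  · have hinj := (MonoidHom.ker_eq_bot_iff ρ).1 hk
    obtain ⟨e, he⟩ := h.sq_ne_one
    obtain ⟨t, ht⟩ := h.lift (tel e)
    obtain ⟨u, hu⟩ := h.lift (uel 1)
    obtain ⟨w, hw⟩ := h.lift (uel a)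
    have hfix : MulAut.conjNormal g u = u := hinj (by rw [hg, hu, semi_uel]; simp)
    have hgu : Commute g (u : G) := by
      have := congrArg Subtype.val hfix
      rw [MulAut.conjNormal_apply] at this
      exact mul_inv_eq_iff_eq_mul.1 this
    have huw : Commute (u : G) (w : G) := by
      have : u * w = w * u := hinj (by rw [map_mul, map_mul, hu, hw, uel_mul, uel_mul, add_comm])
      exact congrArg Subtype.val this
    have hgw : Commute g (w : G) := by
      by_contra hne
      exact h.tel_not_commute ht hu he one_ne_zero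
        ((h.properCA _ h.normalizer_ne_top).central (h.unip_mem_normalizer hu) (h.mem_normalizer hg)
          (h.unip_mem_normalizer hw) hgu.symm huw hne
          (h.mem_normalizer (h.acts_of_lift ht)))
    have hfw : MulAut.conjNormal g w = w := Subtype.ext (by
      rw [MulAut.conjNormal_apply, hgw.eq, mul_inv_cancel_right])
    have := congrArg ρ hfw
    rw [hg, hw, semi_uel] at this
    simpa using uel_inj this
  · by_contra ha
    have hc9 := h.coverNine h9 h3
    have : Fact (Nat.Prime 3) := ⟨Nat.prime_three⟩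
    have hcard : Nat.card (F ≃+* F) = 2 :=
      CfsgLib.FieldGalois.card_ringAut (p := 3) (f := 2) (by rw [h9]; rfl)
    have hσσ : σ ^ 2 = 1 := hcard ▸ pow_card_eq_one'
    have hσi : σ (a - σ a) = -(a - σ a) := by
      rw [map_sub, show σ (σ a) = a from RingEquiv.congr_fun (pow_two σ ▸ hσσ) a, neg_sub]
    set i := a - σ a
    have hi : ∀ n : ℕ, (n : F) ≠ i := fun n e => ha (by
      have h2 : (2 : F) * i = 0 := by
        rw [← e, map_natCast, e] at hσi
        linear_combination hσi
      have h2' : (2 : F) ≠ 0 := fun e2 => one_ne_zero (α := F) (by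
        linear_combination three_eq_zero h9 - e2)
      exact (sub_eq_zero.1 ((mul_eq_zero.1 h2).resolve_left h2')).symm)
    obtain ⟨u, hu⟩ := h.lift (uel 1)
    obtain ⟨w, hw⟩ := h.lift (uel i)
    have hz : ⁅u, w⁆ ∈ ρ.ker := by
      rw [MonoidHom.mem_ker, map_commutatorElement, hu, hw, commutatorElement_eq_one_iff_commute]
      show _ = _
      rw [uel_mul, uel_mul, add_comm]
    obtain ⟨k, hk, ek⟩ := h.lift_eq (x := MulAut.conjNormal g u) (y := u)
      (by rw [hg, hu, semi_uel]; simp)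
    obtain ⟨m, hm, em⟩ := h.lift_eq (x := MulAut.conjNormal g w) (y := w⁻¹) (by
      rw [hg, map_inv, hw, semi_uel, hσi, eq_inv_iff_mul_eq_one, uel_mul]; simp [uel_zero])
    have hfix := h.ker_fixed hz g
    rw [map_commutatorElement, ek, em, comm_central_mul hk hm] at hfix
    have hinv : ⁅u, w⁻¹⁆ = ⁅u, w⁆⁻¹ := by
      have hc := mem_center_iff.1 (h.ker_le hz) w⁻¹
      calc ⁅u, w⁻¹⁆ = w⁻¹ * ⁅u, w⁆⁻¹ * w := by simp [commutatorElement_def, mul_assoc]
        _ = _ := by
          have hc' : Commute w⁻¹ ⁅u, w⁆ := hc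
          rw [hc'.inv_right.eq, inv_mul_cancel_right]
    rw [hinv] at hfix
    have h3' : ⁅u, w⁆ ^ 3 = 1 := by
      have := congrArg Subtype.val (pow_card_eq_one' (x := (⟨_, hz⟩ : ρ.ker)))
      rwa [h3] at this
    rw [pow_succ, pow_two] at h3'
    rw [inv_eq_iff_mul_eq_one.1 hfix, one_mul] at h3'
    exact h.lifts_not_commute hc9 hi hu hw (commutatorElement_eq_one_iff_commute.1 h3')

/-- Square classes act as inner elements. -/
theorem acts_square {g : G} {d : Fˣ} {σ : F ≃+* F} (hd : IsSquare (d : F)) (hg : Acts ρ g d σ) :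
    σ = 1 ∧ g ∈ L ⊔ center G := by
  obtain ⟨r₀, hr⟩ := hd
  have hr0 : r₀ ≠ 0 := fun e => d.ne_zero (by rw [hr, e, mul_zero])
  set r : Fˣ := Units.mk0 r₀ hr0
  have hdr : d = r * r := Units.ext hr
  obtain ⟨t, -, ht⟩ := h.exists_undo r
  have hv := ht g σ d hg
  rw [show r⁻¹ * r⁻¹ * d = 1 by rw [hdr]; group] at hv
  obtain rfl := h.sigma_eq_one_of_acts hv
  refine ⟨rfl, ?_⟩
  have := mul_mem (inv_mem (show (t : G) ∈ L ⊔ center G from mem_sup_left t.2))
    (show (t : G) * g ∈ L ⊔ center G from mem_sup_right (h.mem_of_acts_one hv))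
  rwa [inv_mul_cancel_left] at this

/-- No element induces a field automorphism. -/
theorem sigma_eq_one {g : G} {d : Fˣ} {σ : F ≃+* F} (hg : Acts ρ g d σ) : σ = 1 := by
  by_contra hσ
  have hgg := hg.mul hg
  have hsq : IsSquare ((d * Units.map σ.toMonoidHom d : Fˣ) : F) := isSquare_mul_map σ (d : F)
  obtain ⟨h2, -⟩ := h.acts_square hsq hgg
  have ho : orderOf σ = 2 := by
    have : Fact (Nat.Prime 2) := ⟨Nat.prime_two⟩
    exact orderOf_eq_prime (by rw [pow_two, h2]) hσ
  obtain ⟨r₀, hr⟩ := hsq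
  have hr0 : r₀ ≠ 0 := fun e => (d * Units.map σ.toMonoidHom d).ne_zero (by rw [hr, e, mul_zero])
  set r : Fˣ := Units.mk0 r₀ hr0
  obtain ⟨t, htl, ht⟩ := h.exists_undo r
  have hw := ht _ _ _ hgg
  rw [h2, show r⁻¹ * r⁻¹ * (d * Units.map σ.toMonoidHom d) = 1 by
    rw [show d * Units.map σ.toMonoidHom d = r * r from Units.ext hr]; group] at hw
  have hc := h.mem_of_acts_one hw
  have hcomm : Commute g (t : G) := by
    have e : (t : G) = ((t : G) * (g * g)) * (g * g)⁻¹ := by group
    rw [e]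
    exact (show Commute g _ from mem_center_iff.1 hc g).mul_right
      ((Commute.refl g).mul_right (Commute.refl g)).inv_right
  have hfix : MulAut.conjNormal g t = t := Subtype.ext (by
    rw [MulAut.conjNormal_apply, hcomm.eq, mul_inv_cancel_right])
  have h4 := congrArg ρ hfix
  rw [hg, htl, semi_tel] at h4
  have h5 := congrArg (fun x : Matrix.SpecialLinearGroup (Fin 2) F => x.1 1 1) h4
  simp [tel] at h5
  have hσr : σ (r : F) = r := h5
  exact hσ (h.acts_square (isSquare_of_norm ho hσr hr) hg).1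

/-- In the cover case there is no diagonal outer action. -/
theorem mem_sup_of_cover (h9 : Fintype.card F = 9) (h3 : Nat.card ρ.ker = 3) {g : G} {d : Fˣ}
    (hg : Acts ρ g d 1) : g ∈ L ⊔ center G := by
  by_cases hd : IsSquare (d : F)
  · exact (h.acts_square hd hg).2
  exfalso
  have hc9 := h.coverNine h9 h3
  have h30 := three_eq_zero h9
  obtain ⟨i, hi⟩ := FiniteField.isSquare_neg_one_iff.2
    (show Fintype.card F % 4 ≠ 3 by rw [h9]; norm_num)
  have hns : ¬ IsSquare (1 + i) := by
    rintro ⟨w, hw⟩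
    have hw0 : w ≠ 0 := fun e => by
      rw [e, mul_zero] at hw
      have : i = -1 := by linear_combination hw
      rw [this] at hi
      exact one_ne_zero (α := F) (by linear_combination h30 + hi)
    have h8 := FiniteField.pow_card_sub_one_eq_one w hw0
    rw [h9] at h8
    norm_num at h8
    have : w ^ 8 = -1 := by
      linear_combination (-(w * w + (1 + i)) * (w ^ 4 + (1 + i) ^ 2)) * hw -
        (5 + 4 * i + i * i) * hi - h30
    exact one_ne_zero (α := F) (by linear_combination h30 + h8 - this)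
  have h1i : (1 + i) ≠ 0 := fun e => hns (e ▸ IsSquare.zero)
  obtain ⟨r₀, hr⟩ := CfsgLib.PSL2.isSquare_mul_of_not hd hns
  have hr0 : r₀ ≠ 0 := fun e => mul_ne_zero d.ne_zero h1i (by rw [hr, e, mul_zero])
  set r : Fˣ := Units.mk0 r₀ hr0
  obtain ⟨t, -, ht⟩ := h.exists_undo (r * (Units.mk0 _ h1i)⁻¹)
  have hv := ht g 1 d hg
  set e' := (r * (Units.mk0 _ h1i)⁻¹)⁻¹ * (r * (Units.mk0 _ h1i)⁻¹)⁻¹ * d
  have he' : (e' : F) = 1 + i := by
    simp only [e', r, _root_.mul_inv_rev, inv_inv, Units.val_mul, Units.val_inv_eq_inv_val, Units.val_mk0]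
    field_simp
    linear_combination hr
  obtain ⟨u, hu⟩ := h.lift (uel 1)
  obtain ⟨w, hw⟩ := h.lift (uel i)
  have hz : ⁅u, w⁆ ∈ ρ.ker := by
    rw [MonoidHom.mem_ker, map_commutatorElement, hu, hw, commutatorElement_eq_one_iff_commute]
    show _ = _
    rw [uel_mul, uel_mul, add_comm]
  obtain ⟨k, hk, ek⟩ := h.lift_eq (x := MulAut.conjNormal ((t : G) * g) u) (y := u * w)
    (by rw [hv, hu, semi_uel, map_mul, hu, hw, uel_mul, he']; simp)
  obtain ⟨m, hm, em⟩ := h.lift_eq (x := MulAut.conjNormal ((t : G) * g) w) (y := w * u⁻¹)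
    (by
      rw [hv, hw, semi_uel, map_mul, map_inv, hu, hw, eq_mul_inv_iff_mul_eq, uel_mul, he']
      congr 1
      simp
      linear_combination -hi)
  have hfix := h.ker_fixed hz ((t : G) * g)
  rw [map_commutatorElement, ek, em, comm_central_mul hk hm] at hfix
  have hzc := mem_center_iff.1 (h.ker_le hz)
  have hexp : ⁅u * w, w * u⁻¹⁆ = ⁅u, w⁆ * ⁅u, w⁆ := by
    have c' : Commute u⁻¹ ⁅u, w⁆ := hzc u⁻¹
    calc ⁅u * w, w * u⁻¹⁆ = u * w * w * u⁻¹ * w⁻¹ * u⁻¹ * u * w⁻¹ := by
          simp [commutatorElement_def, mul_assoc]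
      _ = (u * w * u⁻¹ * w⁻¹) * (w * u * w * u⁻¹ * w⁻¹ * w⁻¹) := by
          simp [mul_assoc]
      _ = ⁅u, w⁆ * (w * ⁅u, w⁆ * w⁻¹) := by simp [commutatorElement_def, mul_assoc]
      _ = _ := by rw [hzc w, mul_inv_cancel_right]
  rw [hexp] at hfix
  have hi' : ∀ n : ℕ, (n : F) ≠ i := fun n e => by
    rw [← e, ← Nat.div_add_mod n 3, Nat.cast_add, Nat.cast_mul,
      show ((3 : ℕ) : F) = 0 by exact_mod_cast h30, zero_mul, zero_add] at hi
    have hm := Nat.mod_lt n (show 0 < 3 by norm_num)
    interval_cases n % 3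
    · simp at hi
    · exact one_ne_zero (α := F) (by push_cast at hi; linear_combination h30 + hi)
    · exact one_ne_zero (α := F) (by push_cast at hi; linear_combination 2 * h30 + hi)
  exact h.lifts_not_commute hc9 hi' hu hw
    (commutatorElement_eq_one_iff_commute.1 (mul_eq_left.1 hfix))

/-- Outer elements form one coset. -/
theorem index_two {x y : G} (hx : x ∉ L ⊔ center G) (hy : y ∉ L ⊔ center G) :
    x⁻¹ * y ∈ L ⊔ center G := by
  have key : ∀ a : G, a ∉ L ⊔ center G → ∃ (l : L) (b : G) (d : Fˣ),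
      a = l * b ∧ Acts ρ b d 1 ∧ ¬ IsSquare (d : F) := fun a ha => by
    obtain ⟨l, d, σ, hl⟩ := h.exists_acts a
    obtain rfl := h.sigma_eq_one hl
    refine ⟨l, _, d, (mul_inv_cancel_left _ a).symm, hl, fun hd => ha ?_⟩
    have := mul_mem (show (l : G) ∈ L ⊔ center G from mem_sup_left l.2) (h.acts_square hd hl).2
    rwa [mul_inv_cancel_left] at this
  have prod : ∀ a c : G, a ∉ L ⊔ center G → c ∉ L ⊔ center G → a * c ∈ L ⊔ center G := by
    intro a c ha hc
    obtain ⟨l, b, d, rfl, hb, hd⟩ := key a ha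
    obtain ⟨l', b', d', rfl, hb', hd'⟩ := key c hc
    have hbb := hb.mul hb'
    rw [show Units.map (1 : F ≃+* F).toMonoidHom d' = d' from Units.ext rfl, one_mul] at hbb
    have h1 := (h.acts_square (CfsgLib.PSL2.isSquare_mul_of_not hd hd') hbb).2
    have h2 : b * (l' : G) * b⁻¹ ∈ L := (inferInstance : L.Normal).conj_mem _ l'.2 b
    have h3 := mul_mem (mul_mem (show (l : G) ∈ L ⊔ center G from mem_sup_left l.2) (mem_sup_left h2)) h1
    convert h3 using 1
    group
  have := mul_mem (inv_mem (prod x x hx hx)) (prod x y hx hy)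
  convert this using 1
  group

/-- A matrix realising the action of an element. -/
theorem exists_matrix (g : G) : ∃ M : Matrix (Fin 2) (Fin 2) F, M.det ≠ 0 ∧
    ∀ l : L, M * (ρ l).1 = (ρ (MulAut.conjNormal g l)).1 * M := by
  obtain ⟨l₀, d, σ, hl⟩ := h.exists_acts g
  obtain rfl := h.sigma_eq_one hl
  refine ⟨(ρ l₀).1 * !![(d : F), 0; 0, 1], ?_, fun l => ?_⟩
  · rw [det_mul, (ρ l₀).2, Matrix.det_fin_two_of]
    simp
  · have hsplit : MulAut.conjNormal g l = l₀ * MulAut.conjNormal ((l₀ : G)⁻¹ * g) l * l₀⁻¹ := by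
      apply Subtype.ext
      show _ = (l₀ : G) * _ * (l₀ : G)⁻¹
      rw [MulAut.conjNormal_apply, MulAut.conjNormal_apply]
      group
    have hD : !![(d : F), 0; 0, 1] * (ρ l).1 = (semi d 1 (ρ l)).1 * !![(d : F), 0; 0, 1] := by
      rw [semi_coe]
      ext i j
      fin_cases i <;> fin_cases j <;>
        simp [Matrix.mul_apply, Fin.sum_univ_two] <;> field_simp
    rw [hsplit, map_mul, map_mul, map_inv, hl, Matrix.SpecialLinearGroup.coe_mul,
      Matrix.SpecialLinearGroup.coe_mul, Matrix.mul_assoc, hD]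
    have hi : ((ρ l₀)⁻¹).1 * (ρ l₀).1 = 1 :=
      congrArg Subtype.val (inv_mul_cancel (ρ l₀))
    simp only [Matrix.mul_assoc]
    rw [← Matrix.mul_assoc ((ρ l₀)⁻¹).1, hi, Matrix.one_mul]

theorem isCA_L : IsCA L := isCA_subgroup.2 (h.properCA L h.ne_top)

/-- Three elements in `L` times the centre. -/
theorem comm_inner {x y z : G} (hxm : x ∈ L ⊔ center G) (hym : y ∈ L ⊔ center G)
    (hzm : z ∈ L ⊔ center G) (hx : x ∉ center G) (hy : Commute x y) (hz : Commute x z) :
    Commute y z := by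
  obtain ⟨a, c, hc, rfl⟩ := h.mem_sup.1 hxm
  obtain ⟨b, c', hc', rfl⟩ := h.mem_sup.1 hym
  obtain ⟨e, c'', hc'', rfl⟩ := h.mem_sup.1 hzm
  have cut : ∀ (s t : L) (p q : G), p ∈ center G → q ∈ center G →
      (Commute ((s : G) * p) ((t : G) * q) ↔ Commute s t) := by
    intro s t p q hp hq
    rw [← commutatorElement_eq_one_iff_commute, comm_central_mul hp hq,
      commutatorElement_eq_one_iff_commute]
    exact ⟨fun e => Subtype.ext e.eq, fun e => congrArg Subtype.val e.eq⟩
  have ha : a ∉ center L := fun ha => hx (mul_mem (h.centralizer_central fun l hl =>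
    congrArg Subtype.val (mem_center_iff.1 ha ⟨l, hl⟩).symm) hc)
  exact (cut b e c' c'' hc' hc'').2 (h.isCA_L a b e ha ((cut a b c c' hc hc').1 hy)
    ((cut a e c c'' hc hc'').1 hz))

theorem matrix_commute {g : G} {M : Matrix (Fin 2) (Fin 2) F}
    (hM : ∀ l : L, M * (ρ l).1 = (ρ (MulAut.conjNormal g l)).1 * M) {l : L}
    (hl : Commute g (l : G)) : M * (ρ l).1 = (ρ l).1 * M := by
  rw [hM, show MulAut.conjNormal g l = l from Subtype.ext (by
    rw [MulAut.conjNormal_apply, hl.eq, mul_inv_cancel_right])]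

theorem commute_of_matrix (hinj : Function.Injective ρ) {g : G} {M : Matrix (Fin 2) (Fin 2) F}
    (hdet : M.det ≠ 0) (hM : ∀ l : L, M * (ρ l).1 = (ρ (MulAut.conjNormal g l)).1 * M) {l : L}
    (hl : M * (ρ l).1 = (ρ l).1 * M) : Commute g (l : G) := by
  rw [hM] at hl
  have hu : IsUnit M := (Matrix.isUnit_iff_isUnit_det M).2 (isUnit_iff_ne_zero.2 hdet)
  have := congrArg Subtype.val (hinj (Subtype.ext (hu.mul_right_cancel hl)))
  rw [MulAut.conjNormal_apply] at this
  exact mul_inv_eq_iff_eq_mul.1 this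

theorem commute_cut {g c : G} {l : L} (hc : c ∈ center G) :
    Commute g ((l : G) * c) ↔ Commute g (l : G) := by
  have hcg : Commute g c := mem_center_iff.1 hc g
  refine ⟨fun e => ?_, fun e => e.mul_right hcg⟩
  simpa using e.mul_right hcg.inv_right

theorem isCA : IsCA G := by
  intro x y z hx hy hz
  by_cases hall : ∀ g : G, g ∈ L ⊔ center G
  · exact h.comm_inner (hall x) (hall y) (hall z) hx hy hz
  have hk : ρ.ker = ⊥ := h.ker_cases.resolve_right fun ⟨h9, h3⟩ => hall fun g => by
    obtain ⟨l, d, σ, hl⟩ := h.exists_acts g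
    obtain rfl := h.sigma_eq_one hl
    have := mul_mem (show (l : G) ∈ L ⊔ center G from mem_sup_left l.2) (h.mem_sup_of_cover h9 h3 hl)
    rwa [mul_inv_cancel_left] at this
  have hinj := (MonoidHom.ker_eq_bot_iff ρ).1 hk
  by_cases hxm : x ∈ L ⊔ center G
  · -- one of the commuting elements inside
    have key : ∀ p q : G, p ∈ L ⊔ center G → Commute x p → Commute x q → Commute p q := by
      intro p q hpm hp hq
      obtain ⟨a, c, hc, ea⟩ := h.mem_sup.1 hxm
      obtain ⟨b, c', hc', eb⟩ := h.mem_sup.1 hpm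
      obtain ⟨M, hdet, hM⟩ := h.exists_matrix q
      have ha : ρ a ∉ center (Matrix.SpecialLinearGroup (Fin 2) F) := fun ha => hx (by
        rw [ea]
        refine mul_mem (h.centralizer_central fun l hl => ?_) hc
        exact congrArg Subtype.val (hinj (show ρ (a * ⟨l, hl⟩) = ρ (⟨l, hl⟩ * a) by
          rw [map_mul, map_mul, mem_center_iff.1 ha])))
      have hqa : Commute q (a : G) := (h.commute_cut hc).1 (ea ▸ hq.symm)
      have hab : Commute (a : G) (b : G) := by
        refine ((h.commute_cut hc).1 ?_).symm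
        rw [← ea]
        exact ((h.commute_cut hc').1 (eb ▸ hp)).symm
      have hab' : (ρ a).1 * (ρ b).1 = (ρ b).1 * (ρ a).1 :=
        congrArg Subtype.val ((show Commute a b from Subtype.ext hab.eq).map ρ).eq
      have hqb := h.commute_of_matrix hinj hdet hM (comm_of_comm_nonscalar
        (nonscalar_of_not_center ha) (h.matrix_commute hM hqa).symm hab')
      rw [eb]
      exact ((h.commute_cut hc').2 hqb).symm
    by_cases hym : y ∈ L ⊔ center G
    · exact key y z hym hy hz
    by_cases hzm : z ∈ L ⊔ center G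
    · exact (key z y hzm hz hy).symm
    have := key _ y (h.index_two hym hzm) (hy.inv_right.mul_right hz) hy
    simpa using ((Commute.refl y).mul_right this.symm)
  · have key : ∀ p q : G, p ∈ L ⊔ center G → q ∈ L ⊔ center G → Commute x p → Commute x q →
        Commute p q := by
      intro p q hpm hqm hp hq
      obtain ⟨b, c, hc, eb⟩ := h.mem_sup.1 hpm
      obtain ⟨e, c', hc', ee⟩ := h.mem_sup.1 hqm
      obtain ⟨M, hdet, hM⟩ := h.exists_matrix x
      have hns : M 0 1 ≠ 0 ∨ M 1 0 ≠ 0 ∨ M 0 0 ≠ M 1 1 := by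
        by_contra hne
        push Not at hne
        obtain ⟨h1, h2, h3⟩ := hne
        refine hx (h.centralizer_central fun l hl => h.commute_of_matrix hinj hdet hM
          (l := ⟨l, hl⟩) ?_)
        ext i j
        fin_cases i <;> fin_cases j <;>
          simp [Matrix.mul_apply, Fin.sum_univ_two, h1, h2, h3, mul_comm]
      have hcomm := comm_of_comm_nonscalar hns
        (h.matrix_commute hM ((h.commute_cut hc).1 (eb ▸ hp)))
        (h.matrix_commute hM ((h.commute_cut hc').1 (ee ▸ hq)))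
      have hbe : Commute (b : G) (e : G) :=
        congrArg Subtype.val (hinj (show ρ (b * e) = ρ (e * b) by
          rw [map_mul, map_mul]; exact Subtype.ext hcomm))
      rw [eb, ee]
      exact (h.commute_cut hc').2 (((h.commute_cut hc).2 hbe.symm).symm)
    by_cases hym : y ∈ L ⊔ center G
    · by_cases hzm : z ∈ L ⊔ center G
      · exact key y z hym hzm hy hz
      have := key y _ hym (h.index_two hxm hzm) hy ((Commute.refl x).inv_right.mul_right hz)
      simpa using hy.symm.mul_right this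
    · have hya := h.index_two hxm hym
      have hxa : Commute x (x⁻¹ * y) := (Commute.refl x).inv_right.mul_right hy
      by_cases hzm : z ∈ L ⊔ center G
      · simpa using hz.mul_left (key _ z hya hzm hxa hz)
      have hxb : Commute x (x⁻¹ * z) := (Commute.refl x).inv_right.mul_right hz
      have hab := key _ _ hya (h.index_two hxm hzm) hxa hxb
      have h1 : Commute (x⁻¹ * y) z := by simpa using hxa.symm.mul_right hab
      simpa using hz.mul_left h1

end SLNormal

end CfsgLib.MinimalNonCA
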