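import Cfsg.Agent.Lib.MinimalNonCA.Basic
import Mathlib.LinearAlgebra.Matrix.SpecialLinearGroup
import Mathlib.Tactic.LinearCombination
import Mathlib.Tactic.Ring

/-!
`SL₂` is a CA-group.
-/

set_option autoImplicit false

namespace CfsgLib.MinimalNonCA

open Subgroup Matrix
open scoped MatrixGroups

variable {F : Type*} [Field F]

/-- Matrices commuting with a non-scalar `2 × 2` matrix commute with each other. -/
theorem comm_of_comm_nonscalar {A B C : Matrix (Fin 2) (Fin 2) F}
    (hA : A 0 1 ≠ 0 ∨ A 1 0 ≠ 0 ∨ A 0 0 ≠ A 1 1) (hB : A * B = B * A) (hC : A * C = C * A) :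
    B * C = C * B := by
  have b00 := congrFun (congrFun hB 0) 0
  have b01 := congrFun (congrFun hB 0) 1
  have b10 := congrFun (congrFun hB 1) 0
  have c00 := congrFun (congrFun hC 0) 0
  have c01 := congrFun (congrFun hC 0) 1
  have c10 := congrFun (congrFun hC 1) 0
  simp only [Matrix.mul_apply, Fin.sum_univ_two] at b00 b01 b10 c00 c01 c10
  have e1 : B 0 1 * C 1 0 = C 0 1 * B 1 0 := by
    rcases hA with h | h | h
    · refine mul_left_cancel₀ h ?_
      linear_combination (B 0 1) * c00 - (C 0 1) * b00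
    · refine mul_left_cancel₀ h ?_
      linear_combination (B 1 0) * c00 - (C 1 0) * b00
    · refine mul_left_cancel₀ (mul_ne_zero (sub_ne_zero.2 h) (sub_ne_zero.2 h)) ?_
      have x1 : (A 0 0 - A 1 1) * B 0 1 = A 0 1 * (B 0 0 - B 1 1) := by linear_combination b01
      have x2 : (A 0 0 - A 1 1) * B 1 0 = A 1 0 * (B 0 0 - B 1 1) := by linear_combination -b10
      have y1 : (A 0 0 - A 1 1) * C 0 1 = A 0 1 * (C 0 0 - C 1 1) := by linear_combination c01
      have y2 : (A 0 0 - A 1 1) * C 1 0 = A 1 0 * (C 0 0 - C 1 1) := by linear_combination -c10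
      calc (A 0 0 - A 1 1) * (A 0 0 - A 1 1) * (B 0 1 * C 1 0)
          = ((A 0 0 - A 1 1) * B 0 1) * ((A 0 0 - A 1 1) * C 1 0) := by ring
        _ = ((A 0 0 - A 1 1) * C 0 1) * ((A 0 0 - A 1 1) * B 1 0) := by rw [x1, y1, x2, y2]; ring
        _ = _ := by ring
  have e2 : B 0 0 * C 0 1 + B 0 1 * C 1 1 = C 0 0 * B 0 1 + C 0 1 * B 1 1 := by
    rcases hA with h | h | h
    · refine mul_left_cancel₀ h ?_
      linear_combination (B 0 1) * c01 - (C 0 1) * b01
    · refine mul_left_cancel₀ h ?_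
      linear_combination (A 1 1 - A 0 0) * e1 + (C 0 1) * b10 - (B 0 1) * c10
    · refine mul_left_cancel₀ (sub_ne_zero.2 h) ?_
      linear_combination (B 0 0 - B 1 1) * c01 - (C 0 0 - C 1 1) * b01
  have e3 : B 1 0 * C 0 0 + B 1 1 * C 1 0 = C 1 0 * B 0 0 + C 1 1 * B 1 0 := by
    rcases hA with h | h | h
    · refine mul_left_cancel₀ h ?_
      linear_combination (C 0 0 - C 1 1) * b00 - (B 0 0 - B 1 1) * c00 - (A 1 0) * e2
    · refine mul_left_cancel₀ h ?_
      linear_combination (B 1 0) * c10 - (C 1 0) * b10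
    · refine mul_left_cancel₀ (sub_ne_zero.2 h) ?_
      linear_combination (B 0 0 - B 1 1) * c10 - (C 0 0 - C 1 1) * b10
  ext i j
  fin_cases i <;> fin_cases j <;>
    simp only [Matrix.mul_apply, Fin.sum_univ_two, Fin.mk_one, Fin.zero_eta, Fin.isValue]
  · linear_combination e1
  · linear_combination e2
  · linear_combination e3
  · linear_combination -e1

/-- A non-central element of `SL₂` is non-scalar. -/
theorem nonscalar_of_not_center {g : SpecialLinearGroup (Fin 2) F}
    (hg : g ∉ center (SpecialLinearGroup (Fin 2) F)) :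
    g.1 0 1 ≠ 0 ∨ g.1 1 0 ≠ 0 ∨ g.1 0 0 ≠ g.1 1 1 := by
  by_contra hne
  push Not at hne
  obtain ⟨h1, h2, h3⟩ := hne
  refine hg (mem_center_iff.2 fun k => Subtype.ext ?_)
  show k.1 * g.1 = g.1 * k.1
  ext i j
  fin_cases i <;> fin_cases j <;>
    simp [Matrix.mul_apply, Fin.sum_univ_two, h1, h2, h3, mul_comm]

theorem isCA_slTwo : IsCA (SpecialLinearGroup (Fin 2) F) := fun x y z hx hy hz =>
  Subtype.ext (comm_of_comm_nonscalar (nonscalar_of_not_center hx)
    (congrArg Subtype.val hy.eq) (congrArg Subtype.val hz.eq))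

end CfsgLib.MinimalNonCA
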