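import Cfsg.Agent.Lib.MinimalNonCA.SLAut
import Cfsg.Agent.Lib.MinimalNonCA.SLTwo
import Cfsg.Agent.Lib.MinimalNonCA.Quasi
import Cfsg.Agent.Lib.Schur.Basic

/-!
A normal subgroup covering `SL₂(q)` in a group with CA proper subgroups.
-/

set_option autoImplicit false
set_option linter.unusedSectionVars false

namespace CfsgLib.MinimalNonCA

open Subgroup Matrix
open scoped MatrixGroups commutatorElement

universe u v

variable {G : Type u} [Group G] [Finite G] {F : Type v} [Field F] [Fintype F]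

/-- A normal subgroup covering `SL₂(q)`. -/
structure SLNormal (L : Subgroup G) [L.Normal] (ρ : L →* Matrix.SpecialLinearGroup (Fin 2) F) : Prop where
  quasi : Quasi L
  ne_top : L ≠ ⊤
  properCA : ProperCA G
  card : 4 ≤ Fintype.card F
  surj : Function.Surjective ρ
  ker_le : ρ.ker ≤ center L
  ker_cases : ρ.ker = ⊥ ∨ (Fintype.card F = 9 ∧ Nat.card ρ.ker = 3)

variable {L : Subgroup G} [L.Normal] {ρ : L →* Matrix.SpecialLinearGroup (Fin 2) F}

/-- `g` acts on `L` as `diag(d, 1) ∘ σ`. -/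
def Acts (ρ : L →* Matrix.SpecialLinearGroup (Fin 2) F) (g : G) (d : Fˣ) (σ : F ≃+* F) : Prop :=
  ∀ l : L, ρ (MulAut.conjNormal g l) = semi d σ (ρ l)

theorem semi_one (x : Matrix.SpecialLinearGroup (Fin 2) F) : semi (1 : Fˣ) 1 x = x := by
  apply Subtype.ext
  rw [semi_coe]
  ext i j
  fin_cases i <;> fin_cases j <;> simp

theorem Acts.mul {g h : G} {d d' : Fˣ} {σ σ' : F ≃+* F} (hg : Acts ρ g d σ) (hh : Acts ρ h d' σ') :
    Acts ρ (g * h) (d * Units.map σ.toMonoidHom d') (σ * σ') := fun l => by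
  rw [map_mul, MulAut.mul_apply, hg, hh, semi_comp]

/-- The unipotent subgroup. -/
def uSub (F : Type v) [Field F] : Subgroup (Matrix.SpecialLinearGroup (Fin 2) F) where
  carrier := {x | ∃ a, x = uel a}
  one_mem' := ⟨0, uel_zero.symm⟩
  mul_mem' := by rintro _ _ ⟨a, rfl⟩ ⟨b, rfl⟩; exact ⟨a + b, uel_mul a b⟩
  inv_mem' := by
    rintro _ ⟨a, rfl⟩
    exact ⟨-a, inv_eq_of_mul_eq_one_right (by rw [uel_mul, add_neg_cancel, uel_zero])⟩

/-- The Weyl element. -/
def wel (F : Type v) [Field F] : Matrix.SpecialLinearGroup (Fin 2) F :=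
  ⟨!![0, 1; -1, 0], by simp [Matrix.det_fin_two]⟩

namespace SLNormal

variable (h : SLNormal L ρ)
include h

theorem lift (s : Matrix.SpecialLinearGroup (Fin 2) F) : ∃ l, ρ l = s := h.surj s

theorem sq_ne_one : ∃ e : Fˣ, (e : F) * e ≠ 1 := by
  by_contra hne
  push Not at hne
  classical
  have hle : Fintype.card F ≤ ({0, 1, -1} : Finset F).card := by
    rw [← Finset.card_univ]
    refine Finset.card_le_card fun x _ => ?_
    by_cases hx : x = 0
    · simp [hx]
    · rcases mul_self_eq_one_iff.1 (hne (Units.mk0 x hx)) with e | e <;> simp at e <;> simp [e]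
  have := hle.trans Finset.card_le_three
  have := h.card
  omega

theorem ker_invariant (g : G) : ρ.ker.map (MulAut.conjNormal g : MulAut L).toMonoidHom = ρ.ker := by
  rcases h.ker_cases with e | ⟨h9, h3⟩
  · rw [e, Subgroup.map_bot]
  refine eq_of_le_of_card_ge ?_ (card_map_of_injective (MulAut.conjNormal g : MulAut L).injective).ge
  rintro _ ⟨z, hz, rfl⟩
  set φ : MulAut L := MulAut.conjNormal g
  have hzc : φ z ∈ center L := by
    have hz' := h.ker_le hz
    refine mem_center_iff.2 fun c => ?_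
    have := congrArg φ (mem_center_iff.1 hz' (φ.symm c))
    simpa using this
  have hz3 : (φ z) ^ 3 = 1 := by
    have := congrArg Subtype.val (pow_card_eq_one' (x := (⟨z, hz⟩ : ρ.ker)))
    rw [h3] at this
    rw [← map_pow, show z ^ 3 = 1 from this, map_one]
  have hc : ρ (φ z) ∈ center (Matrix.SpecialLinearGroup (Fin 2) F) := mem_center_iff.2 fun x => by
    obtain ⟨l, rfl⟩ := h.lift x
    rw [← map_mul, ← map_mul, mem_center_iff.1 hzc l]
  show ρ (φ z) = 1
  obtain ⟨r, hr, e⟩ := Matrix.SpecialLinearGroup.mem_center_iff.1 hc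
  rw [Fintype.card_fin] at hr
  have h2 : ρ (φ z) * ρ (φ z) = 1 := by
    apply Subtype.ext
    show (ρ (φ z)).1 * (ρ (φ z)).1 = 1
    rw [← e, ← map_mul, ← pow_two, hr, map_one]
  have h3' : ρ (φ z) ^ 3 = 1 := by rw [← map_pow, hz3, map_one]
  rwa [pow_succ, pow_two, h2, one_mul] at h3'

/-- Every element acts as `diag(d,1) ∘ σ` up to an element of `L`. -/
theorem exists_acts (g : G) : ∃ (l : L) (d : Fˣ) (σ : F ≃+* F), Acts ρ ((l : G)⁻¹ * g) d σ := by
  let φ : MulAut L := MulAut.conjNormal g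
  let e := QuotientGroup.quotientKerEquivOfSurjective ρ h.surj
  let ψ : MulAut (Matrix.SpecialLinearGroup (Fin 2) F) :=
    (e.symm.trans (QuotientGroup.congr ρ.ker ρ.ker φ (h.ker_invariant g))).trans e
  have hψ : ∀ l, ψ (ρ l) = ρ (φ l) := fun l => by
    have he : e.symm (ρ l) = QuotientGroup.mk' ρ.ker l := e.injective (by
      rw [MulEquiv.apply_symm_apply]; rfl)
    show e ((QuotientGroup.congr ρ.ker ρ.ker φ (h.ker_invariant g)) (e.symm (ρ l))) = _
    rw [he]
    rfl
  obtain ⟨s, d, σ, hs⟩ := aut_slTwo h.card ψ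
  obtain ⟨l₀, hl₀⟩ := h.lift s
  refine ⟨l₀, d, σ, fun l => ?_⟩
  have hsplit : MulAut.conjNormal ((l₀ : G)⁻¹ * g) l = l₀⁻¹ * φ l * l₀ := by
    apply Subtype.ext
    rw [MulAut.conjNormal_apply]
    show _ = (l₀ : G)⁻¹ * (φ l : G) * (l₀ : G)
    rw [show ((φ l : L) : G) = g * l * g⁻¹ from MulAut.conjNormal_apply g l]
    group
  rw [hsplit, map_mul, map_mul, map_inv, ← hψ, hs, hl₀]
  group

theorem acts_of_lift {l : L} {e : Fˣ} (hl : ρ l = tel e) : Acts ρ (l : G) (e * e) 1 := fun x => by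
  have : MulAut.conjNormal (l : G) x = l * x * l⁻¹ :=
    Subtype.ext (MulAut.conjNormal_apply (l : G) x)
  rw [this, map_mul, map_mul, map_inv, hl, tel_conj]

theorem acts_one_iff {g : G} : Acts ρ g 1 1 ↔ ∀ l ∈ L, Commute g l := by
  constructor
  · intro hg l hl
    have heq := CfsgLib.SchurCover.hom_ext_of_perfect (ξ := ρ)
      (⟨h.quasi.perfect⟩ : Group.IsPerfect L) h.ker_le
      (MulAut.conjNormal g : MulAut L).toMonoidHom (MonoidHom.id L) (MonoidHom.ext fun x => by
        show ρ (MulAut.conjNormal g x) = ρ x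
        rw [hg, semi_one])
    have := congrArg Subtype.val (DFunLike.congr_fun heq (⟨l, hl⟩ : L))
    simp only [MulEquiv.coe_toMonoidHom, MulAut.conjNormal_apply, MonoidHom.id_apply] at this
    exact mul_inv_eq_iff_eq_mul.1 this
  · intro hg l
    have : MulAut.conjNormal g l = l := Subtype.ext (by
      rw [MulAut.conjNormal_apply, (hg l l.2).eq, mul_inv_cancel_right])
    rw [this, semi_one]

/-- The preimage of the unipotent group in `G`. -/
theorem normalizer_ne_top :
    normalizer ((((uSub F).comap ρ).map L.subtype : Subgroup G) : Set G) ≠ ⊤ := fun e => by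
  have hn : (((uSub F).comap ρ).map L.subtype).Normal := normalizer_eq_top_iff.1 e
  have hn' : ((uSub F).comap ρ).Normal := by
    have := hn.comap L.subtype
    rwa [comap_map_eq_self_of_injective L.subtype_injective] at this
  obtain ⟨w, hw⟩ := h.lift (wel F)
  obtain ⟨u, hu⟩ := h.lift (uel 1)
  obtain ⟨a, ha⟩ := hn'.conj_mem u (show ρ u ∈ uSub F from ⟨1, hu⟩) w
  rw [map_mul, map_mul, map_inv, hu, hw] at ha
  have := congrArg (fun x : Matrix.SpecialLinearGroup (Fin 2) F => x.1 1 1)
    (mul_inv_eq_iff_eq_mul.1 ha)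
  simp only [Matrix.SpecialLinearGroup.coe_mul] at this
  simp [uel, wel, Matrix.mul_apply, Fin.sum_univ_two] at this

/-- Elements acting diagonally normalise the unipotent group. -/
theorem mem_normalizer {g : G} {d : Fˣ} {σ : F ≃+* F} (hg : Acts ρ g d σ) :
    g ∈ normalizer ((((uSub F).comap ρ).map L.subtype : Subgroup G) : Set G) := by
  refine mem_normalizer_fintype fun x hx => ?_
  obtain ⟨l, ⟨a, ha⟩, rfl⟩ := hx
  refine ⟨MulAut.conjNormal g l, ⟨d * σ a, ?_⟩, MulAut.conjNormal_apply g l⟩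
  show ρ (MulAut.conjNormal g l) = _
  rw [hg, ha, semi_uel]

theorem unip_mem_normalizer {l : L} {a : F} (hl : ρ l = uel a) :
    (l : G) ∈ normalizer ((((uSub F).comap ρ).map L.subtype : Subgroup G) : Set G) :=
  le_normalizer ⟨l, ⟨a, hl⟩, rfl⟩

/-- A torus lift moves a lift of a non-trivial unipotent element. -/
theorem tel_not_commute {t u : L} {e : Fˣ} {a : F} (ht : ρ t = tel e) (hu : ρ u = uel a)
    (he : (e : F) * e ≠ 1) (ha : a ≠ 0) : ¬ Commute (u : G) (t : G) := fun c => by
  have c' : Commute u t := Subtype.ext c.eq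
  have h1 := (c'.map ρ).eq
  rw [ht, hu] at h1
  have h2 := tel_conj_uel e a
  rw [← h1, mul_inv_cancel_right] at h2
  exact he (mul_right_cancel₀ ha ((one_mul a).trans (uel_inj h2)).symm)

/-- The centraliser of `L` is central. -/
theorem centralizer_central {c : G} (hc : ∀ l ∈ L, Commute c l) : c ∈ center G := by
  set H := normalizer ((((uSub F).comap ρ).map L.subtype : Subgroup G) : Set G) with hH
  have hHCA := h.properCA H h.normalizer_ne_top
  obtain ⟨e, he⟩ := h.sq_ne_one
  obtain ⟨t, ht⟩ := h.lift (tel e)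
  obtain ⟨u, hu⟩ := h.lift (uel 1)
  have hcH : c ∈ H := h.mem_normalizer (h.acts_one_iff.2 hc)
  have hcent : ∀ w ∈ H, Commute c w := fun w hw =>
    hHCA.central hcH (h.unip_mem_normalizer hu) (h.mem_normalizer (h.acts_of_lift ht))
      (hc _ u.2) (hc _ t.2) (h.tel_not_commute ht hu he one_ne_zero) hw
  refine mem_center_iff.2 fun g => ?_
  obtain ⟨l, d, σ, hg⟩ := h.exists_acts g
  have := (hc l l.2).mul_right (hcent _ (h.mem_normalizer hg))
  rw [mul_inv_cancel_left] at this
  exact this.eq.symm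

end SLNormal

end CfsgLib.MinimalNonCA
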