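import Cfsg.Agent.Lib.AutPSL.OutPSL
import Cfsg.Agent.Lib.AutPSL.GraphFieldUnitary
import Cfsg.Agent.Lib.SchurCover.Perfect
import Cfsg.Agent.Lib.PSL2.Basic
import Cfsg.Agent.Lib.Laws.Embed

/-!
Automorphisms of `SL₂(q)` as diagonal times field maps up to inner ones.
-/

set_option autoImplicit false
set_option linter.unusedSectionVars false

namespace CfsgLib.MinimalNonCA

open Matrix CfsgLib.AutPSL CfsgLib.FieldGalois
open scoped MatrixGroups

variable {F : Type*} [Field F]

local notation "SL" => Matrix.SpecialLinearGroup (Fin 2) F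

/-- Unipotent elements. -/
def uel (a : F) : SL := ⟨!![1, a; 0, 1], by simp [Matrix.det_fin_two]⟩

/-- Diagonal elements. -/
def tel (e : Fˣ) : SL :=
  ⟨!![(e : F), 0; 0, ((e⁻¹ : Fˣ) : F)], by rw [Matrix.det_fin_two_of]; simp⟩

/-- `diag(d, 1)`. -/
def dmat (d : Fˣ) : GL (Fin 2) F :=
  ⟨!![(d : F), 0; 0, 1], !![((d⁻¹ : Fˣ) : F), 0; 0, 1],
    by ext i j; fin_cases i <;> fin_cases j <;> simp [Matrix.mul_apply, Fin.sum_univ_two],
    by ext i j; fin_cases i <;> fin_cases j <;> simp [Matrix.mul_apply, Fin.sum_univ_two]⟩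

/-- `diag(d, 1) ∘ σ`. -/
def semi (d : Fˣ) (σ : F ≃+* F) : MulAut SL := slConj (dmat d) * slField σ

theorem semi_coe (d : Fˣ) (σ : F ≃+* F) (x : SL) :
    (semi d σ x).1 = !![σ (x.1 0 0), d * σ (x.1 0 1); ((d⁻¹ : Fˣ) : F) * σ (x.1 1 0), σ (x.1 1 1)] := by
  show !![(d : F), 0; 0, 1] * x.1.map σ * !![((d⁻¹ : Fˣ) : F), 0; 0, 1] = _
  ext i j
  fin_cases i <;> fin_cases j <;>
    simp [Matrix.mul_apply, Fin.sum_univ_two, Matrix.vecMul, dotProduct] <;> field_simp

theorem uel_mul (a b : F) : uel a * uel b = uel (a + b) := by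
  apply Subtype.ext
  show !![1, a; 0, 1] * !![1, b; 0, 1] = !![1, a + b; 0, 1]
  ext i j; fin_cases i <;> fin_cases j <;> simp [Matrix.mul_apply, Fin.sum_univ_two, add_comm]

theorem uel_inj {a b : F} (h : uel a = uel b) : a = b :=
  congrFun (congrFun (congrArg Subtype.val h) 0) 1

theorem uel_zero : uel (0 : F) = 1 := by
  apply Subtype.ext
  show !![(1 : F), 0; 0, 1] = 1
  ext i j; fin_cases i <;> fin_cases j <;> simp

theorem semi_uel (d : Fˣ) (σ : F ≃+* F) (a : F) : semi d σ (uel a) = uel (d * σ a) := by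
  apply Subtype.ext
  rw [semi_coe]
  ext i j
  fin_cases i <;> fin_cases j <;> simp [uel, Matrix.mul_apply, Fin.sum_univ_two]

theorem semi_tel (d : Fˣ) (σ : F ≃+* F) (e : Fˣ) :
    semi d σ (tel e) = tel (Units.map σ.toMonoidHom e) := by
  apply Subtype.ext
  rw [semi_coe]
  ext i j
  fin_cases i <;> fin_cases j <;>
    simp [tel, Matrix.mul_apply, Fin.sum_univ_two, mul_comm]

theorem tel_conj (e : Fˣ) (x : SL) : tel e * x * (tel e)⁻¹ = semi (e * e) 1 x := by
  rw [mul_inv_eq_iff_eq_mul]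
  apply Subtype.ext
  rw [Matrix.SpecialLinearGroup.coe_mul, Matrix.SpecialLinearGroup.coe_mul, semi_coe]
  ext i j
  fin_cases i <;> fin_cases j <;>
    simp [tel, Matrix.mul_apply, Fin.sum_univ_two] <;> field_simp

theorem tel_conj_uel (e : Fˣ) (a : F) : tel e * uel a * (tel e)⁻¹ = uel (e * e * a) := by
  rw [tel_conj, semi_uel]
  simp

theorem semi_comp (d d' : Fˣ) (σ σ' : F ≃+* F) (x : SL) :
    semi d σ (semi d' σ' x) = semi (d * Units.map σ.toMonoidHom d') (σ * σ') x := by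
  apply Subtype.ext
  rw [semi_coe, semi_coe, semi_coe]
  ext i j
  fin_cases i <;> fin_cases j <;>
    simp [Matrix.mul_apply, Fin.sum_univ_two] <;> ring

theorem conj_absorb (g gi D Di M : Matrix (Fin 2) (Fin 2) F) (hg : gi * g = 1) (hD : Di * D = 1) :
    g * M * gi * (g * Di) = g * Di * (D * M * Di) := by
  calc g * M * gi * (g * Di) = g * M * (gi * g) * Di := by simp only [Matrix.mul_assoc]
    _ = g * (Di * D) * M * Di := by rw [hg, hD, Matrix.mul_one, Matrix.mul_one]
    _ = g * Di * (D * M * Di) := by simp only [Matrix.mul_assoc]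

variable [Fintype F]

/-- Every automorphism of `SL₂(q)` is inner times a diagonal times a field map. -/
theorem aut_slTwo (h4 : 4 ≤ Fintype.card F) (ψ : MulAut SL) :
    ∃ (s : SL) (d : Fˣ) (σ : F ≃+* F), ∀ x, ψ x = s * semi d σ x * s⁻¹ := by
  obtain ⟨g, σ, hg⟩ : ∃ (g : GL (Fin 2) F) (σ : F ≃+* F),
      descendAut _ ψ = conjAut g * fieldAut σ := by
    obtain ⟨g, σ, h | h⟩ := aut_psl_structure (n := 2) le_rfl (descendAut _ ψ)
    · exact ⟨g, σ, h⟩
    · obtain ⟨w, hw⟩ := iotaAut_two (F := F)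
      obtain ⟨w', hw'⟩ : ∃ w' : GL (Fin 2) F, fieldAut σ * conjAut w = conjAut w' * fieldAut σ :=
        ⟨_, fieldAut_mul_conjAut σ w⟩
      exact ⟨g * w', σ, by rw [h, ← hw, mul_assoc, hw', ← mul_assoc, map_mul]⟩
  have heq : ∀ x : SL, ψ x = slConj g (slField σ x) := by
    have h := CfsgLib.SchurCover.hom_ext_of_perfect (ξ := QuotientGroup.mk' (Subgroup.center SL))
      (⟨CfsgLib.Laws.sl_two_perfect h4⟩ : Group.IsPerfect SL) (QuotientGroup.ker_mk' _).le
      ψ.toMonoidHom (slConj g * slField σ : MulAut SL).toMonoidHom (MonoidHom.ext fun x =>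
        show descendAut SL ψ (QuotientGroup.mk x : PSLG 2 F) =
            (QuotientGroup.mk ((slConj g * slField σ : MulAut SL) x) : PSLG 2 F) by
          rw [hg]; rfl)
    exact fun x => DFunLike.congr_fun h x
  let d : Fˣ := GeneralLinearGroup.det g
  have hs : ((g * (dmat d)⁻¹ : GL (Fin 2) F) : Matrix (Fin 2) (Fin 2) F).det = 1 := by
    have hd : GeneralLinearGroup.det (dmat d) = d := Units.ext (by
      rw [GeneralLinearGroup.val_det_apply]
      show (!![(d : F), 0; 0, 1]).det = d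
      rw [Matrix.det_fin_two_of]; simp)
    rw [← GeneralLinearGroup.val_det_apply, map_mul, map_inv, hd]
    exact Units.ext_iff.1 (mul_inv_cancel d)
  refine ⟨⟨_, hs⟩, d, σ, fun x => ?_⟩
  rw [heq]
  refine eq_mul_inv_of_mul_eq ?_
  apply Subtype.ext
  show (g : Matrix (Fin 2) (Fin 2) F) * (slField σ x).1 * ((g⁻¹ : GL (Fin 2) F) : Matrix _ _ F) *
    ((g * (dmat d)⁻¹ : GL (Fin 2) F) : Matrix _ _ F) =
    ((g * (dmat d)⁻¹ : GL (Fin 2) F) : Matrix _ _ F) *
      ((dmat d : Matrix _ _ F) * (slField σ x).1 * ((dmat d)⁻¹ : GL (Fin 2) F).1)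
  rw [Units.val_mul]
  exact conj_absorb _ _ _ _ _ (Units.inv_mul g) (Units.inv_mul (dmat d))

/-- A product `x σ(x)` is a square in odd characteristic. -/
theorem isSquare_mul_map (σ : F ≃+* F) (x : F) : IsSquare (x * σ x) := by
  by_cases hx : IsSquare x
  · exact hx.mul (hx.map σ)
  · refine CfsgLib.PSL2.isSquare_mul_of_not hx fun h => hx ?_
    have := h.map σ.symm
    rwa [RingEquiv.symm_apply_apply] at this

/-- A fixed element of an involutory automorphism is a square. -/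
theorem isSquare_fixed {σ : F ≃+* F} (hσ : orderOf σ = 2) {e : Fˣ} (he : σ (e : F) = e) :
    IsSquare (e : F) := by
  obtain ⟨x, hx⟩ := exists_norm_eq σ he
  rw [← hx, normU_two hσ]
  exact isSquare_mul_map σ x

/-- The square class cannot be twisted by an involutory automorphism. -/
theorem isSquare_of_norm {σ : F ≃+* F} (hσ : orderOf σ = 2) {d e : Fˣ} (he : σ (e : F) = e)
    (hd : (d : F) * σ d = (e : F) * e) : IsSquare (d : F) := by
  have hsq := isSquare_fixed hσ he
  have hσσ : ∀ x, σ (σ x) = x := orderOf_two_apply hσ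
  by_cases hw : (e : F) / d = -1
  · rw [div_eq_iff d.ne_zero] at hw
    exact isSquare_fixed hσ (e := d) (by
      have h := congrArg σ hw
      rw [map_mul, map_neg, map_one, he, hw] at h
      simpa using h.symm)
  set w := (e : F) / d with hwdef
  have hσw : σ w * w = 1 := by
    rw [hwdef, map_div₀, he, div_mul_div_comm, mul_comm (σ (d : F)), hd]
    exact div_self (mul_ne_zero e.ne_zero e.ne_zero)
  have hv0 : 1 + w ≠ 0 := fun h => hw (eq_neg_of_add_eq_zero_right h)
  have hv : w * σ (1 + w) = 1 + w := by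
    rw [map_add, map_one, mul_add, mul_one, mul_comm w (σ w), hσw, add_comm]
  have hdw : (d : F) * w = e := by rw [hwdef, mul_div_cancel₀ _ d.ne_zero]
  obtain ⟨r, hr⟩ := isSquare_mul_map σ (1 + w)
  obtain ⟨q, hq⟩ := hsq
  refine ⟨q * r / (1 + w), ?_⟩
  field_simp
  linear_combination (e : F) * hr + r ^ 2 * hq + ((d : F) * (1 + w)) * hv.symm +
    ((1 + w) * σ (1 + w)) * hdw

end CfsgLib.MinimalNonCA
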